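import Mathlib

set_option autoImplicit false
set_option linter.unusedVariables false
set_option linter.unusedSimpArgs false
set_option linter.style.haveILetI false

/-! Rational structures over a subfield of prime index, and the involution argument for subfield groups. -/

namespace Cfsg.Lib.Classical

universe u

variable {F : Type u} [Field F] {ι : Type} [Fintype ι] [DecidableEq ι] {F₀ : Subfield F}

/-- A rational vector. -/
def ratVec (F₀ : Subfield F) (u : ι → F₀) : ι → F := fun k => (u k : F)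

omit [Fintype ι] [DecidableEq ι] in
theorem ratVec_injective : Function.Injective (ratVec (ι := ι) F₀) := fun u v h =>
  funext fun k => Subtype.ext (congrFun h k)

omit [Fintype ι] [DecidableEq ι] in
theorem ratVec_zero : ratVec (ι := ι) F₀ 0 = 0 := rfl

omit [Fintype ι] [DecidableEq ι] in
theorem ratVec_add (u v : ι → F₀) : ratVec F₀ (u + v) = ratVec F₀ u + ratVec F₀ v := rfl

omit [Fintype ι] [DecidableEq ι] in
theorem ratVec_sub (u v : ι → F₀) : ratVec F₀ (u - v) = ratVec F₀ u - ratVec F₀ v := rfl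

omit [Fintype ι] [DecidableEq ι] in
theorem ratVec_smul (a : F₀) (u : ι → F₀) : ratVec F₀ (a • u) = (a : F) • ratVec F₀ u := rfl

omit [Fintype ι] [DecidableEq ι] in
theorem ratVec_ne_zero {u : ι → F₀} (h : u ≠ 0) : ratVec F₀ u ≠ 0 := fun e =>
  h (ratVec_injective e)

theorem ext_on_ratVec {W : Type*} [AddCommGroup W] [Module F W] {f g : (ι → F) →ₗ[F] W}
    (h : ∀ u : ι → F₀, f (ratVec F₀ u) = g (ratVec F₀ u)) : f = g := by
  apply (Pi.basisFun F ι).ext
  intro k
  have e : (Pi.basisFun F ι k : ι → F) = ratVec F₀ (Pi.single k 1) := by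
    funext l
    simp only [Pi.basisFun_apply, ratVec, Pi.single_apply]
    split_ifs <;> simp
  rw [e, h]

/-- Extension of a rational functional. -/
def ratExt (φ : Module.Dual F₀ (ι → F₀)) : Module.Dual F (ι → F) :=
  ∑ k, ((φ (Pi.single k 1) : F₀) : F) • LinearMap.proj k

theorem ratExt_apply (φ : Module.Dual F₀ (ι → F₀)) (u : ι → F₀) :
    ratExt φ (ratVec F₀ u) = ((φ u : F₀) : F) := by
  conv_rhs => rw [← (Pi.basisFun F₀ ι).sum_repr u, map_sum]
  simp only [ratExt, LinearMap.sum_apply, LinearMap.smul_apply, LinearMap.proj_apply, smul_eq_mul]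
  rw [AddSubmonoidClass.coe_finsetSum]
  refine Finset.sum_congr rfl fun k _ => ?_
  rw [map_smul, Pi.basisFun_repr, Pi.basisFun_apply, smul_eq_mul, Subfield.coe_mul, mul_comm]
  rfl

theorem ratExt_ne_zero {φ : Module.Dual F₀ (ι → F₀)} (h : φ ≠ 0) : ratExt φ ≠ 0 := fun e =>
  h (LinearMap.ext fun u => Subtype.ext (by rw [← ratExt_apply, e]; rfl))

theorem exists_ratExt (φ : Module.Dual F (ι → F)) (h : ∀ u : ι → F₀, φ (ratVec F₀ u) ∈ F₀) :
    ∃ φ₀ : Module.Dual F₀ (ι → F₀), φ = ratExt φ₀ := by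
  refine ⟨{ toFun := fun u => ⟨_, h u⟩, map_add' := fun u v => ?_, map_smul' := fun a u => ?_ },
    ext_on_ratVec (F₀ := F₀) fun u => ?_⟩
  · exact Subtype.ext (by simp [ratVec_add])
  · exact Subtype.ext (by simp [ratVec_smul])
  · rw [ratExt_apply]; rfl

/-- A linear map carrying the rational vectors into a multiple of themselves. -/
def RatScaled (F₀ : Subfield F) (g : (ι → F) →ₗ[F] (ι → F)) : Prop :=
  ∃ a : F, a ≠ 0 ∧ ∀ u : ι → F₀, ∃ r : ι → F₀, g (ratVec F₀ u) = a • ratVec F₀ r

/-- A linear map carrying rational vectors to rational vectors. -/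
def RatExact (F₀ : Subfield F) (g : (ι → F) →ₗ[F] (ι → F)) : Prop :=
  ∀ u : ι → F₀, ∃ r : ι → F₀, g (ratVec F₀ u) = ratVec F₀ r

omit [Fintype ι] [DecidableEq ι] in
theorem RatExact.scaled {g : (ι → F) →ₗ[F] (ι → F)} (h : RatExact F₀ g) : RatScaled F₀ g :=
  ⟨1, one_ne_zero, fun u => by obtain ⟨r, hr⟩ := h u; exact ⟨r, by rw [hr, one_smul]⟩⟩

omit [Fintype ι] [DecidableEq ι] in
theorem RatScaled.comp {g h : (ι → F) →ₗ[F] (ι → F)} (hg : RatScaled F₀ g) (hh : RatScaled F₀ h) :
    RatScaled F₀ (g ∘ₗ h) := by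
  obtain ⟨a, ha, hg⟩ := hg
  obtain ⟨b, hb, hh⟩ := hh
  refine ⟨a * b, mul_ne_zero ha hb, fun u => ?_⟩
  obtain ⟨r, hr⟩ := hh u
  obtain ⟨r', hr'⟩ := hg r
  exact ⟨r', by rw [LinearMap.comp_apply, hr, map_smul, hr', smul_smul, mul_comm b]⟩

omit [Fintype ι] [DecidableEq ι] in
/-- A scaled map sending one nonzero rational vector to a rational vector is exact. -/
theorem RatScaled.exact_of_fix {g : (ι → F) →ₗ[F] (ι → F)} (hg : RatScaled F₀ g) {u₀ r₀ : ι → F₀}
    (hr₀ : r₀ ≠ 0) (h : g (ratVec F₀ u₀) = ratVec F₀ r₀) : RatExact F₀ g := by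
  obtain ⟨a, ha, hg⟩ := hg
  obtain ⟨r, hr⟩ := hg u₀
  obtain ⟨k, hk⟩ := Function.ne_iff.mp hr₀
  have e := congrFun (h.symm.trans hr) k
  simp only [ratVec, Pi.smul_apply, smul_eq_mul] at e
  have hrk : (r k : F) ≠ 0 := fun h0 => hk (Subtype.ext (by rw [e, h0, mul_zero]; rfl))
  have ha' : a = ((r₀ k / r k : F₀) : F) := by
    push_cast
    rw [eq_div_iff hrk, ← e]
  intro u
  obtain ⟨r', hr'⟩ := hg u
  exact ⟨(r₀ k / r k) • r', by rw [hr', ratVec_smul, ← ha']⟩

section Degree

variable [Finite F] {r : ℕ}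

/-- A subring strictly containing the subfield of prime index is everything. -/
theorem eq_univ_of_mul_closed (hr : r.Prime) (hcard : Nat.card F = Nat.card F₀ ^ r) {L : Set F}
    (h0 : (F₀ : Set F) ⊆ L) (hadd : ∀ x ∈ L, ∀ y ∈ L, x + y ∈ L) (hmul : ∀ x ∈ L, ∀ y ∈ L, x * y ∈ L)
    {t : F} (ht : t ∈ L) (ht0 : t ∉ F₀) : ∀ x : F, x ∈ L := by
  haveI : Finite F₀ := Finite.of_injective _ Subtype.val_injective
  haveI : FiniteDimensional F₀ F := Module.Finite.of_finite
  have hfr : Module.finrank F₀ F = r := by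
    have h := Module.natCard_eq_pow_finrank (K := F₀) (V := F)
    rw [hcard] at h
    exact (Nat.pow_right_injective (Nat.one_lt_iff_ne_zero_and_ne_one.mpr
      ⟨Nat.card_pos.ne', fun h1 => by
        haveI := (Nat.card_eq_one_iff_unique.mp h1).1
        exact zero_ne_one (Subsingleton.elim (0 : F₀) 1)⟩) h).symm
  let A : Subalgebra F₀ F :=
    { carrier := L
      add_mem' := fun hx hy => hadd _ hx _ hy
      mul_mem' := fun hx hy => hmul _ hx _ hy
      algebraMap_mem' := fun a => h0 a.2 }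
  haveI := Subalgebra.isSimpleOrder_of_finrank_prime F₀ F (hfr ▸ hr)
  intro x
  rcases eq_bot_or_eq_top A with h | h
  · have htA : t ∈ A := ht
    rw [h, Algebra.mem_bot] at htA
    obtain ⟨a, ha⟩ := htA
    exact absurd (ha ▸ a.2) ht0
  · exact (h ▸ Algebra.mem_top : x ∈ A)

/-- For odd prime index, an element whose square is rational is rational. -/
theorem mem_of_sq_mem (hr : r.Prime) (hr2 : r ≠ 2) (hcard : Nat.card F = Nat.card F₀ ^ r) {t : F}
    (ht : t * t ∈ F₀) : t ∈ F₀ := by
  by_contra ht0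
  haveI : Finite F₀ := Finite.of_injective _ Subtype.val_injective
  have hall := eq_univ_of_mul_closed hr hcard (L := Set.range fun p : F₀ × F₀ => (p.1 : F) + p.2 * t)
    (fun x hx => ⟨(⟨x, hx⟩, 0), by simp⟩)
    (by rintro _ ⟨p, rfl⟩ _ ⟨p', rfl⟩; exact ⟨p + p', by simp; ring⟩)
    (by
      rintro _ ⟨p, rfl⟩ _ ⟨p', rfl⟩
      exact ⟨(p.1 * p'.1 + p.2 * p'.2 * ⟨_, ht⟩, p.1 * p'.2 + p.2 * p'.1), by simp; ring⟩)
    (t := t) ⟨(0, 1), by simp⟩ ht0
  have h := Nat.card_le_card_of_surjective (fun p : F₀ × F₀ => (p.1 : F) + p.2 * t) hall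
  rw [Nat.card_prod, hcard, ← sq] at h
  have h1 : 1 < Nat.card F₀ := Finite.one_lt_card
  have := (Nat.pow_le_pow_iff_right h1).mp h
  have := hr.two_le
  omega

/-- If the index is smaller than the dimension, every functional kills a nonzero rational vector. -/
theorem exists_ratVec_kernel (hcard : Nat.card F = Nat.card F₀ ^ r) (hlt : r < Fintype.card ι)
    (χ : Module.Dual F (ι → F)) : ∃ a : ι → F₀, a ≠ 0 ∧ χ (ratVec F₀ a) = 0 := by
  haveI : Finite F₀ := Finite.of_injective _ Subtype.val_injective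
  by_contra hc
  push Not at hc
  have hinj : Function.Injective fun a : ι → F₀ => χ (ratVec F₀ a) := fun a b h => by
    by_contra hne
    refine hc (a - b) (sub_ne_zero.mpr hne) ?_
    rw [ratVec_sub, map_sub]
    exact sub_eq_zero.mpr h
  have h := Nat.card_le_card_of_injective _ hinj
  rw [Nat.card_fun, hcard, Nat.card_eq_fintype_card (α := ι)] at h
  have h1 : 1 < Nat.card F₀ := Finite.one_lt_card
  have := (Nat.pow_le_pow_iff_right h1).mp h
  omega

end Degree

omit [Fintype ι] [DecidableEq ι] in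
theorem dim_fix_conj {g z w : (ι → F) ≃ₗ[F] (ι → F)} (h : g * w = z * g) :
    Module.finrank F (LinearMap.ker (w.toLinearMap - LinearMap.id)) =
      Module.finrank F (LinearMap.ker (z.toLinearMap - LinearMap.id)) := by
  have e : (LinearMap.ker (w.toLinearMap - LinearMap.id)).map g.toLinearMap =
      LinearMap.ker (z.toLinearMap - LinearMap.id) := by
    ext x
    simp only [Submodule.mem_map, LinearMap.mem_ker, LinearMap.sub_apply, LinearMap.id_apply, sub_eq_zero,
      LinearEquiv.coe_coe]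
    constructor
    · rintro ⟨y, hy, rfl⟩
      have := LinearEquiv.congr_fun h y
      rw [LinearEquiv.mul_apply, LinearEquiv.mul_apply, hy] at this
      exact this.symm
    · intro hx
      refine ⟨g.symm x, g.injective ?_, g.apply_symm_apply x⟩
      have := LinearEquiv.congr_fun h (g.symm x)
      rw [LinearEquiv.mul_apply, LinearEquiv.mul_apply, g.apply_symm_apply, hx] at this
      rw [this, g.apply_symm_apply]
  rw [← e, LinearEquiv.finrank_map_eq]

omit [DecidableEq ι] in
theorem dim_fix_neg_involution (h2 : (2 : F) ≠ 0) {z : (ι → F) ≃ₗ[F] (ι → F)} (hz : z * z = 1) :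
    Module.finrank F (LinearMap.ker ((z.trans (LinearEquiv.neg F)).toLinearMap - LinearMap.id)) +
      Module.finrank F (LinearMap.ker (z.toLinearMap - LinearMap.id)) = Fintype.card ι := by
  have hzz : ∀ x, z (z x) = x := fun x => LinearEquiv.congr_fun hz x
  rw [← Module.finrank_fintype_fun_eq_card F]
  refine Submodule.finrank_add_eq_of_isCompl ⟨?_, ?_⟩
  · rw [Submodule.disjoint_def]
    intro x h1 h2'
    simp only [LinearMap.mem_ker, LinearMap.sub_apply, LinearMap.id_apply, sub_eq_zero, LinearEquiv.coe_coe,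
      LinearEquiv.trans_apply, LinearEquiv.neg_apply] at h1 h2'
    rw [h2'] at h1
    have : (2 : F) • x = 0 := by rw [two_smul]; nth_rewrite 1 [← h1]; exact neg_add_cancel x
    exact (smul_eq_zero.mp this).resolve_left h2
  · rw [codisjoint_iff, eq_top_iff]
    intro x _
    refine Submodule.mem_sup.mpr ⟨(2 : F)⁻¹ • (x - z x), ?_, (2 : F)⁻¹ • (x + z x), ?_, ?_⟩
    · simp only [LinearMap.mem_ker, LinearMap.sub_apply, LinearMap.id_apply, sub_eq_zero, LinearEquiv.coe_coe,
        LinearEquiv.trans_apply, LinearEquiv.neg_apply, map_smul, map_sub, map_add, hzz, ← smul_neg, ← smul_sub]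
      module
    · simp only [LinearMap.mem_ker, LinearMap.sub_apply, LinearMap.id_apply, sub_eq_zero, LinearEquiv.coe_coe,
        map_smul, map_add, map_sub, hzz, ← smul_sub]
      module
    · rw [← smul_add, show x - z x + (x + z x) = (2 : F) • x by rw [two_smul]; abel, smul_smul,
        inv_mul_cancel₀ h2, one_smul]

/-- Two rational involutions of different types force every element to be scaled rational. -/
theorem ratScaled_of_involutions [Finite F] [Nonempty ι] {r : ℕ} (hr : r.Prime) (hr2 : r ≠ 2)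
    (hcard : Nat.card F = Nat.card F₀ ^ r) {K : Subgroup ((ι → F) ≃ₗ[F] (ι → F))}
    (hinv : ∀ g ∈ K, ∀ z ∈ K, ∀ w ∈ K, RatExact F₀ z.toLinearMap → RatExact F₀ w.toLinearMap →
      z * z = 1 → w * w = 1 → z ≠ 1 → z ≠ LinearEquiv.neg F → g * w = z * g → RatScaled F₀ g.toLinearMap)
    {i j : (ι → F) ≃ₗ[F] (ι → F)} (hi : i ∈ K) (hj : j ∈ K) (hie : RatExact F₀ i.toLinearMap)
    (hje : RatExact F₀ j.toLinearMap) (hii : i * i = 1) (hjj : j * j = 1) (a b : ℕ) (ha : 0 < a) (hb : 0 < b)
    (hai : Module.finrank F (LinearMap.ker (i.toLinearMap - LinearMap.id)) + a = Fintype.card ι)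
    (hbj : Module.finrank F (LinearMap.ker (j.toLinearMap - LinearMap.id)) + b = Fintype.card ι)
    (hab : a ≠ b) (hab' : a + b ≠ Fintype.card ι) (haa : a + a ≠ Fintype.card ι)
    (han : a < Fintype.card ι) (hbn : b < Fintype.card ι)
    {h : (ι → F) ≃ₗ[F] (ι → F)} (hh : h ∈ K) : RatScaled F₀ h.toLinearMap := by
  set N : (ι → F) ≃ₗ[F] (ι → F) := LinearEquiv.neg F with hN
  have hNc : ∀ g : (ι → F) ≃ₗ[F] (ι → F), g * N = N * g := fun g => LinearEquiv.ext fun x => by
    simp [hN]
  have hneg : ∀ z : (ι → F) ≃ₗ[F] (ι → F), N * z = z.trans (LinearEquiv.neg F) := fun z => rfl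
  -- recognising the non-central involutions
  have hnc : ∀ z : (ι → F) ≃ₗ[F] (ι → F), ∀ c, 0 < c → c < Fintype.card ι →
      Module.finrank F (LinearMap.ker (z.toLinearMap - LinearMap.id)) + c = Fintype.card ι → z ≠ 1 ∧ z ≠ N := by
    intro z c hc hcn hz
    constructor
    · rintro rfl
      rw [show LinearMap.ker ((1 : (ι → F) ≃ₗ[F] (ι → F)).toLinearMap - LinearMap.id) = ⊤ from
        eq_top_iff.mpr fun x _ => by simp, finrank_top, Module.finrank_fintype_fun_eq_card] at hz
      omega
    · rintro rfl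
      by_cases h2 : (2 : F) = 0
      · rw [show LinearMap.ker (N.toLinearMap - LinearMap.id) = ⊤ from
          eq_top_iff.mpr fun x _ => by
            simp only [LinearMap.mem_ker, LinearMap.sub_apply, LinearMap.id_apply, hN, LinearEquiv.coe_coe,
              LinearEquiv.neg_apply]
            rw [← neg_add', neg_eq_zero, ← two_smul F x, h2, zero_smul],
          finrank_top, Module.finrank_fintype_fun_eq_card] at hz
        omega
      · rw [show LinearMap.ker (N.toLinearMap - LinearMap.id) = ⊥ from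
          eq_bot_iff.mpr fun x hx => by
            simp only [LinearMap.mem_ker, LinearMap.sub_apply, LinearMap.id_apply, hN, LinearEquiv.coe_coe,
              LinearEquiv.neg_apply] at hx
            rw [← neg_add', neg_eq_zero, ← two_smul F x, smul_eq_zero] at hx
            exact (Submodule.mem_bot F).mpr (hx.resolve_left h2),
          finrank_bot] at hz
        omega
  have hcomm : ∀ {z y}, z ∈ K → y ∈ K → RatExact F₀ z.toLinearMap → z * z = 1 → z ≠ 1 → z ≠ N →
      y * z = z * y → RatScaled F₀ y.toLinearMap := fun hz hy hze hzz hz1 hzN he =>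
    hinv _ hy _ hz _ hz hze hze hzz hzz hz1 hzN he
  have hexact : ∀ y : (ι → F) ≃ₗ[F] (ι → F), y * y = 1 → RatScaled F₀ y.toLinearMap →
      RatExact F₀ y.toLinearMap := by
    rintro y hyy ⟨c, hc, hy⟩
    obtain ⟨r₁, h1⟩ := hy (fun _ => 1)
    obtain ⟨r₂, h2⟩ := hy r₁
    obtain ⟨k⟩ := ‹Nonempty ι›
    have h3 : ratVec F₀ (fun _ : ι => (1 : F₀)) = (c * c) • ratVec F₀ r₂ := by
      rw [LinearEquiv.coe_coe] at h1 h2
      rw [← smul_smul, ← h2, ← map_smul, ← h1]
      exact (LinearEquiv.congr_fun hyy _).symm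
    have h4 := congrFun h3 k
    simp only [ratVec, Pi.smul_apply, smul_eq_mul] at h4
    have hcc : c * c = ((r₂ k)⁻¹ : F₀) := by
      push_cast
      exact eq_inv_of_mul_eq_one_left h4.symm
    have hcm := mem_of_sq_mem hr hr2 hcard (hcc ▸ SetLike.coe_mem _ : c * c ∈ F₀)
    intro u
    obtain ⟨r', hr'⟩ := hy u
    exact ⟨(⟨c, hcm⟩ : F₀) • r', by rw [hr', ratVec_smul]⟩
  have hconj : ∀ {g z w : (ι → F) ≃ₗ[F] (ι → F)}, g * w = z * g →
      Module.finrank F (LinearMap.ker (w.toLinearMap - LinearMap.id)) =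
        Module.finrank F (LinearMap.ker (z.toLinearMap - LinearMap.id)) := fun e => dim_fix_conj e
  -- `i` is conjugate neither to `j`, nor to a negative of `j` or of itself
  have hij : ∀ g : (ι → F) ≃ₗ[F] (ι → F), g * j ≠ i * g := fun g e => by have := hconj e; omega
  have hnot : ∀ (g : (ι → F) ≃ₗ[F] (ι → F)) (z : (ι → F) ≃ₗ[F] (ι → F)) (c : ℕ), z * z = 1 →
      ((2 : F) = 0 → a ≠ c) →
      a + c ≠ Fintype.card ι →
      Module.finrank F (LinearMap.ker (z.toLinearMap - LinearMap.id)) + c = Fintype.card ι →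
      g * (N * z) ≠ i * g := by
    intro g z c hzz hne hne' hz e
    have h := hconj e
    by_cases h2 : (2 : F) = 0
    · rw [show (N * z) = z from LinearEquiv.ext fun x => by
        simp only [LinearEquiv.mul_apply, hN, LinearEquiv.neg_apply]
        exact neg_eq_of_add_eq_zero_left (by rw [← two_smul F (z x), h2, zero_smul])] at h
      have := hne h2
      omega
    · have := dim_fix_neg_involution h2 hzz
      rw [← hneg] at this
      omega
  obtain ⟨j', hj'⟩ : ∃ y, y = h * j * h⁻¹ := ⟨_, rfl⟩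
  have hj'K : j' ∈ K := hj' ▸ K.mul_mem (K.mul_mem hh hj) (K.inv_mem hh)
  have hj'j' : j' * j' = 1 := by
    rw [hj', show h * j * h⁻¹ * (h * j * h⁻¹) = h * (j * j) * h⁻¹ by group, hjj, mul_one, mul_inv_cancel]
  obtain ⟨d, hd⟩ : ∃ y, y = i * j' := ⟨_, rfl⟩
  have hi' : i⁻¹ = i := inv_eq_of_mul_eq_one_right hii
  have hj'i : j'⁻¹ = j' := inv_eq_of_mul_eq_one_right hj'j'
  have hidi : ∀ k : ℕ, i * d ^ k * i = (d ^ k)⁻¹ := by
    intro k
    have e1 : i * d * i = d⁻¹ := by
      rw [hd, mul_inv_rev, hi', hj'i, ← mul_assoc, hii, one_mul]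
    have : (MulAut.conj i d) ^ k = MulAut.conj i (d ^ k) := (map_pow _ _ _).symm
    simp only [MulAut.conj_apply, hi', e1] at this
    rw [← this, inv_pow]
  haveI : Finite ((ι → F) ≃ₗ[F] (ι → F)) := Finite.of_injective _ DFunLike.coe_injective
  have hpos : 0 < orderOf d := (isOfFinOrder_of_finite d).orderOf_pos
  rcases Nat.even_or_odd (orderOf d) with ⟨m, hm⟩ | ⟨k, hk⟩
  swap
  · exfalso
    refine hij (d ^ (k + 1) * h) ?_
    have e2 : d ^ (k + 1) * j' = i * d ^ (k + 1) := by
      have hp : d ^ (k + 1) * d ^ k = 1 := by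
        rw [← pow_add, show k + 1 + k = orderOf d by omega, pow_orderOf_eq_one]
      have hinv' : (d ^ (k + 1))⁻¹ = d ^ k := inv_eq_of_mul_eq_one_right hp
      have h1 := hidi (k + 1)
      rw [hinv'] at h1
      calc d ^ (k + 1) * j' = d ^ (k + 1) * (i * (i * j')) := by rw [← mul_assoc i, hii, one_mul]
        _ = d ^ (k + 1) * i * d := by rw [← hd, mul_assoc]
        _ = i * (i * d ^ (k + 1) * i) * d := by rw [← mul_assoc, ← mul_assoc, hii, one_mul]
        _ = i * d ^ (k + 1) := by rw [h1, mul_assoc, ← pow_succ]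
    calc d ^ (k + 1) * h * j = d ^ (k + 1) * j' * h := by rw [hj']; group
      _ = i * (d ^ (k + 1) * h) := by rw [e2, mul_assoc]
  obtain ⟨z, hz⟩ : ∃ y, y = d ^ m := ⟨_, rfl⟩
  have hzz : z * z = 1 := by rw [hz, ← pow_add, ← hm, pow_orderOf_eq_one]
  have hz1 : z ≠ 1 := fun e => by
    have := Nat.le_of_dvd (by omega) (orderOf_dvd_of_pow_eq_one (hz ▸ e : d ^ m = 1))
    omega
  have hzK : z ∈ K := by rw [hz, hd]; exact K.pow_mem (K.mul_mem hi hj'K) m
  have hzinv : z⁻¹ = z := inv_eq_of_mul_eq_one_right hzz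
  have hiz : z * i = i * z := by
    have h1 := hidi m
    rw [← hz, hzinv] at h1
    calc z * i = i * z * i * i := by rw [h1]
      _ = i * z := by rw [mul_assoc, hii, mul_one]
  by_cases hzN : z = N
  · exfalso
    rcases Nat.even_or_odd m with ⟨l, hl⟩ | ⟨k, hk⟩
    · -- `i` is conjugate to its negative
      set w := d ^ l
      have hw : w * w = N := by rw [← pow_add, ← hl, ← hz, hzN]
      have hwinv : w⁻¹ = N * w := by
        refine inv_eq_of_mul_eq_one_right ?_
        rw [← mul_assoc, hNc, mul_assoc, hw, hN]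
        exact LinearEquiv.ext fun x => by simp
      refine hnot w i a hii (fun h2 _ => hz1 ?_) haa hai ?_
      · rw [hzN]
        refine LinearEquiv.ext fun x => ?_
        rw [hN, LinearEquiv.neg_apply, LinearEquiv.coe_one, id_eq]
        exact neg_eq_of_add_eq_zero_left (by rw [← two_smul F x, h2, zero_smul])
      · have h1 := hidi l
        rw [hwinv] at h1
        calc w * (N * i) = N * w * i := by rw [← mul_assoc, hNc]
          _ = i * w * i * i := by rw [h1]
          _ = i * w := by rw [mul_assoc, hii, mul_one]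
    · -- `i` is conjugate to the negative of `j`
      refine hnot (d ^ (k + 1) * h) j b hjj (fun _ => hab) hab' hbj ?_
      have hp : d ^ (k + 1) * d ^ k = N := by
        rw [← pow_add, show k + 1 + k = m by omega, ← hz, hzN]
      have hinv' : (d ^ (k + 1))⁻¹ = d ^ k * N := by
        refine inv_eq_of_mul_eq_one_right ?_
        rw [← mul_assoc, hp, hN]
        exact LinearEquiv.ext fun x => by simp
      have e2 : d ^ (k + 1) * (N * j') = i * d ^ (k + 1) := by
        have h1 := hidi (k + 1)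
        rw [hinv'] at h1
        calc d ^ (k + 1) * (N * j') = d ^ (k + 1) * j' * N := by rw [mul_assoc, hNc]
          _ = d ^ (k + 1) * i * d * N := by rw [hd, ← mul_assoc, mul_assoc _ i i, hii, mul_one]
          _ = i * (i * d ^ (k + 1) * i) * d * N := by rw [← mul_assoc, ← mul_assoc, hii, one_mul]
          _ = i * (d ^ (k + 1)) * (N * N) := by
            rw [h1, pow_succ, mul_assoc i (d ^ k * N) d, mul_assoc (d ^ k) N d, ← hNc d]
            simp only [mul_assoc]
          _ = i * d ^ (k + 1) := by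
            rw [show N * N = 1 from LinearEquiv.ext fun x => by simp [hN], mul_one]
      calc d ^ (k + 1) * h * (N * j) = d ^ (k + 1) * (N * j') * h := by
            rw [hj', ← mul_assoc N, ← mul_assoc N, ← hNc h]; group
        _ = i * (d ^ (k + 1) * h) := by rw [e2, mul_assoc]
  -- the involution lies in both groups
  obtain ⟨hi1, hiN⟩ := hnc i a ha han hai
  obtain ⟨hj1, hjN⟩ := hnc j b hb hbn hbj
  have hze := hexact z hzz (hcomm hi hzK hie hii hi1 hiN hiz)
  have hdj : j' * z * j' = z := by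
    have e1 : j' * d * j' = d⁻¹ := by rw [hd, mul_inv_rev, hi', hj'i, mul_assoc, mul_assoc, hj'j', mul_one]
    have : (MulAut.conj j' d) ^ m = MulAut.conj j' (d ^ m) := (map_pow _ _ _).symm
    simp only [MulAut.conj_apply, hj'i, e1] at this
    rw [← hz, inv_pow, ← hz, hzinv] at this
    exact this.symm
  set w := h⁻¹ * z * h with hw
  have hwK : w ∈ K := K.mul_mem (K.mul_mem (K.inv_mem hh) hzK) hh
  have hwj : w * j = j * w := by
    have e3 : z * j' = j' * z := by
      calc z * j' = j' * z * j' * j' := by rw [hdj]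
        _ = j' * z := by rw [mul_assoc, hj'j', mul_one]
    calc w * j = h⁻¹ * (z * j') * h := by rw [hw, hj']; group
      _ = j * w := by rw [e3, hw, hj']; group
  have hww : w * w = 1 := by
    rw [hw, show h⁻¹ * z * h * (h⁻¹ * z * h) = h⁻¹ * (z * z) * h by group, hzz, mul_one, inv_mul_cancel]
  have hwe := hexact w hww (hcomm hj hwK hje hjj hj1 hjN hwj)
  exact hinv h hh z hzK w hwK hze hwe hzz hww hz1 hzN (by rw [hw]; group)

end Cfsg.Lib.Classical
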