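import Mathlib
import Cfsg.Agent.Classical.Subfield.Core
import Cfsg.Agent.Classical.Symp.Matrix
import Cfsg.Agent.Classical.Symp.Maximal

set_option autoImplicit false
set_option linter.unusedVariables false
set_option linter.unusedSimpArgs false
set_option linter.style.haveILetI false

/-! Short root elements of symplectic groups, used for the subfield subgroups. -/

namespace Cfsg.Lib.Classical

universe u v

variable {F : Type u} [Field F] {V : Type v} [AddCommGroup V] [Module F V] {B : LinearMap.BilinForm F V}

/-- `x ↦ x + c (B(x,w) u + B(x,u) w)` for orthogonal `u`, `w`. -/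
def sympS (hA : B.IsAlt) (u w : V) (c : F) : BilinIsom B :=
  sympT hA (u + w) c * sympT hA u (-c) * sympT hA w (-c)

theorem sympS_apply (hA : B.IsAlt) {u w : V} (h : B u w = 0) (c : F) (x : V) :
    ((sympS hA u w c : BilinIsom B) : V ≃ₗ[F] V) x = x + (c * B x w) • u + (c * B x u) • w := by
  have h' : B w u = 0 := hA.isRefl _ _ h
  simp only [sympS, BilinIsom.mul_apply', sympT_apply, map_add, map_smul, LinearMap.add_apply,
    LinearMap.smul_apply, hA u, hA w, h, h', smul_eq_mul, mul_zero, add_zero]
  module

theorem sympS_symm (hA : B.IsAlt) {u w : V} (h : B u w = 0) (c : F) : sympS hA u w c = sympS hA w u c :=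
  BilinIsom.ext' fun x => by rw [sympS_apply hA h, sympS_apply hA (hA.isRefl _ _ h)]; module

theorem sympS_add (hA : B.IsAlt) {u w : V} (h : B u w = 0) (c d : F) :
    sympS hA u w (c + d) = sympS hA u w c * sympS hA u w d :=
  BilinIsom.ext' fun x => by
    have h' : B w u = 0 := hA.isRefl _ _ h
    rw [BilinIsom.mul_apply', sympS_apply hA h, sympS_apply hA h, sympS_apply hA h]
    simp only [map_add, map_smul, LinearMap.add_apply, LinearMap.smul_apply, hA u, hA w, h, h', smul_eq_mul,
      mul_zero, add_zero]
    module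

theorem sympS_smul_right (hA : B.IsAlt) {u w : V} (h : B u w = 0) (a c : F) :
    sympS hA u (a • w) c = sympS hA u w (a * c) :=
  BilinIsom.ext' fun x => by
    rw [sympS_apply hA (by rw [map_smul, h, smul_zero]), sympS_apply hA h]
    simp only [map_smul, smul_eq_mul]
    module

theorem sympS_smul_left (hA : B.IsAlt) {u w : V} (h : B u w = 0) (a c : F) :
    sympS hA (a • u) w c = sympS hA u w (a * c) :=
  BilinIsom.ext' fun x => by
    rw [sympS_apply hA (by rw [map_smul, LinearMap.smul_apply, h, smul_zero]), sympS_apply hA h]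
    simp only [map_smul, smul_eq_mul]
    module

theorem sympS_self (hA : B.IsAlt) (u : V) (a c : F) : sympS hA u (a • u) c = sympT hA u (a * c + a * c) :=
  BilinIsom.ext' fun x => by
    rw [sympS_apply hA (by rw [map_smul, hA u, smul_zero]), sympT_apply]
    simp only [map_smul, smul_eq_mul]
    module

theorem sympS_conj (hA : B.IsAlt) (g : BilinIsom B) (u w : V) (c : F) :
    g * sympS hA u w c * g⁻¹ = sympS hA ((g : V ≃ₗ[F] V) u) ((g : V ≃ₗ[F] V) w) c := by
  simp only [sympS, ← map_add, ← sympT_conj hA g]
  group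

theorem sympT_add_vec (hA : B.IsAlt) {u w : V} (h : B u w = 0) (a b c : F) :
    sympT hA (a • u + b • w) c = sympT hA u (a ^ 2 * c) * sympT hA w (b ^ 2 * c) * sympS hA u w (a * b * c) :=
  BilinIsom.ext' fun x => by
    have h' : B w u = 0 := hA.isRefl _ _ h
    rw [BilinIsom.mul_apply', BilinIsom.mul_apply', sympS_apply hA h]
    simp only [sympT_apply, map_add, map_smul, LinearMap.add_apply, LinearMap.smul_apply, hA u, hA w, h, h',
      smul_eq_mul, mul_zero, add_zero]
    module

theorem sympS_add_right (hA : B.IsAlt) {u w v : V} (hw : B u w = 0) (hv : B u v = 0) (b d : F) :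
    sympS hA u (w + b • v) d =
      sympS hA u w d * sympS hA u v (b * d) * sympT hA u (-(b * d ^ 2 * B v w)) :=
  BilinIsom.ext' fun x => by
    have hw' : B w u = 0 := hA.isRefl _ _ hw
    have hv' : B v u = 0 := hA.isRefl _ _ hv
    rw [BilinIsom.mul_apply', BilinIsom.mul_apply', sympS_apply hA (by rw [map_add, map_smul, hw, hv, smul_zero, add_zero]),
      sympS_apply hA hw, sympS_apply hA hv]
    simp only [sympT_apply, map_add, map_smul, LinearMap.add_apply, LinearMap.smul_apply, hA u, hA v, hA w, hw,
      hv, hw', hv', smul_eq_mul, mul_zero, add_zero]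
    module

theorem sympS_commutator (hA : B.IsAlt) {u w v : V} (hw : B u w = 0) (hv : B u v = 0) (a b : F) :
    sympS hA u v a * sympS hA u w b * sympS hA u v (-a) * sympS hA u w (-b) =
      sympT hA u (a * b * B w v + a * b * B w v) :=
  BilinIsom.ext' fun x => by
    have hw' : B w u = 0 := hA.isRefl _ _ hw
    have hv' : B v u = 0 := hA.isRefl _ _ hv
    have hvw : B v w = -B w v := (hA.neg_eq w v).symm
    simp only [BilinIsom.mul_apply', sympS_apply hA hw, sympS_apply hA hv, sympT_apply, map_add, map_smul,
      LinearMap.add_apply, LinearMap.smul_apply, hA u, hA v, hA w, hw, hv, hw', hv', hvw,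
      smul_eq_mul, mul_zero, add_zero]
    module

theorem sympX_split (hA : B.IsAlt) {u w w' : V} (hw : B u w = 0) (hw' : B u w' = 0) (h : B w w' = 0) (p t : F) :
    sympS hA u w p * sympT hA u t * (sympS hA u w' p * sympT hA u t) * (sympS hA u (w + w') p * sympT hA u t)⁻¹ =
      sympT hA u t := by
  rw [mul_inv_eq_iff_eq_mul]
  refine BilinIsom.ext' fun x => ?_
  have h1 : B w u = 0 := hA.isRefl _ _ hw
  have h2 : B w' u = 0 := hA.isRefl _ _ hw'
  have h3 : B w' w = 0 := hA.isRefl _ _ h
  simp only [BilinIsom.mul_apply', sympS_apply hA hw, sympS_apply hA hw',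
    sympS_apply hA (show B u (w + w') = 0 by rw [map_add, hw, hw', add_zero]), sympT_apply, map_add, map_smul,
    LinearMap.add_apply, LinearMap.smul_apply, hA u, hA w, hA w', hw, hw', h, h1, h2, h3, smul_eq_mul, mul_zero,
    add_zero]
  module

end Cfsg.Lib.Classical
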