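import Mathlib
import Cfsg.Agent.Classical.Subfield.Core

set_option autoImplicit false
set_option linter.unusedVariables false
set_option linter.unusedSimpArgs false
set_option linter.style.haveILetI false

/-! The involution argument, needing only involutions with fixed space above a given dimension. -/

namespace Cfsg.Lib.Classical

universe u

variable {F : Type u} [Field F] {ι : Type} [Fintype ι] [DecidableEq ι] {F₀ : Subfield F}

omit [DecidableEq ι] in
/-- Multiplying by a commuting involution with a fixed space of dimension at most one. -/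
theorem dim_fix_mul_le_gen {k : ℕ} (h2 : (2 : F) ≠ 0) {z y : (ι → F) ≃ₗ[F] (ι → F)} (hz : z * z = 1) (hy : y * y = 1)
    (hb : Module.finrank F (LinearMap.ker (z.toLinearMap - LinearMap.id)) ≤ k) :
    Module.finrank F (LinearMap.ker ((z * y).toLinearMap - LinearMap.id)) +
      Module.finrank F (LinearMap.ker (y.toLinearMap - LinearMap.id)) ≤ Fintype.card ι + k := by
  have h1 := dim_fix_neg_involution h2 hz
  have h3 := dim_fix_neg_involution h2 hy
  set A := LinearMap.ker ((z * y).toLinearMap - LinearMap.id) with hA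
  set C := LinearMap.ker ((z.trans (LinearEquiv.neg F)).toLinearMap - LinearMap.id) with hC
  set D := LinearMap.ker ((y.trans (LinearEquiv.neg F)).toLinearMap - LinearMap.id) with hD
  have hle : A ⊓ C ≤ D := by
    rintro x ⟨hx1, hx2⟩
    simp only [hA, hC, hD, SetLike.mem_coe, LinearMap.mem_ker, LinearMap.sub_apply, LinearMap.id_apply,
      sub_eq_zero, LinearEquiv.coe_coe, LinearEquiv.trans_apply, LinearEquiv.neg_apply,
      LinearEquiv.mul_apply] at hx1 hx2 ⊢
    have hzx : z x = -x := neg_eq_iff_eq_neg.mp hx2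
    have hyx : y x = z x := by
      conv_rhs => rw [← hx1]
      exact (LinearEquiv.congr_fun hz (y x)).symm
    rw [hyx, hzx, neg_neg]
  have h4 := Submodule.finrank_mono hle
  have h5 := Submodule.finrank_sup_add_finrank_inf_eq A C
  have h6 := Submodule.finrank_le (A ⊔ C)
  rw [Module.finrank_fintype_fun_eq_card] at h6
  omega

omit [DecidableEq ι] in
theorem half_le_dim_fix_of_char_two (h2 : (2 : F) = 0)
    {z : (ι → F) ≃ₗ[F] (ι → F)} (hz : z * z = 1) :
    Fintype.card ι ≤ 2 * Module.finrank F (LinearMap.ker (z.toLinearMap - LinearMap.id)) := by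
  have hle : LinearMap.range (z.toLinearMap - LinearMap.id) ≤ LinearMap.ker (z.toLinearMap - LinearMap.id) := by
    rintro _ ⟨x, rfl⟩
    simp only [LinearMap.mem_ker, LinearMap.sub_apply, LinearMap.id_apply, LinearEquiv.coe_coe, map_sub,
      show z (z x) = x from LinearEquiv.congr_fun hz x]
    rw [sub_eq_zero, ← sub_eq_zero, show x - z x - (z x - x) = (2 : F) • (x - z x) by module, h2, zero_smul]
  have := Submodule.finrank_mono hle
  have h := LinearMap.finrank_range_add_finrank_ker (z.toLinearMap - LinearMap.id)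
  rw [Module.finrank_fintype_fun_eq_card] at h
  omega

/-- Two rational involutions of different small types force every element to be scaled rational. -/
theorem ratScaled_of_involutions_gen [Finite F] [Nonempty ι] {k : ℕ} {r : ℕ} (hr : r.Prime) (hr2 : r ≠ 2)
    (hcard : Nat.card F = Nat.card F₀ ^ r) {K : Subgroup ((ι → F) ≃ₗ[F] (ι → F))}
    (hinv : ∀ g ∈ K, ∀ z ∈ K, ∀ w ∈ K, RatExact F₀ z.toLinearMap → RatExact F₀ w.toLinearMap →
      z * z = 1 → w * w = 1 → z ≠ 1 → k + 1 ≤ Module.finrank F (LinearMap.ker (z.toLinearMap - LinearMap.id)) →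
      g * w = z * g → RatScaled F₀ g.toLinearMap)
    {i j : (ι → F) ≃ₗ[F] (ι → F)} (hi : i ∈ K) (hj : j ∈ K) (hie : RatExact F₀ i.toLinearMap)
    (hje : RatExact F₀ j.toLinearMap) (hii : i * i = 1) (hjj : j * j = 1) (a b : ℕ) (ha : 0 < a) (hb : 0 < b)
    (hai : Module.finrank F (LinearMap.ker (i.toLinearMap - LinearMap.id)) + a = Fintype.card ι)
    (hbj : Module.finrank F (LinearMap.ker (j.toLinearMap - LinearMap.id)) + b = Fintype.card ι)
    (hab : a ≠ b) (hk2 : 2 * k + 1 ≤ Fintype.card ι) (hab' : a + b + k < Fintype.card ι)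
    (haa : a + a + k < Fintype.card ι)
    {h : (ι → F) ≃ₗ[F] (ι → F)} (hh : h ∈ K) : RatScaled F₀ h.toLinearMap := by
  have hnc : ∀ (z : (ι → F) ≃ₗ[F] (ι → F)) c, 0 < c →
      Module.finrank F (LinearMap.ker (z.toLinearMap - LinearMap.id)) + c = Fintype.card ι → z ≠ 1 := by
    rintro z c hc hz rfl
    rw [show LinearMap.ker ((1 : (ι → F) ≃ₗ[F] (ι → F)).toLinearMap - LinearMap.id) = ⊤ from
      eq_top_iff.mpr fun x _ => by simp, finrank_top, Module.finrank_fintype_fun_eq_card] at hz
    omega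
  have hcomm : ∀ {z y}, z ∈ K → y ∈ K → RatExact F₀ z.toLinearMap → z * z = 1 → z ≠ 1 →
      k + 1 ≤ Module.finrank F (LinearMap.ker (z.toLinearMap - LinearMap.id)) →
      y * z = z * y → RatScaled F₀ y.toLinearMap := fun hz hy hze hzz hz1 hz2 he =>
    hinv _ hy _ hz _ hz hze hze hzz hzz hz1 hz2 he
  have hexact : ∀ y : (ι → F) ≃ₗ[F] (ι → F), y * y = 1 → RatScaled F₀ y.toLinearMap →
      RatExact F₀ y.toLinearMap := by
    rintro y hyy ⟨c, hc, hy⟩
    obtain ⟨r₁, h1⟩ := hy (fun _ => 1)
    obtain ⟨r₂, h2⟩ := hy r₁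
    obtain ⟨k⟩ := ‹Nonempty ι›
    have h3 : ratVec F₀ (fun _ : ι => (1 : F₀)) = (c * c) • ratVec F₀ r₂ := by
      rw [LinearEquiv.coe_coe] at h1 h2
      rw [← smul_smul, ← h2, ← map_smul, ← h1]
      exact (LinearEquiv.congr_fun hyy _).symm
    have h4 := congrFun h3 k
    simp only [ratVec, Pi.smul_apply, smul_eq_mul] at h4
    have hcc : c * c = ((r₂ k)⁻¹ : F₀) := by
      push_cast
      exact eq_inv_of_mul_eq_one_left h4.symm
    have hcm := mem_of_sq_mem hr hr2 hcard (hcc ▸ SetLike.coe_mem _ : c * c ∈ F₀)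
    intro u
    obtain ⟨r', hr'⟩ := hy u
    exact ⟨(⟨c, hcm⟩ : F₀) • r', by rw [hr', ratVec_smul]⟩
  have hconj : ∀ {g z w : (ι → F) ≃ₗ[F] (ι → F)}, g * w = z * g →
      Module.finrank F (LinearMap.ker (w.toLinearMap - LinearMap.id)) =
        Module.finrank F (LinearMap.ker (z.toLinearMap - LinearMap.id)) := fun e => dim_fix_conj e
  -- `i` is not conjugate to `j`
  have hij : ∀ g : (ι → F) ≃ₗ[F] (ι → F), g * j ≠ i * g := fun g e => by have := hconj e; omega
  obtain ⟨j', hj'⟩ : ∃ y, y = h * j * h⁻¹ := ⟨_, rfl⟩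
  have hj'K : j' ∈ K := hj' ▸ K.mul_mem (K.mul_mem hh hj) (K.inv_mem hh)
  have hj'j' : j' * j' = 1 := by
    rw [hj', show h * j * h⁻¹ * (h * j * h⁻¹) = h * (j * j) * h⁻¹ by group, hjj, mul_one, mul_inv_cancel]
  obtain ⟨d, hd⟩ : ∃ y, y = i * j' := ⟨_, rfl⟩
  have hi' : i⁻¹ = i := inv_eq_of_mul_eq_one_right hii
  have hj'i : j'⁻¹ = j' := inv_eq_of_mul_eq_one_right hj'j'
  have hidi : ∀ k : ℕ, i * d ^ k * i = (d ^ k)⁻¹ := by
    intro k
    have e1 : i * d * i = d⁻¹ := by
      rw [hd, mul_inv_rev, hi', hj'i, ← mul_assoc, hii, one_mul]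
    have : (MulAut.conj i d) ^ k = MulAut.conj i (d ^ k) := (map_pow _ _ _).symm
    simp only [MulAut.conj_apply, hi', e1] at this
    rw [← this, inv_pow]
  haveI : Finite ((ι → F) ≃ₗ[F] (ι → F)) := Finite.of_injective _ DFunLike.coe_injective
  have hpos : 0 < orderOf d := (isOfFinOrder_of_finite d).orderOf_pos
  rcases Nat.even_or_odd (orderOf d) with ⟨m, hm⟩ | ⟨e, hk⟩
  swap
  · exfalso
    refine hij (d ^ (e + 1) * h) ?_
    have e2 : d ^ (e + 1) * j' = i * d ^ (e + 1) := by
      have hp : d ^ (e + 1) * d ^ e = 1 := by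
        rw [← pow_add, show e + 1 + e = orderOf d by omega, pow_orderOf_eq_one]
      have hinv' : (d ^ (e + 1))⁻¹ = d ^ e := inv_eq_of_mul_eq_one_right hp
      have h1 := hidi (e + 1)
      rw [hinv'] at h1
      calc d ^ (e + 1) * j' = d ^ (e + 1) * (i * (i * j')) := by rw [← mul_assoc i, hii, one_mul]
        _ = d ^ (e + 1) * i * d := by rw [← hd, mul_assoc]
        _ = i * (i * d ^ (e + 1) * i) * d := by rw [← mul_assoc, ← mul_assoc, hii, one_mul]
        _ = i * d ^ (e + 1) := by rw [h1, mul_assoc, ← pow_succ]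
    calc d ^ (e + 1) * h * j = d ^ (e + 1) * j' * h := by rw [hj']; group
      _ = i * (d ^ (e + 1) * h) := by rw [e2, mul_assoc]
  obtain ⟨z, hz⟩ : ∃ y, y = d ^ m := ⟨_, rfl⟩
  have hzz : z * z = 1 := by rw [hz, ← pow_add, ← hm, pow_orderOf_eq_one]
  have hz1 : z ≠ 1 := fun e => by
    have := Nat.le_of_dvd (by omega) (orderOf_dvd_of_pow_eq_one (hz ▸ e : d ^ m = 1))
    omega
  have hzK : z ∈ K := by rw [hz, hd]; exact K.pow_mem (K.mul_mem hi hj'K) m
  have hzinv : z⁻¹ = z := inv_eq_of_mul_eq_one_right hzz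
  have hiz : z * i = i * z := by
    have h1 := hidi m
    rw [← hz, hzinv] at h1
    calc z * i = i * z * i * i := by rw [h1]
      _ = i * z := by rw [mul_assoc, hii, mul_one]
  have hdj : j' * z * j' = z := by
    have e1 : j' * d * j' = d⁻¹ := by rw [hd, mul_inv_rev, hi', hj'i, mul_assoc, mul_assoc, hj'j', mul_one]
    have : (MulAut.conj j' d) ^ m = MulAut.conj j' (d ^ m) := (map_pow _ _ _).symm
    simp only [MulAut.conj_apply, hj'i, e1] at this
    rw [← hz, inv_pow, ← hz, hzinv] at this
    exact this.symm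
  by_cases hbad : Module.finrank F (LinearMap.ker (z.toLinearMap - LinearMap.id)) ≤ k
  · exfalso
    have h2 : (2 : F) ≠ 0 := fun h2 => by have := half_le_dim_fix_of_char_two h2 hzz; omega
    rcases Nat.even_or_odd m with ⟨l, hl⟩ | ⟨e, hk⟩
    · -- `i` is conjugate to `z * i`
      have hw : d ^ l * d ^ l = z := by rw [← pow_add, ← hl, ← hz]
      have hwinv : (d ^ l)⁻¹ = z * d ^ l := by
        refine inv_eq_of_mul_eq_one_left ?_
        rw [mul_assoc, hw, hzz]
      have e : d ^ l * (z * i) = i * d ^ l := by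
        have h1 := hidi l
        rw [hwinv] at h1
        calc d ^ l * (z * i) = z * d ^ l * i := by rw [← mul_assoc, hz, ← pow_add, ← pow_add, add_comm]
          _ = i * d ^ l * i * i := by rw [h1]
          _ = i * d ^ l := by rw [mul_assoc, hii, mul_one]
      have := hconj e
      have := dim_fix_mul_le_gen h2 hzz hii hbad
      omega
    · -- `i` is conjugate to `z * j'`
      have hp : d ^ (e + 1) * d ^ e = z := by rw [← pow_add, show e + 1 + e = m by omega, ← hz]
      have hinv' : (d ^ (e + 1))⁻¹ = d ^ e * z := by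
        refine inv_eq_of_mul_eq_one_right ?_
        rw [← mul_assoc, hp, hzz]
      have hcz : Commute d z := by rw [hz]; exact (Commute.refl d).pow_right m
      have e : d ^ (e + 1) * (z * j') = i * d ^ (e + 1) := by
        have h1 := hidi (e + 1)
        rw [hinv'] at h1
        calc d ^ (e + 1) * (z * j') = d ^ (e + 1) * (z * i) * d := by
              rw [show j' = i * d by rw [hd, ← mul_assoc, hii, one_mul]]
              simp only [mul_assoc]
          _ = d ^ (e + 1) * (i * z) * d := by rw [hiz]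
          _ = i * (i * d ^ (e + 1) * i) * z * d := by simp only [← mul_assoc, hii, one_mul]
          _ = i * (d ^ e * z * z * d) := by rw [h1]; simp only [mul_assoc]
          _ = i * d ^ (e + 1) := by rw [mul_assoc (d ^ e), hzz, mul_one, pow_succ]
      have := hconj e
      have := dim_fix_mul_le_gen h2 hzz hj'j' hbad
      have := hconj (show h * j = j' * h by rw [hj']; group)
      omega
  -- the involution lies in both groups
  have hi1 := hnc i a ha hai
  have hj1 := hnc j b hb hbj
  have hze := hexact z hzz (hcomm hi hzK hie hii hi1 (by omega) hiz)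
  set w := h⁻¹ * z * h with hw
  have hwK : w ∈ K := K.mul_mem (K.mul_mem (K.inv_mem hh) hzK) hh
  have hwj : w * j = j * w := by
    have e3 : z * j' = j' * z := by
      calc z * j' = j' * z * j' * j' := by rw [hdj]
        _ = j' * z := by rw [mul_assoc, hj'j', mul_one]
    calc w * j = h⁻¹ * (z * j') * h := by rw [hw, hj']; group
      _ = j * w := by rw [e3, hw, hj']; group
  have hww : w * w = 1 := by
    rw [hw, show h⁻¹ * z * h * (h⁻¹ * z * h) = h⁻¹ * (z * z) * h by group, hzz, mul_one, inv_mul_cancel]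
  have hwe := hexact w hww (hcomm hj hwK hje hjj hj1 (by omega) hwj)
  exact hinv h hh z hzK w hwK hze hwe hzz hww hz1 (by omega) (by rw [hw]; group)

end Cfsg.Lib.Classical
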