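import Mathlib
import Cfsg.Agent.Classical.Subfield.Core

set_option autoImplicit false
set_option linter.unusedVariables false
set_option linter.unusedSimpArgs false
set_option linter.style.haveILetI false

/-! Permutation involutions with given number of transpositions. -/

namespace Cfsg.Lib.Classical

universe u

variable {F : Type u} [Field F] {ι : Type} [Fintype ι] [DecidableEq ι] {k : ℕ}

/-- The permutation exchanging the two members of each given pair. -/
noncomputable def pairPerm (e : Fin k × Bool ↪ ι) : Equiv.Perm ι :=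
  Equiv.Perm.viaEmbedding (Equiv.prodCongrRight fun _ => Equiv.swap true false) e

omit [Fintype ι] [DecidableEq ι] in
theorem pairPerm_apply (e : Fin k × Bool ↪ ι) (s : Fin k) (b : Bool) : pairPerm e (e (s, b)) = e (s, !b) := by
  rw [pairPerm, Equiv.Perm.viaEmbedding_apply]
  cases b <;> simp

omit [Fintype ι] [DecidableEq ι] in
theorem pairPerm_of_notMem (e : Fin k × Bool ↪ ι) {x : ι} (h : x ∉ Set.range e) : pairPerm e x = x :=
  Equiv.Perm.viaEmbedding_apply_of_notMem _ _ _ h

omit [Fintype ι] [DecidableEq ι] in
theorem pairPerm_pairPerm (e : Fin k × Bool ↪ ι) (x : ι) : pairPerm e (pairPerm e x) = x := by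
  by_cases h : x ∈ Set.range e
  · obtain ⟨⟨s, b⟩, rfl⟩ := h
    rw [pairPerm_apply, pairPerm_apply, Bool.not_not]
  · rw [pairPerm_of_notMem e h, pairPerm_of_notMem e h]

theorem sign_pairPerm (e : Fin k × Bool ↪ ι) : Equiv.Perm.sign (pairPerm e) = (-1) ^ k := by
  classical
  rw [pairPerm, Equiv.Perm.viaEmbedding]
  rw [Equiv.Perm.sign_extendDomain, Equiv.Perm.sign_prodCongrRight]
  simp [Equiv.Perm.sign_swap (show true ≠ false by decide)]

/-- The linear map of a pair permutation. -/
noncomputable def pairInvol (F : Type u) [Field F] (e : Fin k × Bool ↪ ι) : (ι → F) ≃ₗ[F] (ι → F) :=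
  LinearEquiv.funCongrLeft F F (pairPerm e)

omit [Fintype ι] [DecidableEq ι] in
theorem pairInvol_apply (e : Fin k × Bool ↪ ι) (x : ι → F) (i : ι) : pairInvol F e x i = x (pairPerm e i) := rfl

omit [Fintype ι] [DecidableEq ι] in
theorem pairInvol_sq (e : Fin k × Bool ↪ ι) : pairInvol F e * pairInvol F e = 1 :=
  LinearEquiv.ext fun x => funext fun i => by
    rw [LinearEquiv.mul_apply, pairInvol_apply, pairInvol_apply, pairPerm_pairPerm]; rfl

theorem det_pairInvol (e : Fin k × Bool ↪ ι) : LinearEquiv.det (pairInvol F e) = (-1) ^ k := by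
  apply Units.ext
  rw [LinearEquiv.coe_det, ← LinearMap.det_toMatrix',
    show LinearMap.toMatrix' (pairInvol F e).toLinearMap = (pairPerm e).permMatrix F from by
      ext a b
      rw [LinearMap.toMatrix'_apply, LinearEquiv.coe_coe, pairInvol_apply]
      simp [Equiv.Perm.permMatrix, PEquiv.toMatrix_apply, Pi.single_apply, eq_comm],
    Matrix.det_permutation, sign_pairPerm]
  simp

omit [Fintype ι] [DecidableEq ι] in
theorem pairInvol_exact (F₀ : Subfield F) (e : Fin k × Bool ↪ ι) :
    RatExact F₀ (pairInvol F e).toLinearMap := fun u => ⟨fun i => u (pairPerm e i), rfl⟩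

theorem finrank_fix_pairInvol (e : Fin k × Bool ↪ ι) :
    Module.finrank F (LinearMap.ker ((pairInvol F e).toLinearMap - LinearMap.id)) + k = Fintype.card ι := by
  classical
  let D : (ι → F) →ₗ[F] (Fin k → F) :=
    LinearMap.pi fun s => (LinearMap.proj (e (s, true)) : (ι → F) →ₗ[F] F) - LinearMap.proj (e (s, false))
  have hker : LinearMap.ker ((pairInvol F e).toLinearMap - LinearMap.id) = LinearMap.ker D := by
    ext x
    simp only [LinearMap.mem_ker, LinearMap.sub_apply, LinearMap.id_apply, sub_eq_zero, LinearEquiv.coe_coe]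
    constructor
    · intro h
      funext s
      have := congrFun h (e (s, false))
      rw [pairInvol_apply, pairPerm_apply, Bool.not_false] at this
      simp [D, this]
    · intro h
      funext i
      rw [pairInvol_apply]
      by_cases hi : i ∈ Set.range e
      · obtain ⟨⟨s, b⟩, rfl⟩ := hi
        have := congrFun h s
        simp [D, sub_eq_zero] at this
        rw [pairPerm_apply]
        cases b <;> simp [this]
      · rw [pairPerm_of_notMem e hi]
  have hsurj : Function.Surjective D := by
    intro y
    refine ⟨Function.extend e (fun p => if p.2 then y p.1 else 0) 0, funext fun s => ?_⟩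
    simp [D, e.injective.extend_apply]
  rw [hker]
  have h := LinearMap.finrank_range_add_finrank_ker D
  rw [LinearMap.range_eq_top.mpr hsurj, finrank_top, Module.finrank_fin_fun,
    Module.finrank_fintype_fun_eq_card] at h
  omega

end Cfsg.Lib.Classical
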