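import Mathlib
import Cfsg.Agent.Classical.Subfield.Core
import Cfsg.Agent.Classical.Unitary.InSL

set_option autoImplicit false
set_option linter.unusedVariables false
set_option linter.unusedSimpArgs false
set_option linter.style.haveILetI false

/-! The subfield subgroup is maximal in the special linear group. -/

namespace Cfsg.Lib.Classical

universe u

variable {F : Type u} [Field F] {ι : Type} [Fintype ι] [DecidableEq ι] {F₀ : Subfield F}

/-- The multiple by `c` of a rational transvection. -/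
noncomputable def ratT (c : F) (φ : Module.Dual F₀ (ι → F₀)) (v : ι → F₀) (h : φ v = 0) :
    slGroup F (ι → F) :=
  slT (c • ratExt φ) (ratVec F₀ v) (by rw [LinearMap.smul_apply, ratExt_apply, h]; simp)

theorem ratT_apply (c : F) (φ : Module.Dual F₀ (ι → F₀)) (v : ι → F₀) (h : φ v = 0) (x : ι → F) :
    (ratT c φ v h : (ι → F) ≃ₗ[F] (ι → F)) x = x + (c * ratExt φ x) • ratVec F₀ v := by
  rw [ratT, slT_apply, LinearMap.smul_apply, smul_eq_mul]

theorem ratT_exact {c : F} (hc : c ∈ F₀) (φ : Module.Dual F₀ (ι → F₀)) (v : ι → F₀) (h : φ v = 0) :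
    RatExact F₀ ((ratT c φ v h : slGroup F (ι → F)) : (ι → F) ≃ₗ[F] (ι → F)).toLinearMap := fun u =>
  ⟨u + (⟨c, hc⟩ * φ u : F₀) • v, by
    rw [LinearEquiv.coe_coe, ratT_apply, ratExt_apply, ratVec_add, ratVec_smul]; rfl⟩

theorem ratT_add (c d : F) (φ : Module.Dual F₀ (ι → F₀)) (v : ι → F₀) (h : φ v = 0) :
    ratT (c + d) φ v h = ratT c φ v h * ratT d φ v h := by
  refine slGroup.ext' fun x => ?_
  rw [slGroup.mul_apply', ratT_apply, ratT_apply, ratT_apply, map_add, map_smul, ratExt_apply, h]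
  simp only [ZeroMemClass.coe_zero, smul_eq_mul, mul_zero, add_zero]
  module

theorem ratT_smul (c : F) (a : F₀) (φ : Module.Dual F₀ (ι → F₀)) (v : ι → F₀) (h : φ v = 0) :
    ratT c φ (a • v) (by rw [map_smul, h, smul_zero]) = ratT ((a : F) * c) φ v h :=
  slGroup.ext' fun x => by rw [ratT_apply, ratT_apply, ratVec_smul, smul_smul]; congr 2; ring

/-- Conjugating a multiple by another: the axis changes. -/
theorem ratT_conj_axis (c d : F) {φ θ : Module.Dual F₀ (ι → F₀)} {a b : ι → F₀} (hφ : φ a = 0) (hθb : θ b = 0)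
    (hθa : θ a = 0) (hφb : φ b = 1) :
    ratT d θ b hθb * ratT c φ a hφ * (ratT d θ b hθb)⁻¹ * (ratT c φ a hφ)⁻¹ = ratT (-(c * d)) θ a hθa := by
  rw [mul_inv_eq_iff_eq_mul, mul_inv_eq_iff_eq_mul]
  refine slGroup.ext' fun x => ?_
  simp only [slGroup.mul_apply', ratT_apply, map_add, map_smul, ratExt_apply, hφ, hθb, hθa, hφb,
    ZeroMemClass.coe_zero, OneMemClass.coe_one, smul_eq_mul, mul_zero, mul_one, add_zero]
  module

/-- Conjugating a multiple by a rational transvection: the centre changes. -/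
theorem ratT_conj_centre (c : F) {φ θ : Module.Dual F₀ (ι → F₀)} {a b : ι → F₀} (hφ : φ a = 0) (hθb : θ b = 0)
    (hθa : θ a = 1) (hφb : φ b = 0) :
    ratT 1 θ b hθb * ratT c φ a hφ * (ratT 1 θ b hθb)⁻¹ * (ratT c φ a hφ)⁻¹ = ratT c φ b hφb := by
  rw [mul_inv_eq_iff_eq_mul, mul_inv_eq_iff_eq_mul]
  refine slGroup.ext' fun x => ?_
  simp only [slGroup.mul_apply', ratT_apply, map_add, map_smul, ratExt_apply, hφ, hθb, hθa, hφb,
    ZeroMemClass.coe_zero, OneMemClass.coe_one, smul_eq_mul, mul_zero, mul_one, one_mul, add_zero]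
  module

theorem exists_vec_one_zero {K W : Type*} [Field K] [AddCommGroup W] [Module K W] {φ θ : Module.Dual K W}
    (h : ∀ c : K, φ ≠ c • θ) : ∃ b, φ b = 1 ∧ θ b = 0 := by
  by_cases hk : ∃ k, θ k = 0 ∧ φ k ≠ 0
  · obtain ⟨k, hk1, hk2⟩ := hk
    exact ⟨(φ k)⁻¹ • k, by simp [hk2], by simp [hk1]⟩
  push Not at hk
  exfalso
  by_cases hθ : θ = 0
  · exact h 0 (LinearMap.ext fun x => by rw [zero_smul, LinearMap.zero_apply]; exact hk x (by simp [hθ]))
  obtain ⟨x₀, hx₀⟩ := LinearMap.surjective_of_ne_zero hθ 1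
  refine h (φ x₀) (LinearMap.ext fun x => ?_)
  have := hk (x - θ x • x₀) (by simp [hx₀])
  rw [map_sub, map_smul, sub_eq_zero] at this
  rw [this, LinearMap.smul_apply, smul_eq_mul, smul_eq_mul, mul_comm]

theorem exists_dual_two_zero {K W : Type*} [Field K] [AddCommGroup W] [Module K W] [FiniteDimensional K W]
    (hd : 3 ≤ Module.finrank K W) (a b : W) (θ : Module.Dual K W) :
    ∃ η : Module.Dual K W, η ≠ 0 ∧ η a = 0 ∧ η b = 0 := by
  obtain ⟨z, -, hz⟩ := SetLike.exists_of_lt (lt_top_iff_ne_top.mpr (fun h => by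
    have := finrank_range_le_card (R := K) ![a, b]
    rw [Set.finrank, Matrix.range_cons_cons_empty, h, finrank_top, Fintype.card_fin] at this
    omega : Submodule.span K ({a, b} : Set W) ≠ ⊤))
  obtain ⟨η, hη, hη0⟩ := exists_dual_vanish hz
  exact ⟨η, fun h => by simp [h] at hη, hη0 a (Submodule.subset_span (by simp)), hη0 b (Submodule.subset_span (by simp))⟩

theorem exists_indep_dual {K W : Type*} [Field K] [AddCommGroup W] [Module K W] [FiniteDimensional K W]
    (hd : 3 ≤ Module.finrank K W) (a : W) {θ : Module.Dual K W} (hθ : θ ≠ 0) :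
    ∃ η : Module.Dual K W, η a = 0 ∧ ∀ c : K, η ≠ c • θ := by
  obtain ⟨x, hx⟩ := LinearMap.surjective_of_ne_zero hθ 1
  obtain ⟨η, hη, hηa, hηx⟩ := exists_dual_two_zero hd a x θ
  refine ⟨η, hηa, fun c h => hη ?_⟩
  rw [h, LinearMap.smul_apply, hx, smul_eq_mul, mul_one] at hηx
  rw [h, hηx, zero_smul]

variable {H : Subgroup (slGroup F (ι → F))}

theorem ratT_mem (hM : ∀ g : slGroup F (ι → F), RatScaled F₀ g.1.toLinearMap → g ∈ H) {c : F} (hc : c ∈ F₀)
    (φ : Module.Dual F₀ (ι → F₀)) (v : ι → F₀) (h : φ v = 0) : ratT c φ v h ∈ H :=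
  hM _ (ratT_exact hc φ v h).scaled

theorem top_of_nonrational [Finite F] {r : ℕ} (hr : r.Prime) (hcard : Nat.card F = Nat.card F₀ ^ r)
    (hd : 3 ≤ Fintype.card ι) (hM : ∀ g : slGroup F (ι → F), RatScaled F₀ g.1.toLinearMap → g ∈ H)
    {c : F} (hc : c ∉ F₀) {η : Module.Dual F₀ (ι → F₀)} {e : ι → F₀} (he : e ≠ 0) (hη0 : η ≠ 0) (hη : η e = 0)
    (hmem : ratT c η e hη ∈ H) : H = ⊤ := by
  have hd₀ : 3 ≤ Module.finrank F₀ (ι → F₀) := by rwa [Module.finrank_fintype_fun_eq_card]
  -- change of axis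
  have hax : ∀ (φ θ : Module.Dual F₀ (ι → F₀)) a (hφ : φ a = 0) (hθ : θ a = 0), φ ≠ 0 →
      ratT c φ a hφ ∈ H → ratT c θ a hθ ∈ H := by
    have step : ∀ (φ θ : Module.Dual F₀ (ι → F₀)) a (hφ : φ a = 0) (hθ : θ a = 0), (∀ d : F₀, φ ≠ d • θ) →
        ratT c φ a hφ ∈ H → ratT c θ a hθ ∈ H := by
      intro φ θ a hφ hθ hind hm
      obtain ⟨b, hb, hθb⟩ := exists_vec_one_zero hind
      have hτ := ratT_mem hM (c := (-1 : F)) (F₀.neg_mem F₀.one_mem) θ b hθb
      have := H.mul_mem (H.mul_mem (H.mul_mem hτ hm) (H.inv_mem hτ)) (H.inv_mem hm)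
      rw [ratT_conj_axis c (-1) hφ hθb hθ hb] at this
      convert this using 2
      ring
    intro φ θ a hφ hθ hφ0 hm
    by_cases hind : ∀ d : F₀, φ ≠ d • θ
    · exact step φ θ a hφ hθ hind hm
    · push Not at hind
      obtain ⟨d, hd'⟩ := hind
      have hθ0 : θ ≠ 0 := fun h => hφ0 (by rw [hd', h, smul_zero])
      obtain ⟨θ', hθ'a, hθ'⟩ := exists_indep_dual hd₀ a hθ0
      refine step θ' θ a hθ'a hθ hθ' (step φ θ' a hφ hθ'a (fun d' h => ?_) hm)
      have hd0 : d' ≠ 0 := fun h0 => hφ0 (by rw [h, h0, zero_smul])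
      exact hθ' (d / d') (by
        rw [div_eq_inv_mul, ← smul_smul, ← hd', h, smul_smul, inv_mul_cancel₀ hd0, one_smul])
  -- change of centre
  have hcen : ∀ (φ : Module.Dual F₀ (ι → F₀)) a b (hφ : φ a = 0) (hφb : φ b = 0), a ≠ 0 →
      ratT c φ a hφ ∈ H → ratT c φ b hφb ∈ H := by
    have step : ∀ (φ : Module.Dual F₀ (ι → F₀)) a b (hφ : φ a = 0) (hφb : φ b = 0),
        a ∉ Submodule.span F₀ {b} → ratT c φ a hφ ∈ H → ratT c φ b hφb ∈ H := by
      intro φ a b hφ hφb hind hm
      obtain ⟨θ, hθa, hθb⟩ := exists_dual_vanish hind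
      have hθb' := hθb b (Submodule.mem_span_singleton_self b)
      have hτ := ratT_mem hM (c := (1 : F)) F₀.one_mem θ b hθb'
      have := H.mul_mem (H.mul_mem (H.mul_mem hτ hm) (H.inv_mem hτ)) (H.inv_mem hm)
      rwa [ratT_conj_centre c hφ hθb' hθa hφb] at this
    intro φ a b hφ hφb ha hm
    by_cases hind : a ∈ Submodule.span F₀ {b}
    · obtain ⟨z, hz, hza⟩ : ∃ z, φ z = 0 ∧ z ∉ Submodule.span F₀ {a} := by
        by_contra hcon
        push Not at hcon
        have hle : LinearMap.ker φ ≤ Submodule.span F₀ {a} := fun z hz => hcon z (LinearMap.mem_ker.mp hz)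
        have h1 := Submodule.finrank_mono hle
        have h2 := LinearMap.finrank_range_add_finrank_ker φ
        have h3 := Submodule.finrank_le (LinearMap.range φ)
        rw [finrank_span_singleton ha] at h1
        rw [Module.finrank_self] at h3
        omega
      have hza' : a ∉ Submodule.span F₀ {z} := fun h => by
        obtain ⟨d, hd'⟩ := Submodule.mem_span_singleton.mp h
        have hd0 : d ≠ 0 := fun h0 => ha (by rw [← hd', h0, zero_smul])
        exact hza (Submodule.mem_span_singleton.mpr ⟨d⁻¹, by rw [← hd', smul_smul, inv_mul_cancel₀ hd0, one_smul]⟩)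
      obtain ⟨d, hd'⟩ := Submodule.mem_span_singleton.mp hind
      have hzb : z ∉ Submodule.span F₀ {b} := fun h => by
        obtain ⟨d', hd''⟩ := Submodule.mem_span_singleton.mp h
        have hd0 : d ≠ 0 := fun h0 => ha (by rw [← hd', h0, zero_smul])
        exact hza (Submodule.mem_span_singleton.mpr ⟨d' / d, by
          rw [← hd', smul_smul, div_mul_cancel₀ _ hd0, hd'']⟩)
      exact step φ z b hz hφb hzb (step φ a z hφ hz hza' hm)
    · exact step φ a b hφ hφb hind hm
  let L : Set F := {t | ∀ φ a h, ratT (F₀ := F₀) t φ a h ∈ H}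
  have hcL : c ∈ L := by
    intro φ a h
    obtain ⟨θ, hθ0, hθe, hθa⟩ := exists_dual_two_zero hd₀ e a η
    exact hax θ φ a hθa h hθ0 (hcen θ e a hθe hθa he (hax η θ e hη hθe hη0 hmem))
  have hall : ∀ x : F, x ∈ L := eq_univ_of_mul_closed hr hcard (fun t ht φ a h => ratT_mem hM ht φ a h)
    (fun x hx y hy φ a h => by rw [ratT_add]; exact H.mul_mem (hx φ a h) (hy φ a h))
    (fun x hx y hy θ a hθ => by
      by_cases hθ0 : θ = 0
      · convert H.one_mem
        refine slGroup.ext' fun z => ?_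
        rw [ratT_apply, hθ0]; simp [ratExt]
      obtain ⟨φ, hφa, hind⟩ := exists_indep_dual hd₀ a hθ0
      obtain ⟨b, hb, hθb⟩ := exists_vec_one_zero hind
      have h1 := hx φ a hφa
      have h2 := hy θ b hθb
      have := H.mul_mem (H.mul_mem (H.mul_mem h2 h1) (H.inv_mem h2)) (H.inv_mem h1)
      rw [ratT_conj_axis x y hφa hθb hθ hb] at this
      have h3 := H.inv_mem this
      convert h3 using 1
      rw [eq_inv_iff_mul_eq_one, ← ratT_add, add_neg_cancel]
      refine slGroup.ext' fun z => ?_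
      rw [ratT_apply, zero_mul, zero_smul, add_zero]; rfl) hcL hc
  have hcentre : ∀ i : ι, ratVec F₀ (Pi.single i 1) ∈ slCentres H := by
    intro i φ hφ
    have hexp : φ = ∑ k, φ (ratVec F₀ (Pi.single k 1)) •
        ratExt (F₀ := F₀) (LinearMap.proj k) := ext_on_ratVec fun u => by
      conv_lhs => rw [show u = ∑ k, u k • (Pi.single k 1 : ι → F₀) by
        funext l; simp [Finset.sum_apply, Pi.single_apply]]
      have hmap : ∀ (s : Finset ι) (g : ι → (ι → F₀)), ratVec F₀ (∑ k ∈ s, g k) = ∑ k ∈ s, ratVec F₀ (g k) :=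
        fun s g => map_sum (AddMonoidHom.mk' (ratVec F₀) ratVec_add) g s
      rw [hmap, map_sum, LinearMap.sum_apply]
      refine Finset.sum_congr rfl fun k _ => ?_
      rw [ratVec_smul, map_smul, LinearMap.smul_apply, ratExt_apply, LinearMap.proj_apply, smul_eq_mul,
        smul_eq_mul, mul_comm]
    let Ax : AddSubgroup (Module.Dual F (ι → F)) :=
      { carrier := {ψ | ∃ h : ψ (ratVec F₀ (Pi.single i 1)) = 0, slT ψ _ h ∈ H}
        add_mem' := fun {p q} ⟨hp, hp'⟩ ⟨hq, hq'⟩ => ⟨by simp [hp, hq], by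
          rw [slT_mul _ _ _ hp hq]; exact H.mul_mem hp' hq'⟩
        zero_mem' := ⟨rfl, by
          convert H.one_mem
          exact slGroup.ext' fun z => by rw [slT_apply]; simp⟩
        neg_mem' := fun {p} ⟨hp, hp'⟩ => ⟨by simp [hp], by
          convert H.inv_mem hp' using 1
          refine eq_inv_of_mul_eq_one_left ?_
          exact slGroup.ext' fun z => by
            rw [slGroup.mul_apply', slT_apply, slT_apply, map_add, map_smul, LinearMap.neg_apply, LinearMap.neg_apply, hp]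
            simp⟩ }
    have hsum : φ ∈ Ax := by
      rw [hexp]
      refine Ax.sum_mem fun k _ => ?_
      by_cases hki : k = i
      · subst hki; rw [hφ, zero_smul]; exact Ax.zero_mem
      · refine ⟨?_, hall (φ (ratVec F₀ (Pi.single k 1))) (LinearMap.proj k) (Pi.single i 1) (by simp [hki])⟩
        rw [LinearMap.smul_apply, ratExt_apply]
        simp [hki]
    exact hsum.2
  refine slGroup_eq_top_of_transvections fun v => ?_
  have hv : v ∈ slCentreSpace H := by
    rw [← (Pi.basisFun F ι).sum_repr v]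
    refine Submodule.sum_mem _ fun k _ => Submodule.smul_mem _ _ ?_
    have e : (Pi.basisFun F ι k : ι → F) = ratVec F₀ (Pi.single k 1) := by
      funext l
      simp only [Pi.basisFun_apply, ratVec, Pi.single_apply]
      split_ifs <;> simp
    rw [e]; exact hcentre k
  exact hv

theorem ratScaled_of_fix_point [Finite F] (hd : 3 ≤ Fintype.card ι)
    (hM : ∀ g : slGroup F (ι → F), RatScaled F₀ g.1.toLinearMap → g ∈ H)
    (hnon : ∀ (c : F) η e (h : η e = 0), e ≠ 0 → η ≠ 0 → ratT (F₀ := F₀) c η e h ∈ H → c ∈ F₀)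
    {g : slGroup F (ι → F)} (hg : g ∈ H) {e : ι → F₀} (he : e ≠ 0) {μ : F}
    (hge : g.1 (ratVec F₀ e) = μ • ratVec F₀ e) : RatScaled F₀ ((g⁻¹ : slGroup F (ι → F)).1).toLinearMap := by
  have hd₀ : 3 ≤ Module.finrank F₀ (ι → F₀) := by rwa [Module.finrank_fintype_fun_eq_card]
  set G : slGroup F (ι → F) := g⁻¹ with hG
  have hμ : μ ≠ 0 := fun h => ratVec_ne_zero he (g.1.map_eq_zero_iff.mp (by rw [hge, h, zero_smul]))
  have hGe : G.1 (ratVec F₀ e) = μ⁻¹ • ratVec F₀ e := by
    apply g.1.injective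
    rw [slGroup.apply_inv_self, map_smul, hge, smul_smul, inv_mul_cancel₀ hμ, one_smul]
  have hA : ∀ (φ : Module.Dual F₀ (ι → F₀)), φ e = 0 → ∀ b, μ * ratExt φ (G.1 (ratVec F₀ b)) ∈ F₀ := by
    intro φ hφ b
    obtain ⟨η, hη0, hηe, hηb⟩ := exists_dual_two_zero hd₀ e b φ
    set χ : Module.Dual F (ι → F) := μ • (ratExt φ ∘ₗ G.1.toLinearMap)
    have hχe : χ (ratVec F₀ e) = 0 := by
      simp [χ, hGe, ratExt_apply, hφ]
    have h1 : slT χ (ratVec F₀ e) hχe ∈ H := by
      have := H.mul_mem (H.mul_mem hg (ratT_mem hM F₀.one_mem φ e hφ)) (H.inv_mem hg)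
      rw [ratT, slT_conj] at this
      convert this using 1
      refine slT_congr fun x => ?_
      simp only [χ, LinearMap.smul_apply, LinearMap.comp_apply, LinearEquiv.coe_coe, one_smul, hge, smul_smul,
        smul_eq_mul, hG]
      rw [mul_comm]
    have hτ := ratT_mem hM (c := (-1 : F)) (F₀.neg_mem F₀.one_mem) η b hηb
    have h2 := H.mul_mem (H.mul_mem (H.mul_mem hτ h1) (H.inv_mem hτ)) (H.inv_mem h1)
    refine hnon _ η e hηe he hη0 ?_
    convert h2 using 1
    rw [eq_mul_inv_iff_mul_eq, eq_mul_inv_iff_mul_eq]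
    refine slGroup.ext' fun x => ?_
    simp only [slGroup.mul_apply', ratT_apply, slT_apply, map_add, map_smul, ratExt_apply, hηb, hηe, hχe,
      ZeroMemClass.coe_zero, smul_eq_mul, mul_zero, add_zero]
    simp only [χ, LinearMap.smul_apply, LinearMap.comp_apply, LinearEquiv.coe_coe, smul_eq_mul]
    module
  obtain ⟨k, hk⟩ := Function.ne_iff.mp he
  have hdec : ∀ b, ∃ (p : ι → F₀) (l : F), μ • G.1 (ratVec F₀ b) = ratVec F₀ p + l • ratVec F₀ e := by
    intro b
    set y := μ • G.1 (ratVec F₀ b) with hy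
    have hφ : ∀ i, (LinearMap.proj i - (e i / e k) • LinearMap.proj k : Module.Dual F₀ (ι → F₀)) e = 0 :=
      fun i => by simp [div_mul_cancel₀ _ hk]
    refine ⟨fun i => ⟨_, hA _ (hφ i) b⟩, y k / (e k : F), funext fun i => ?_⟩
    have hval : ratExt (LinearMap.proj i - (e i / e k) • LinearMap.proj k : Module.Dual F₀ (ι → F₀)) =
        LinearMap.proj i - ((e i / e k : F₀) : F) • LinearMap.proj k :=
      ext_on_ratVec fun u => by rw [ratExt_apply]; simp [ratVec]
    simp only [Pi.add_apply, Pi.smul_apply, ratVec, smul_eq_mul, hval, LinearMap.sub_apply, LinearMap.smul_apply,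
      LinearMap.proj_apply, hy]
    push_cast
    ring
  choose p l hpl using hdec
  have hgy : ∀ b, g.1 (ratVec F₀ (p b)) = μ • ratVec F₀ b - (l b * μ) • ratVec F₀ e := fun b => by
    have e1 : ratVec F₀ (p b) = μ • G.1 (ratVec F₀ b) - l b • ratVec F₀ e := by rw [hpl, add_sub_cancel_right]
    rw [e1, map_sub, map_smul, map_smul, hG, slGroup.apply_inv_self, hge, smul_smul]
  -- functionals vanishing at `e` stay rational after `g`
  have hθg : ∀ θ : Module.Dual F₀ (ι → F₀), θ e = 0 → ∀ u, μ⁻¹ * ratExt θ (g.1 (ratVec F₀ u)) ∈ F₀ := by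
    intro θ hθ u
    have hu : u ∈ Submodule.span F₀ (Set.range p ∪ {e}) := by
      by_contra hnot
      obtain ⟨ψ, hψu, hψ⟩ := exists_dual_vanish hnot
      have hψe : ψ e = 0 := hψ e (Submodule.subset_span (Or.inr rfl))
      have hz : ratExt ψ ∘ₗ G.1.toLinearMap = 0 := ext_on_ratVec (F₀ := F₀) fun b => by
        have h := congrArg (ratExt ψ) (hpl b)
        rw [map_smul, map_add, map_smul, ratExt_apply, ratExt_apply, hψe,
          hψ _ (Submodule.subset_span (Or.inl ⟨b, rfl⟩))] at h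
        simpa [hμ] using h
      have hne : ψ ≠ 0 := fun h => by simp [h] at hψu
      refine ratExt_ne_zero hne (LinearMap.ext fun x => ?_)
      have := LinearMap.congr_fun hz (g.1 x)
      rw [LinearMap.comp_apply, LinearEquiv.coe_coe, hG, slGroup.inv_apply_self] at this
      simpa using this
    induction hu using Submodule.span_induction with
    | mem z hz =>
      rcases hz with ⟨b, rfl⟩ | rfl
      · rw [hgy, map_sub, map_smul, map_smul, ratExt_apply, ratExt_apply, hθ, ZeroMemClass.coe_zero, smul_zero,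
          sub_zero, smul_eq_mul, ← mul_assoc, inv_mul_cancel₀ hμ, one_mul]
        exact SetLike.coe_mem _
      · rw [hge, map_smul, ratExt_apply, hθ]; simp
    | zero => rw [ratVec_zero, map_zero, map_zero, mul_zero]; exact F₀.zero_mem
    | add x y _ _ hx hy => rw [ratVec_add, map_add, map_add, mul_add]; exact F₀.add_mem hx hy
    | smul a x _ hx =>
      rw [ratVec_smul, map_smul, map_smul, smul_eq_mul, mul_left_comm]
      exact F₀.mul_mem a.2 hx
  refine ⟨μ⁻¹, inv_ne_zero hμ, fun b => ?_⟩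
  obtain ⟨θ, hθ0, hθe, hθb⟩ := exists_dual_two_zero hd₀ e b 0
  obtain ⟨θ', hθ'⟩ := exists_ratExt (μ⁻¹ • (ratExt θ ∘ₗ g.1.toLinearMap)) (hθg θ hθe)
  have hθ'' : ∀ x, ratExt θ (g.1 x) = μ * ratExt θ' x := fun x => by
    have := LinearMap.congr_fun hθ' x
    simp only [LinearMap.smul_apply, LinearMap.comp_apply, LinearEquiv.coe_coe, smul_eq_mul] at this
    rw [← this, ← mul_assoc, mul_inv_cancel₀ hμ, one_mul]
  have hθ'e : θ' e = 0 := by
    have := hθ'' (ratVec F₀ e)
    rw [hge, map_smul, ratExt_apply, ratExt_apply, hθe] at this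
    exact Subtype.ext (by simpa [hμ] using this.symm)
  have hθ'p : θ' (p b) = 0 := by
    have := hθ'' (ratVec F₀ (p b))
    rw [hgy, map_sub, map_smul, map_smul, ratExt_apply, ratExt_apply, ratExt_apply, hθe, hθb] at this
    exact Subtype.ext (by simpa [hμ] using this.symm)
  have hθ'0 : θ' ≠ 0 := by
    intro h
    refine ratExt_ne_zero hθ0 (LinearMap.ext fun x => ?_)
    have := hθ'' (G.1 x)
    rw [hG, slGroup.apply_inv_self, h] at this
    simpa [ratExt] using this
  have hl : l b ∈ F₀ := by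
    refine hnon _ θ' e hθ'e he hθ'0 ?_
    have hb1 := ratT_mem hM (c := (1 : F)) F₀.one_mem θ b hθb
    have h3 := H.mul_mem (H.inv_mem (ratT_mem hM (c := (1 : F)) F₀.one_mem θ' (p b) hθ'p))
      (H.mul_mem (H.mul_mem (H.inv_mem hg) hb1) hg)
    convert h3 using 1
    rw [eq_inv_mul_iff_mul_eq]
    refine slGroup.ext' fun x => ?_
    simp only [slGroup.mul_apply', ratT_apply, map_add, map_smul, ratExt_apply, hθ'e, hθ'p,
      ZeroMemClass.coe_zero, smul_eq_mul, mul_zero, add_zero, one_mul, hθ'', slGroup.inv_apply_self]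
    rw [show (g⁻¹ : slGroup F (ι → F)).1 (ratVec F₀ b) = μ⁻¹ • (ratVec F₀ (p b) + l b • ratVec F₀ e) by
      rw [← hpl, smul_smul, inv_mul_cancel₀ hμ, one_smul]]
    rw [smul_smul, show μ * ratExt θ' x * μ⁻¹ = ratExt θ' x by field_simp]
    module
  refine ⟨p b + (⟨l b, hl⟩ : F₀) • e, ?_⟩
  rw [LinearEquiv.coe_coe, ratVec_add, ratVec_smul]
  change G.1 _ = μ⁻¹ • (ratVec F₀ (p b) + l b • ratVec F₀ e)
  rw [← hpl, smul_smul, inv_mul_cancel₀ hμ, one_smul]

theorem ratScaled_of_fix_point' [Finite F] (hd : 3 ≤ Fintype.card ι)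
    (hM : ∀ g : slGroup F (ι → F), RatScaled F₀ g.1.toLinearMap → g ∈ H)
    (hnon : ∀ (c : F) η e (h : η e = 0), e ≠ 0 → η ≠ 0 → ratT (F₀ := F₀) c η e h ∈ H → c ∈ F₀)
    {g : slGroup F (ι → F)} (hg : g ∈ H) {e : ι → F₀} (he : e ≠ 0) {μ : F}
    (hge : g.1 (ratVec F₀ e) = μ • ratVec F₀ e) : RatScaled F₀ g.1.toLinearMap := by
  have hμ : μ ≠ 0 := fun h => ratVec_ne_zero he (g.1.map_eq_zero_iff.mp (by rw [hge, h, zero_smul]))
  have h := ratScaled_of_fix_point hd hM hnon (H.inv_mem hg) he (μ := μ⁻¹) (by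
    apply g.1.injective
    rw [slGroup.apply_inv_self, map_smul, hge, smul_smul, inv_mul_cancel₀ hμ, one_smul])
  rwa [inv_inv] at h

/-- An element moving a vector of a rational hyperplane to a rational point is scaled rational. -/
theorem ratScaled_of_hyperplane [Finite F] (hd : 3 ≤ Fintype.card ι)
    (hM : ∀ g : slGroup F (ι → F), RatScaled F₀ g.1.toLinearMap → g ∈ H)
    (hnon : ∀ (c : F) η e (h : η e = 0), e ≠ 0 → η ≠ 0 → ratT (F₀ := F₀) c η e h ∈ H → c ∈ F₀)
    {g : slGroup F (ι → F)} (hg : g ∈ H) {a : ι → F₀} (ha : a ≠ 0) {φ : Module.Dual F₀ (ι → F₀)} (hφ0 : φ ≠ 0)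
    (hφ : ratExt φ ((g⁻¹ : slGroup F (ι → F)).1 (ratVec F₀ a)) = 0) : RatScaled F₀ g.1.toLinearMap := by
  obtain ⟨v, hv, hφv⟩ : ∃ v, v ≠ 0 ∧ φ v = 0 := by
    have h2 := LinearMap.finrank_range_add_finrank_ker φ
    have h3 := Submodule.finrank_le (LinearMap.range φ)
    rw [Module.finrank_self] at h3
    rw [Module.finrank_fintype_fun_eq_card] at h2
    obtain ⟨v, hv, hv0⟩ := Submodule.exists_mem_ne_zero_of_ne_bot (p := LinearMap.ker φ)
      (fun h => by rw [h, finrank_bot] at h2; omega)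
    exact ⟨v, hv0, hv⟩
  have hs := H.mul_mem (H.mul_mem hg (ratT_mem hM (c := (1 : F)) F₀.one_mem φ v hφv)) (H.inv_mem hg)
  set s := g * ratT 1 φ v hφv * g⁻¹ with hsdef
  have hsx : ∀ x, s.1 x = x + ratExt φ ((g⁻¹ : slGroup F (ι → F)).1 x) • g.1 (ratVec F₀ v) := fun x => by
    rw [hsdef, slGroup.mul_apply', slGroup.mul_apply', ratT_apply, map_add, map_smul, slGroup.apply_inv_self,
      one_mul]
  have hsa : s.1 (ratVec F₀ a) = (1 : F) • ratVec F₀ a := by rw [hsx, hφ, zero_smul, add_zero, one_smul]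
  have hse := (ratScaled_of_fix_point' hd hM hnon hs ha hsa).exact_of_fix ha (u₀ := a)
    (by rw [LinearEquiv.coe_coe, hsa, one_smul])
  obtain ⟨u, hu⟩ : ∃ u, ratExt φ ((g⁻¹ : slGroup F (ι → F)).1 (ratVec F₀ u)) ≠ 0 := by
    by_contra hc
    push Not at hc
    have hz : ratExt φ ∘ₗ ((g⁻¹ : slGroup F (ι → F)).1).toLinearMap = 0 := ext_on_ratVec fun u => hc u
    refine ratExt_ne_zero hφ0 (LinearMap.ext fun x => ?_)
    have := LinearMap.congr_fun hz (g.1 x)
    rw [LinearMap.comp_apply, LinearEquiv.coe_coe, slGroup.inv_apply_self] at this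
    simpa using this
  obtain ⟨w, hw⟩ := hse u
  rw [LinearEquiv.coe_coe, hsx] at hw
  set d := ratExt φ ((g⁻¹ : slGroup F (ι → F)).1 (ratVec F₀ u))
  have hgv : g.1 (ratVec F₀ v) = d⁻¹ • ratVec F₀ (w - u) := by
    rw [ratVec_sub, ← hw, add_sub_cancel_left, smul_smul, inv_mul_cancel₀ hu, one_smul]
  by_cases hR : w - u ∈ Submodule.span F₀ {v}
  · obtain ⟨c, hc⟩ := Submodule.mem_span_singleton.mp hR
    exact ratScaled_of_fix_point' hd hM hnon hg hv (μ := d⁻¹ * c)
      (by rw [hgv, ← hc, ratVec_smul, smul_smul])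
  · have hR' : w - u ∉ Submodule.span F₀ {v - (w - u)} := fun h => by
      obtain ⟨c, hc⟩ := Submodule.mem_span_singleton.mp h
      refine hR (Submodule.mem_span_singleton.mpr ?_)
      have hc1 : (1 + c) • (w - u) = c • v := by
        rw [add_smul, one_smul]
        nth_rewrite 1 [← hc]
        rw [smul_sub, sub_add_cancel]
      rcases eq_or_ne (1 + c) 0 with h0 | h0
      · rw [h0, zero_smul, eq_comm, smul_eq_zero] at hc1
        exfalso
        rcases hc1 with h1 | h1
        · rw [h1, add_zero] at h0; exact one_ne_zero h0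
        · exact hv h1
      · exact ⟨c / (1 + c), by rw [div_eq_inv_mul, ← smul_smul, ← hc1, smul_smul, inv_mul_cancel₀ h0, one_smul]⟩
    obtain ⟨θ, hθ1, hθ0⟩ := exists_dual_vanish hR'
    have hθ0' := hθ0 _ (Submodule.mem_span_singleton_self _)
    have hm := ratT_mem hM (c := (1 : F)) F₀.one_mem θ (v - (w - u)) hθ0'
    have hfix : (ratT 1 θ (v - (w - u)) hθ0' * g : slGroup F (ι → F)).1 (ratVec F₀ v) = d⁻¹ • ratVec F₀ v := by
      rw [slGroup.mul_apply', hgv, map_smul, ratT_apply, ratExt_apply, hθ1]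
      rw [OneMemClass.coe_one, mul_one, one_smul, ← ratVec_add, add_sub_cancel]
    have hS := ratScaled_of_fix_point' hd hM hnon (H.mul_mem hm hg) hv hfix
    have := ((ratT_exact (c := (-1 : F)) (F₀.neg_mem F₀.one_mem) θ (v - (w - u)) hθ0').scaled).comp hS
    convert this using 1
    refine LinearMap.ext fun x => ?_
    simp only [LinearMap.comp_apply, LinearEquiv.coe_coe, slGroup.mul_apply', ratT_apply, map_add, map_smul,
      ratExt_apply, hθ0', ZeroMemClass.coe_zero, smul_eq_mul, mul_zero, add_zero]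
    module

end Cfsg.Lib.Classical
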