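import Mathlib
import Cfsg.Prelude.Def_GeometricClasses
import Cfsg.Agent.Classical.MaxBridge
import Cfsg.Agent.Classical.Subfield.Linear
import Cfsg.Agent.Classical.Subfield.Involution

set_option autoImplicit false
set_option linter.unusedVariables false
set_option linter.unusedSimpArgs false
set_option linter.style.haveILetI false

/-! Maximality of the subfield subgroup of `SL`. -/

namespace Cfsg.Lib.Classical

universe u

open Matrix

variable {F : Type u} [Field F] {ι : Type} [Fintype ι] [DecidableEq ι] {F₀ : Subfield F}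

theorem mem_sup_scalars_iff [Nonempty ι] (g : Matrix.GeneralLinearGroup ι F) :
    g ∈ (Matrix.GeneralLinearGroup.map (F₀.subtype : F₀ →+* F)).range ⊔ Cfsg.Geo.scalars ι F ↔
      RatScaled F₀ (Matrix.toLin' g.val) := by
  constructor
  · intro hx
    obtain ⟨y, ⟨A, rfl⟩, z, hz, rfl⟩ := Subgroup.mem_sup_of_normal_right.mp hx
    obtain ⟨c, hc⟩ := (Cfsg.Geo.mem_scalars_iff _).mp hz
    refine ⟨c, c.ne_zero, fun u => ⟨fun i => ∑ j, A.val i j * u j, ?_⟩⟩
    rw [Matrix.toLin'_apply, Units.val_mul, hc, Matrix.mul_smul, Matrix.mul_one, Matrix.smul_mulVec]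
    congr 1
    funext i
    change ∑ j, ((A.val i j : F₀) : F) * (u j : F) = ((∑ j, A.val i j * u j : F₀) : F)
    rw [AddSubmonoidClass.coe_finsetSum]
    rfl
  · rintro ⟨a, ha, hg⟩
    have hent : ∀ i j, a⁻¹ * g.val i j ∈ F₀ := by
      intro i j
      obtain ⟨r, hr⟩ := hg (Pi.single j 1)
      have e := congrFun hr i
      rw [Matrix.toLin'_apply, show ratVec F₀ (Pi.single j 1) = Pi.single j (1 : F) from funext fun l => by
        simp only [ratVec, Pi.single_apply]; split_ifs <;> simp] at e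
      rw [Matrix.mulVec_single_one, Matrix.col_apply, Pi.smul_apply, smul_eq_mul] at e
      rw [e, ← mul_assoc, inv_mul_cancel₀ ha, one_mul]
      exact (r i).2
    let A₀ : Matrix ι ι F₀ := Matrix.of fun i j => ⟨_, hent i j⟩
    have hA : A₀.map (F₀.subtype : F₀ →+* F) = a⁻¹ • g.val := Matrix.ext fun i j => rfl
    have hdet : A₀.det ≠ 0 := fun hd => by
      have e := (F₀.subtype : F₀ →+* F).map_det A₀
      rw [RingHom.mapMatrix_apply, hA, hd, map_zero, Matrix.det_smul] at e
      exact mul_ne_zero (pow_ne_zero _ (inv_ne_zero ha))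
        ((Matrix.isUnit_iff_isUnit_det _).mp g.isUnit).ne_zero e.symm
    rw [Subgroup.mem_sup_of_normal_right]
    refine ⟨Matrix.GeneralLinearGroup.map (F₀.subtype : F₀ →+* F)
        (Matrix.GeneralLinearGroup.mkOfDetNeZero A₀ hdet), ⟨_, rfl⟩,
      Units.map (Matrix.scalar ι : F →+* Matrix ι ι F).toMonoidHom (Units.mk0 a ha), ⟨_, rfl⟩, Units.ext ?_⟩
    rw [Units.val_mul]
    change A₀.map (F₀.subtype : F₀ →+* F) * Matrix.scalar ι a = g.val
    rw [hA, Matrix.scalar_apply, ← Matrix.smul_one_eq_diagonal, Matrix.mul_smul, Matrix.mul_one, smul_smul,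
      mul_inv_cancel₀ ha, one_smul]

theorem linToGL_mem_sup_scalars_iff [Nonempty ι] (g : (ι → F) ≃ₗ[F] (ι → F)) :
    linToGL ι F g ∈ (Matrix.GeneralLinearGroup.map (F₀.subtype : F₀ →+* F)).range ⊔ Cfsg.Geo.scalars ι F ↔
      RatScaled F₀ g.toLinearMap := by
  rw [mem_sup_scalars_iff, show Matrix.toLin' (linToGL ι F g).val = g.toLinearMap from
    LinearMap.ext fun x => by rw [Matrix.toLin'_apply, linToGL_mulVec]; rfl]

theorem exists_notMem_subfield [Finite F] {r : ℕ} (hr : r.Prime) (hcard : Nat.card F = Nat.card F₀ ^ r) :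
    ∃ t : F, t ∉ F₀ := by
  by_contra hc
  push Not at hc
  haveI : Finite F₀ := Finite.of_injective _ Subtype.val_injective
  have h1 : 1 < Nat.card F₀ := Finite.one_lt_card
  have h2 : Nat.card F ≤ Nat.card F₀ :=
    Nat.card_le_card_of_injective (fun t => (⟨t, hc t⟩ : F₀)) fun a b h => congrArg Subtype.val h
  rw [hcard] at h2
  have := (Nat.pow_le_pow_iff_right (n := r) (m := 1) h1).mp (by rwa [pow_one])
  have := hr.two_le
  omega

theorem isCoatom_subfield_sl [Finite F] {r : ℕ} (hr : r.Prime) (hcard : Nat.card F = Nat.card F₀ ^ r)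
    (hd : 9 ≤ Fintype.card ι) (e2 : Fin 2 × Bool ↪ ι) (e4 : Fin 4 × Bool ↪ ι) {M : Subgroup (slGroup F (ι → F))}
    (hM : ∀ g : slGroup F (ι → F), g ∈ M ↔ RatScaled F₀ g.1.toLinearMap) : IsCoatom M := by
  classical
  haveI : Nonempty ι := ⟨e2 (0, true)⟩
  have hd₀ : 3 ≤ Module.finrank F₀ (ι → F₀) := by rw [Module.finrank_fintype_fun_eq_card]; omega
  refine ⟨fun htop => ?_, fun H hlt => ?_⟩
  · obtain ⟨t, ht⟩ := exists_notMem_subfield hr hcard
    set i₀ := e2 (0, true)
    set i₁ := e2 (0, false)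
    set i₂ := e2 (1, true)
    have h01 : i₀ ≠ i₁ := fun h => by simpa using e2.injective h
    have h20 : i₂ ≠ i₀ := fun h => by simpa using e2.injective h
    have h21 : i₂ ≠ i₁ := fun h => by simpa using e2.injective h
    have h0 : (LinearMap.proj i₀ : Module.Dual F₀ (ι → F₀)) (Pi.single i₁ 1) = 0 := by simp [h01]
    have hs := (hM _).mp (htop ▸ Subgroup.mem_top (ratT t (LinearMap.proj i₀) _ h0))
    have hex := hs.exact_of_fix (u₀ := (Pi.single i₂ 1 : ι → F₀)) (r₀ := Pi.single i₂ 1)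
      (fun h => by simpa using congrFun h i₂)
      (by rw [LinearEquiv.coe_coe, ratT_apply, ratExt_apply]; simp [h20])
    obtain ⟨r', hr'⟩ := hex (Pi.single i₀ 1)
    rw [LinearEquiv.coe_coe, ratT_apply, ratExt_apply] at hr'
    have h := congrFun hr' i₁
    simp [ratVec, h01, h01.symm] at h
    exact ht (h ▸ SetLike.coe_mem _)
  have hH : ∀ g : slGroup F (ι → F), RatScaled F₀ g.1.toLinearMap → g ∈ H := fun g hg => hlt.le ((hM g).mpr hg)
  by_cases hnon : ∀ (c : F) η e (h : η e = 0), e ≠ 0 → η ≠ 0 → ratT (F₀ := F₀) c η e h ∈ H → c ∈ F₀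
  swap
  · push Not at hnon
    obtain ⟨c, η, e, h, he, hη, hmem, hc⟩ := hnon
    exact top_of_nonrational hr hcard (by omega) hH hc he hη h hmem
  exfalso
  obtain ⟨g, hg, hgM⟩ := SetLike.exists_of_lt hlt
  apply hgM
  rw [hM]
  by_cases hr2 : r = 2
  · obtain ⟨φ, hφ0, -, -⟩ := exists_dual_two_zero hd₀ (0 : ι → F₀) 0 0
    obtain ⟨a, ha, ha'⟩ := exists_ratVec_kernel (F₀ := F₀) (ι := ι) hcard (by omega)
      (ratExt φ ∘ₗ ((g⁻¹ : slGroup F (ι → F)).1).toLinearMap)
    exact ratScaled_of_hyperplane (by omega) hH hnon hg ha hφ0 ha'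
  set K : Subgroup ((ι → F) ≃ₗ[F] (ι → F)) := H.map (slGroup F (ι → F)).subtype with hK
  have hinv : ∀ g ∈ K, ∀ z ∈ K, ∀ w ∈ K, RatExact F₀ z.toLinearMap → RatExact F₀ w.toLinearMap →
      z * z = 1 → w * w = 1 → z ≠ 1 → z ≠ LinearEquiv.neg F → g * w = z * g → RatScaled F₀ g.toLinearMap := by
    rintro _ ⟨g, hg, rfl⟩ z hz w hw hze hwe hzz hww hz1 hzN he
    have happ : ∀ x, g.1 (w x) = z (g.1 x) := fun x => LinearEquiv.congr_fun he x
    -- a rational fixed vector of `z`
    obtain ⟨a, ha, hza⟩ : ∃ a : ι → F₀, a ≠ 0 ∧ z (ratVec F₀ a) = ratVec F₀ a := by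
      by_contra hc
      push Not at hc
      apply hzN
      refine LinearEquiv.toLinearMap_injective (ext_on_ratVec (F₀ := F₀) fun u => ?_)
      obtain ⟨r', hr'⟩ := hze u
      rw [LinearEquiv.coe_coe] at hr'
      have h0 : r' + u = 0 := by
        by_contra hne
        refine hc _ hne ?_
        rw [ratVec_add, map_add, ← hr', show z (z (ratVec F₀ u)) = ratVec F₀ u from
          LinearEquiv.congr_fun hzz _, add_comm]
      rw [LinearEquiv.coe_coe, hr', eq_neg_of_add_eq_zero_left h0]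
      funext i
      simp [ratVec]
    -- a rational functional vanishing on the fixed space of `w`
    obtain ⟨u, i, hui⟩ : ∃ u : ι → F₀, ∃ i, (w (ratVec F₀ u) - ratVec F₀ u) i ≠ 0 := by
      by_contra hc
      push Not at hc
      apply hz1
      have hw1 : w = 1 := LinearEquiv.toLinearMap_injective (ext_on_ratVec (F₀ := F₀) fun u =>
        funext fun i => sub_eq_zero.mp (hc u i))
      rw [hw1, mul_one] at he
      exact mul_eq_right.mp he.symm
    obtain ⟨φ, hφ⟩ := exists_ratExt (F₀ := F₀)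
      ((LinearMap.proj i : (ι → F) →ₗ[F] F) ∘ₗ (w.toLinearMap - LinearMap.id)) (fun u => by
        obtain ⟨r', hr'⟩ := hwe u
        simp only [LinearMap.comp_apply, LinearMap.sub_apply, LinearMap.id_apply, LinearMap.proj_apply, hr',
          Pi.sub_apply]
        exact F₀.sub_mem (r' i).2 (u i).2)
    have hφ0 : φ ≠ 0 := fun h => hui (by
      have := LinearMap.congr_fun hφ (ratVec F₀ u)
      rw [h] at this
      simpa [ratExt] using this)
    refine ratScaled_of_hyperplane (by omega) hH hnon hg ha hφ0 ?_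
    rw [← hφ]
    have hy : w ((g⁻¹ : slGroup F (ι → F)).1 (ratVec F₀ a)) = (g⁻¹ : slGroup F (ι → F)).1 (ratVec F₀ a) := by
      apply g.1.injective
      rw [happ, slGroup.apply_inv_self, hza]
    change w ((g⁻¹ : slGroup F (ι → F)).1 (ratVec F₀ a)) i - (g⁻¹ : slGroup F (ι → F)).1 (ratVec F₀ a) i = 0
    rw [hy, sub_self]
  let i2 : slGroup F (ι → F) := ⟨pairInvol F e2, by
    rw [slGroup, MonoidHom.mem_ker, det_pairInvol]; norm_num⟩
  let i4 : slGroup F (ι → F) := ⟨pairInvol F e4, by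
    rw [slGroup, MonoidHom.mem_ker, det_pairInvol]; norm_num⟩
  exact ratScaled_of_involutions hr hr2 hcard hinv
    (i := pairInvol F e2) (j := pairInvol F e4)
    ⟨i2, hH _ (pairInvol_exact F₀ e2).scaled, rfl⟩ ⟨i4, hH _ (pairInvol_exact F₀ e4).scaled, rfl⟩
    (pairInvol_exact F₀ e2) (pairInvol_exact F₀ e4) (pairInvol_sq e2) (pairInvol_sq e4) 2 4 (by norm_num)
    (by norm_num) (finrank_fix_pairInvol e2) (finrank_fix_pairInvol e4) (by norm_num) (by omega) (by omega)
    (by omega) (by omega) ⟨g, hg, rfl⟩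

/-- An embedding of pairs. -/
def finPairs (n k : ℕ) (h : 2 * k ≤ n) : Fin k × Bool ↪ Fin n where
  toFun p := ⟨2 * p.1 + (if p.2 then 1 else 0), by have := p.1.2; split_ifs <;> omega⟩
  inj' := by
    rintro ⟨s, a⟩ ⟨s', b⟩ h'
    simp only [Fin.ext_iff] at h'
    cases a <;> cases b <;> simp_all [Fin.ext_iff] <;> omega

theorem isMaximalIn_subfield_sl [Fintype F] {n : ℕ} (hn : 9 ≤ n) {r : ℕ} (hr : r.Prime)
    (hcard : Fintype.card F = Nat.card F₀ ^ r) (P : Matrix.GeneralLinearGroup (Fin n) F) :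
    Cfsg.Geo.IsMaximalIn (Cfsg.Geo.specialLinear (Fin n) F)
      (Cfsg.Geo.subfieldSubgroup F₀ P ⊓ Cfsg.Geo.specialLinear (Fin n) F) := by
  haveI : Nonempty (Fin n) := ⟨⟨0, by omega⟩⟩
  let φ : slGroup F (Fin n → F) →* Matrix.GeneralLinearGroup (Fin n) F :=
    (MulAut.conj P).toMonoidHom.comp (slToGL (Fin n) F)
  haveI hnormal : (Cfsg.Geo.specialLinear (Fin n) F).Normal := MonoidHom.normal_ker _
  have hrange : φ.range = Cfsg.Geo.specialLinear (Fin n) F := by
    rw [MonoidHom.range_comp, range_slToGL]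
    exact Subgroup.Normal.map_conj_eq _ P
  refine isMaximalIn_of_isCoatom_comap φ hrange ?_
  refine isCoatom_subfield_sl hr (by rw [Nat.card_eq_fintype_card]; exact hcard) (by rw [Fintype.card_fin]; omega)
    (finPairs n 2 (by omega)) (finPairs n 4 (by omega)) fun g => ?_
  rw [Subgroup.mem_comap, ← linToGL_mem_sup_scalars_iff]
  exact Subgroup.mem_map_iff_mem (MulAut.conj P).injective

end Cfsg.Lib.Classical
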