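import Mathlib
import Cfsg.Agent.Classical.Subfield.LinearMain
import Cfsg.Agent.Classical.Misc.SLTwoGen

set_option autoImplicit false
set_option linter.unusedVariables false
set_option linter.unusedSimpArgs false
set_option linter.style.haveILetI false

/-! The subfield subgroup of `SL` is maximal in dimension at least four.

In odd characteristic a rational transvection and its conjugate generate on a plane a copy of some `SL₂`, whose
element `-1` replaces the involutions used in large dimension. -/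

namespace Cfsg.Lib.Classical

universe u

variable {F : Type u} [Field F]

/-- Two opposite transvections in odd characteristic generate a group containing `-1`. -/
theorem neg_one_mem_gen [Fintype F] (h2 : (2 : F) ≠ 0) (l : F) (hl : l ≠ 0)
    (hgen : Subfield.closure ({l} : Set F) = ⊤) :
    (-1 : Matrix.SpecialLinearGroup (Fin 2) F) ∈ SLTwoGen.gen l := by
  classical
  rcases SLTwoGen.dickson_gen h2 l hl hgen with ⟨h, -⟩ | ⟨-, -, h⟩
  · rw [h]; exact Subgroup.mem_top _
  obtain ⟨⟨x, hx⟩, ho⟩ := exists_prime_orderOf_dvd_card' (G := SLTwoGen.gen l) 2 (by rw [h]; norm_num)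
  rw [Subgroup.orderOf_mk] at ho
  have hxx : x * x = 1 := by
    rw [← sq]
    have := pow_orderOf_eq_one x
    rwa [ho] at this
  have hx1 : x ≠ 1 := fun e => by rw [e, orderOf_one] at ho; norm_num at ho
  suffices x = -1 by rwa [this] at hx
  have hinv : x⁻¹ = x := inv_eq_of_mul_eq_one_right hxx
  have hadj : Matrix.adjugate (x : Matrix (Fin 2) (Fin 2) F) = (x : Matrix (Fin 2) (Fin 2) F) := by
    rw [← Matrix.SpecialLinearGroup.coe_inv, hinv]
  rw [Matrix.adjugate_fin_two] at hadj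
  have e00 := congrFun (congrFun hadj 0) 0
  have e01 := congrFun (congrFun hadj 0) 1
  have e10 := congrFun (congrFun hadj 1) 0
  simp at e00 e01 e10
  have z01 : x.1 0 1 = 0 := (mul_eq_zero.mp (show (2 : F) * x.1 0 1 = 0 by linear_combination -e01)).resolve_left h2
  have z10 : x.1 1 0 = 0 := (mul_eq_zero.mp (show (2 : F) * x.1 1 0 = 0 by linear_combination -e10)).resolve_left h2
  have hd : x.1 0 0 * x.1 0 0 = 1 := by
    have := x.2
    rw [Matrix.det_fin_two, z01, e00] at this
    linear_combination this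
  rcases mul_self_eq_one_iff.mp hd with h0 | h0
  · refine absurd (Subtype.ext (Matrix.ext fun i j => ?_)) hx1
    fin_cases i <;> fin_cases j <;> simp [z01, z10, h0, e00]
  · refine Subtype.ext (Matrix.ext fun i j => ?_)
    fin_cases i <;> fin_cases j <;> simp [z01, z10, h0, e00]

variable {ι : Type} [Fintype ι] [DecidableEq ι] {F₀ : Subfield F} {H : Subgroup (slGroup F (ι → F))}

/-- A non-scalar element with a rational eigenvector shared with its image under `g`. -/
theorem ratScaled_of_common [Finite F] (hd : 3 ≤ Fintype.card ι)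
    (hM : ∀ g : slGroup F (ι → F), RatScaled F₀ g.1.toLinearMap → g ∈ H)
    (hnon : ∀ (c : F) η e (h : η e = 0), e ≠ 0 → η ≠ 0 → ratT (F₀ := F₀) c η e h ∈ H → c ∈ F₀)
    {g z : slGroup F (ι → F)} (hg : g ∈ H) (hz : z ∈ H) {v : ι → F₀} (hv : v ≠ 0) {μ : F}
    (hzv : z.1 (ratVec F₀ v) = μ • ratVec F₀ v) (hzw : z.1 (g.1 (ratVec F₀ v)) = μ • g.1 (ratVec F₀ v))
    (hne : ∃ x, z.1 x ≠ μ • x) : RatScaled F₀ g.1.toLinearMap := by
  have hμ : μ ≠ 0 := fun h => ratVec_ne_zero hv (z.1.map_eq_zero_iff.mp (by rw [hzv, h, zero_smul]))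
  set w := g⁻¹ * z * g with hw
  have hwK : w ∈ H := H.mul_mem (H.mul_mem (H.inv_mem hg) hz) hg
  have hwx : ∀ x, g.1 (w.1 x) = z.1 (g.1 x) := fun x => by
    rw [hw, slGroup.mul_apply', slGroup.mul_apply', slGroup.apply_inv_self]
  have hwv : w.1 (ratVec F₀ v) = μ • ratVec F₀ v := g.1.injective (by rw [hwx, hzw, map_smul])
  obtain ⟨a, ha, hws⟩ := ratScaled_of_fix_point' hd hM hnon hwK hv hwv
  set W : (ι → F) →ₗ[F] (ι → F) := μ⁻¹ • w.1.toLinearMap
  have hWs : RatScaled F₀ W := ⟨μ⁻¹ * a, mul_ne_zero (inv_ne_zero hμ) ha, fun u => by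
    obtain ⟨r, hr⟩ := hws u
    exact ⟨r, by rw [LinearMap.smul_apply, hr, smul_smul]⟩⟩
  have hWe := hWs.exact_of_fix hv (u₀ := v)
    (by rw [LinearMap.smul_apply, LinearEquiv.coe_coe, hwv, smul_smul, inv_mul_cancel₀ hμ, one_smul])
  obtain ⟨u, i, hui⟩ : ∃ u : ι → F₀, ∃ i, (W (ratVec F₀ u) - ratVec F₀ u) i ≠ 0 := by
    by_contra hc
    push Not at hc
    obtain ⟨x, hx⟩ := hne
    have hW1 : W = LinearMap.id := ext_on_ratVec (F₀ := F₀) fun u => funext fun i => sub_eq_zero.mp (hc u i)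
    refine hx ?_
    have h1 : w.1 ((g⁻¹ : slGroup F (ι → F)).1 x) = μ • (g⁻¹ : slGroup F (ι → F)).1 x := by
      have := LinearMap.congr_fun hW1 ((g⁻¹ : slGroup F (ι → F)).1 x)
      rw [LinearMap.smul_apply, LinearMap.id_apply, inv_smul_eq_iff₀ hμ] at this
      exact this
    have h2 := congrArg g.1 h1
    rwa [hwx, map_smul, slGroup.apply_inv_self] at h2
  obtain ⟨φ, hφ⟩ := exists_ratExt (F₀ := F₀) ((LinearMap.proj i : (ι → F) →ₗ[F] F) ∘ₗ (W - LinearMap.id))
    (fun u => by
      obtain ⟨r', hr'⟩ := hWe u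
      simp only [LinearMap.comp_apply, LinearMap.sub_apply, LinearMap.id_apply, LinearMap.proj_apply, hr',
        Pi.sub_apply]
      exact F₀.sub_mem (r' i).2 (u i).2)
  have hφ0 : φ ≠ 0 := fun h => hui (by
    have := LinearMap.congr_fun hφ (ratVec F₀ u)
    rw [h] at this
    simpa [ratExt] using this)
  refine ratScaled_of_hyperplane hd hM hnon hg hv hφ0 ?_
  have h1 : w.1 ((g⁻¹ : slGroup F (ι → F)).1 (ratVec F₀ v)) = μ • (g⁻¹ : slGroup F (ι → F)).1 (ratVec F₀ v) :=
    g.1.injective (by rw [hwx, map_smul, slGroup.apply_inv_self, hzv])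
  rw [← hφ, LinearMap.comp_apply, LinearMap.sub_apply, LinearMap.id_apply, LinearMap.proj_apply,
    LinearMap.smul_apply, LinearEquiv.coe_coe, h1, smul_smul, inv_mul_cancel₀ hμ, one_smul, sub_self]
  rfl

/-- In odd characteristic every element of `H` is scaled rational. -/
theorem ratScaled_of_plane [Finite F] (h2 : (2 : F) ≠ 0) (hd : 3 ≤ Fintype.card ι)
    (hM : ∀ g : slGroup F (ι → F), RatScaled F₀ g.1.toLinearMap → g ∈ H)
    (hnon : ∀ (c : F) η e (h : η e = 0), e ≠ 0 → η ≠ 0 → ratT (F₀ := F₀) c η e h ∈ H → c ∈ F₀)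
    {g : slGroup F (ι → F)} (hg : g ∈ H) : RatScaled F₀ g.1.toLinearMap := by
  classical
  have hd₀ : 3 ≤ Module.finrank F₀ (ι → F₀) := by rwa [Module.finrank_fintype_fun_eq_card]
  obtain ⟨φ₀, hφ₀, -, -⟩ := exists_dual_two_zero hd₀ (0 : ι → F₀) 0 0
  obtain ⟨v₀, hv₀, hφv⟩ : ∃ v, v ≠ 0 ∧ φ₀ v = 0 := by
    have h2 := LinearMap.finrank_range_add_finrank_ker φ₀
    have h3 := Submodule.finrank_le (LinearMap.range φ₀)
    rw [Module.finrank_self] at h3
    rw [Module.finrank_fintype_fun_eq_card] at h2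
    obtain ⟨v, hv, hv0⟩ := Submodule.exists_mem_ne_zero_of_ne_bot (p := LinearMap.ker φ₀)
      (fun h => by rw [h, finrank_bot] at h2; omega)
    exact ⟨v, hv0, hv⟩
  set t := ratT (1 : F) φ₀ v₀ hφv
  have htK : t ∈ H := ratT_mem hM F₀.one_mem φ₀ v₀ hφv
  set t' := g * t * g⁻¹
  have ht'K : t' ∈ H := H.mul_mem (H.mul_mem hg htK) (H.inv_mem hg)
  set φ := ratExt (F := F) φ₀ with hφdef
  set v := ratVec F₀ v₀ with hvdef
  set w := g.1 v with hwdef
  set ψ : Module.Dual F (ι → F) := φ ∘ₗ ((g⁻¹ : slGroup F (ι → F)).1).toLinearMap with hψdef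
  have hφv' : φ v = 0 := by rw [hφdef, hvdef, ratExt_apply, hφv]; rfl
  have hψw : ψ w = 0 := by simp [ψ, w, slGroup.inv_apply_self, hφv']
  have ht : ∀ x, t.1 x = x + φ x • v := fun x => by rw [ratT_apply, one_mul]
  have ht' : ∀ x, t'.1 x = x + ψ x • w := fun x => by
    simp only [t', slGroup.mul_apply', ht, map_add, map_smul, slGroup.apply_inv_self]
    rfl
  have hφ0 : ∃ x, φ x ≠ 0 := by
    by_contra hc
    push Not at hc
    exact ratExt_ne_zero hφ₀ (LinearMap.ext fun x => hc x)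
  have hψ0 : ∃ x, ψ x ≠ 0 := by
    obtain ⟨x, hx⟩ := hφ0
    exact ⟨g.1 x, by simpa [ψ, slGroup.inv_apply_self] using hx⟩
  have hv0 : v ≠ 0 := ratVec_ne_zero hv₀
  have hw0 : w ≠ 0 := fun e => hv0 (g.1.map_eq_zero_iff.mp e)
  by_cases hδ' : φ w = 0
  · by_cases hδ : ψ v = 0
    · refine ratScaled_of_common hd hM hnon hg htK hv₀ (μ := 1) ?_ ?_ ?_
      · rw [ht, hφv', zero_smul, add_zero, one_smul]
      · rw [ht, hδ', zero_smul, add_zero, one_smul]
      · obtain ⟨x, hx⟩ := hφ0
        exact ⟨x, by rw [ht, one_smul]; simpa using smul_ne_zero hx hv0⟩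
    · have hz : ∀ x, (t' * t * t'⁻¹ * t⁻¹).1 x = x + (ψ v * φ x) • w := fun x => by
        obtain ⟨y, rfl⟩ : ∃ y, (t * t').1 y = x := ⟨_, (t * t').1.apply_symm_apply x⟩
        have e : (t' * t * t'⁻¹ * t⁻¹).1 ((t * t').1 y) = (t' * t).1 y := by
          rw [← slGroup.mul_apply']; congr 2; group
        rw [e]
        simp only [slGroup.mul_apply', ht, ht', map_add, map_smul, smul_eq_mul, hδ', hφv', mul_zero, add_zero]
        module
      refine ratScaled_of_common hd hM hnon hg
        (H.mul_mem (H.mul_mem (H.mul_mem ht'K htK) (H.inv_mem ht'K)) (H.inv_mem htK)) hv₀ (μ := 1) ?_ ?_ ?_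
      · rw [hz, hφv', mul_zero, zero_smul, add_zero, one_smul]
      · rw [hz, hδ', mul_zero, zero_smul, add_zero, one_smul]
      · obtain ⟨x, hx⟩ := hφ0
        exact ⟨x, by rw [hz, one_smul]; simpa using smul_ne_zero (mul_ne_zero hδ hx) hw0⟩
  by_cases hδ : ψ v = 0
  · have hz : ∀ x, (t * t' * t⁻¹ * t'⁻¹).1 x = x + (φ w * ψ x) • v := fun x => by
      obtain ⟨y, rfl⟩ : ∃ y, (t' * t).1 y = x := ⟨_, (t' * t).1.apply_symm_apply x⟩
      have e : (t * t' * t⁻¹ * t'⁻¹).1 ((t' * t).1 y) = (t * t').1 y := by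
        rw [← slGroup.mul_apply']; congr 2; group
      rw [e]
      simp only [slGroup.mul_apply', ht, ht', map_add, map_smul, smul_eq_mul, hδ, hψw, mul_zero, add_zero]
      module
    refine ratScaled_of_common hd hM hnon hg
      (H.mul_mem (H.mul_mem (H.mul_mem htK ht'K) (H.inv_mem htK)) (H.inv_mem ht'K)) hv₀ (μ := 1) ?_ ?_ ?_
    · rw [hz, hδ, mul_zero, zero_smul, add_zero, one_smul]
    · rw [hz, hψw, mul_zero, zero_smul, add_zero, one_smul]
    · obtain ⟨x, hx⟩ := hψ0
      exact ⟨x, by rw [hz, one_smul]; simpa using smul_ne_zero (mul_ne_zero hδ' hx) hv0⟩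
  -- both products are non-zero: a plane carrying a special linear group of degree two
  set γ := ψ v * φ w with hγ
  set w' := (φ w)⁻¹ • w with hw'
  let K₀ : Subfield F := Subfield.closure {γ}
  haveI : Finite K₀ := Finite.of_injective _ Subtype.val_injective
  haveI : Fintype K₀ := Fintype.ofFinite _
  let l : K₀ := ⟨γ, Subfield.subset_closure (Set.mem_singleton γ)⟩
  have hlgen : Subfield.closure ({l} : Set K₀) = ⊤ := by
    refine eq_top_iff.mpr fun x _ => ?_
    have h1 : (Subfield.closure ({l} : Set K₀)).map K₀.subtype = K₀ := by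
      rw [RingHom.map_field_closure, Set.image_singleton]
      rfl
    have hx' : (x : F) ∈ (Subfield.closure ({l} : Set K₀)).map K₀.subtype := by rw [h1]; exact x.2
    obtain ⟨y, hy, hyx⟩ := Subfield.mem_map.mp hx'
    rwa [show y = x from Subtype.ext hyx] at hy
  have h2' : (2 : K₀) ≠ 0 := fun h => h2 (by have := congrArg K₀.subtype h; simpa [map_ofNat] using this)
  have hneg := neg_one_mem_gen h2' l (fun h => mul_ne_zero hδ hδ' (congrArg Subtype.val h)) hlgen
  have hpred : ∀ A ∈ SLTwoGen.gen l, ∃ h ∈ H, h.1 w' = (A.1 0 0 : F) • w' + (A.1 1 0 : F) • v ∧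
      h.1 v = (A.1 0 1 : F) • w' + (A.1 1 1 : F) • v ∧ ∀ x, φ x = 0 → ψ x = 0 → h.1 x = x := by
    intro A hA
    induction hA using Subgroup.closure_induction with
    | mem A hA =>
      rcases hA with rfl | rfl
      · refine ⟨t, htK, ?_, ?_, fun x h _ => by rw [ht, h, zero_smul, add_zero]⟩
        · rw [ht, hw', map_smul, smul_eq_mul, inv_mul_cancel₀ hδ']
          simp [SLTwoGen.gl1, PSLFour.sl00, PSLFour.sl10]
        · rw [ht, hφv']
          simp [SLTwoGen.gl1, PSLFour.sl01, PSLFour.sl11]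
      · refine ⟨t', ht'K, ?_, ?_, fun x _ h => by rw [ht', h, zero_smul, add_zero]⟩
        · rw [ht', hw', map_smul, hψw, smul_zero, zero_smul, add_zero]
          simp [SLTwoGen.gu, PSLFour.sl00, PSLFour.sl10]
        · rw [ht', hw', smul_smul]
          simp [SLTwoGen.gu, PSLFour.sl01, PSLFour.sl11, l, hγ, hδ']
          abel
    | one => exact ⟨1, H.one_mem, by simp, by simp, fun x _ _ => rfl⟩
    | mul A B _ _ ihA ihB =>
      obtain ⟨p, hp, p1, p2, p3⟩ := ihA
      obtain ⟨q, hq, q1, q2, q3⟩ := ihB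
      refine ⟨p * q, H.mul_mem hp hq, ?_, ?_, fun x h h' => by rw [slGroup.mul_apply', q3 x h h', p3 x h h']⟩
      all_goals
        simp only [slGroup.mul_apply', q1, q2, map_add, map_smul, p1, p2, Matrix.SpecialLinearGroup.coe_mul,
          Matrix.mul_apply, Fin.sum_univ_two]
        push_cast
        module
    | inv A _ ihA =>
      obtain ⟨p, hp, p1, p2, p3⟩ := ihA
      have hdet : (A.1 0 0 : F) * A.1 1 1 - (A.1 0 1 : F) * A.1 1 0 = 1 := by
        have := A.2
        rw [Matrix.det_fin_two] at this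
        simpa using congrArg (fun y : K₀ => (y : F)) this
      refine ⟨p⁻¹, H.inv_mem hp, ?_, ?_, fun x h h' => by
        apply p.1.injective; rw [slGroup.apply_inv_self, p3 x h h']⟩
      all_goals
        apply p.1.injective
        rw [slGroup.apply_inv_self, Matrix.SpecialLinearGroup.coe_inv, Matrix.adjugate_fin_two]
        simp only [map_add, map_smul, p1, p2, Matrix.of_apply, Matrix.cons_val', Matrix.cons_val_zero,
          Matrix.cons_val_one, Matrix.empty_val', Matrix.cons_val_fin_one]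
        push_cast
        clear_value w'
        match_scalars <;> first | linear_combination hdet | linear_combination -hdet | ring
  obtain ⟨z, hzK, z1, z2, z3⟩ := hpred _ hneg
  have hzv : z.1 v = (-1 : F) • v := by rw [z2]; simp
  have hzw' : z.1 w' = (-1 : F) • w' := by rw [z1]; simp
  refine ratScaled_of_common hd hM hnon hg hzK hv₀ hzv ?_ ?_
  · have e : w = φ w • w' := by rw [hw', smul_smul, mul_inv_cancel₀ hδ', one_smul]
    change z.1 w = (-1 : F) • w
    rw [e, map_smul, hzw', smul_comm]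
  · let L : (ι → F) →ₗ[F] (Fin 2 → F) := LinearMap.pi ![φ, ψ]
    obtain ⟨x, hx, hx0⟩ := Submodule.exists_mem_ne_zero_of_ne_bot (p := LinearMap.ker L) (fun h => by
      have h1 := LinearMap.finrank_range_add_finrank_ker L
      have h3 := Submodule.finrank_le (LinearMap.range L)
      rw [h, finrank_bot, Module.finrank_fintype_fun_eq_card] at h1
      rw [Module.finrank_fin_fun] at h3
      omega)
    refine ⟨x, ?_⟩
    rw [LinearMap.mem_ker] at hx
    rw [z3 x (congrFun hx 0) (congrFun hx 1), neg_one_smul]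
    intro e
    exact hx0 ((smul_eq_zero.mp (show (2 : F) • x = 0 by rw [two_smul]; exact add_eq_zero_iff_eq_neg.mpr e)).resolve_left h2)

theorem isCoatom_subfield_sl_five [Finite F] {r : ℕ} (hr : r.Prime) (hcard : Nat.card F = Nat.card F₀ ^ r)
    (hd : 4 ≤ Fintype.card ι) (e1 : Fin 1 × Bool ↪ ι) (e2 : Fin 2 × Bool ↪ ι) {M : Subgroup (slGroup F (ι → F))}
    (hM : ∀ g : slGroup F (ι → F), g ∈ M ↔ RatScaled F₀ g.1.toLinearMap) : IsCoatom M := by
  classical
  haveI : Nonempty ι := ⟨e2 (0, true)⟩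
  have hd₀ : 3 ≤ Module.finrank F₀ (ι → F₀) := by rw [Module.finrank_fintype_fun_eq_card]; omega
  refine ⟨fun htop => ?_, fun H hlt => ?_⟩
  · obtain ⟨t, ht⟩ := exists_notMem_subfield hr hcard
    set i₀ := e2 (0, true)
    set i₁ := e2 (0, false)
    set i₂ := e2 (1, true)
    have h01 : i₀ ≠ i₁ := fun h => by simpa using e2.injective h
    have h20 : i₂ ≠ i₀ := fun h => by simpa using e2.injective h
    have h21 : i₂ ≠ i₁ := fun h => by simpa using e2.injective h
    have h0 : (LinearMap.proj i₀ : Module.Dual F₀ (ι → F₀)) (Pi.single i₁ 1) = 0 := by simp [h01]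
    have hs := (hM _).mp (htop ▸ Subgroup.mem_top (ratT t (LinearMap.proj i₀) _ h0))
    have hex := hs.exact_of_fix (u₀ := (Pi.single i₂ 1 : ι → F₀)) (r₀ := Pi.single i₂ 1)
      (fun h => by simpa using congrFun h i₂)
      (by rw [LinearEquiv.coe_coe, ratT_apply, ratExt_apply]; simp [h20])
    obtain ⟨r', hr'⟩ := hex (Pi.single i₀ 1)
    rw [LinearEquiv.coe_coe, ratT_apply, ratExt_apply] at hr'
    have h := congrFun hr' i₁
    simp [ratVec, h01, h01.symm] at h
    exact ht (h ▸ SetLike.coe_mem _)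
  have hH : ∀ g : slGroup F (ι → F), RatScaled F₀ g.1.toLinearMap → g ∈ H := fun g hg => hlt.le ((hM g).mpr hg)
  by_cases hnon : ∀ (c : F) η e (h : η e = 0), e ≠ 0 → η ≠ 0 → ratT (F₀ := F₀) c η e h ∈ H → c ∈ F₀
  swap
  · push Not at hnon
    obtain ⟨c, η, e, h, he, hη, hmem, hc⟩ := hnon
    exact top_of_nonrational hr hcard (by omega) hH hc he hη h hmem
  exfalso
  obtain ⟨g, hg, hgM⟩ := SetLike.exists_of_lt hlt
  apply hgM
  rw [hM]
  by_cases h2 : (2 : F) = 0
  swap
  · exact ratScaled_of_plane h2 (by omega) hH hnon hg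
  by_cases hr2 : r = 2
  · obtain ⟨φ, hφ0, -, -⟩ := exists_dual_two_zero hd₀ (0 : ι → F₀) 0 0
    obtain ⟨a, ha, ha'⟩ := exists_ratVec_kernel (F₀ := F₀) (ι := ι) hcard (by omega)
      (ratExt φ ∘ₗ ((g⁻¹ : slGroup F (ι → F)).1).toLinearMap)
    exact ratScaled_of_hyperplane (by omega) hH hnon hg ha hφ0 ha'
  set K : Subgroup ((ι → F) ≃ₗ[F] (ι → F)) := H.map (slGroup F (ι → F)).subtype with hK
  have hinv : ∀ g ∈ K, ∀ z ∈ K, ∀ w ∈ K, RatExact F₀ z.toLinearMap → RatExact F₀ w.toLinearMap →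
      z * z = 1 → w * w = 1 → z ≠ 1 → z ≠ LinearEquiv.neg F → g * w = z * g → RatScaled F₀ g.toLinearMap := by
    rintro _ ⟨g, hg, rfl⟩ z hz w hw hze hwe hzz hww hz1 hzN he
    have happ : ∀ x, g.1 (w x) = z (g.1 x) := fun x => LinearEquiv.congr_fun he x
    -- a rational fixed vector of `z`
    obtain ⟨a, ha, hza⟩ : ∃ a : ι → F₀, a ≠ 0 ∧ z (ratVec F₀ a) = ratVec F₀ a := by
      by_contra hc
      push Not at hc
      apply hzN
      refine LinearEquiv.toLinearMap_injective (ext_on_ratVec (F₀ := F₀) fun u => ?_)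
      obtain ⟨r', hr'⟩ := hze u
      rw [LinearEquiv.coe_coe] at hr'
      have h0 : r' + u = 0 := by
        by_contra hne
        refine hc _ hne ?_
        rw [ratVec_add, map_add, ← hr', show z (z (ratVec F₀ u)) = ratVec F₀ u from
          LinearEquiv.congr_fun hzz _, add_comm]
      rw [LinearEquiv.coe_coe, hr', eq_neg_of_add_eq_zero_left h0]
      funext i
      simp [ratVec]
    -- a rational functional vanishing on the fixed space of `w`
    obtain ⟨u, i, hui⟩ : ∃ u : ι → F₀, ∃ i, (w (ratVec F₀ u) - ratVec F₀ u) i ≠ 0 := by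
      by_contra hc
      push Not at hc
      apply hz1
      have hw1 : w = 1 := LinearEquiv.toLinearMap_injective (ext_on_ratVec (F₀ := F₀) fun u =>
        funext fun i => sub_eq_zero.mp (hc u i))
      rw [hw1, mul_one] at he
      exact mul_eq_right.mp he.symm
    obtain ⟨φ, hφ⟩ := exists_ratExt (F₀ := F₀)
      ((LinearMap.proj i : (ι → F) →ₗ[F] F) ∘ₗ (w.toLinearMap - LinearMap.id)) (fun u => by
        obtain ⟨r', hr'⟩ := hwe u
        simp only [LinearMap.comp_apply, LinearMap.sub_apply, LinearMap.id_apply, LinearMap.proj_apply, hr',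
          Pi.sub_apply]
        exact F₀.sub_mem (r' i).2 (u i).2)
    have hφ0 : φ ≠ 0 := fun h => hui (by
      have := LinearMap.congr_fun hφ (ratVec F₀ u)
      rw [h] at this
      simpa [ratExt] using this)
    refine ratScaled_of_hyperplane (by omega) hH hnon hg ha hφ0 ?_
    rw [← hφ]
    have hy : w ((g⁻¹ : slGroup F (ι → F)).1 (ratVec F₀ a)) = (g⁻¹ : slGroup F (ι → F)).1 (ratVec F₀ a) := by
      apply g.1.injective
      rw [happ, slGroup.apply_inv_self, hza]
    change w ((g⁻¹ : slGroup F (ι → F)).1 (ratVec F₀ a)) i - (g⁻¹ : slGroup F (ι → F)).1 (ratVec F₀ a) i = 0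
    rw [hy, sub_self]
  have hneg1 : (-1 : Fˣ) = 1 := Units.ext (by
    rw [Units.val_neg, Units.val_one]
    linear_combination -h2)
  let i1 : slGroup F (ι → F) := ⟨pairInvol F e1, by
    rw [slGroup, MonoidHom.mem_ker, det_pairInvol, hneg1, one_pow]⟩
  let i2 : slGroup F (ι → F) := ⟨pairInvol F e2, by
    rw [slGroup, MonoidHom.mem_ker, det_pairInvol]; norm_num⟩
  exact ratScaled_of_involutions hr hr2 hcard hinv
    (i := pairInvol F e1) (j := pairInvol F e2)
    ⟨i1, hH _ (pairInvol_exact F₀ e1).scaled, rfl⟩ ⟨i2, hH _ (pairInvol_exact F₀ e2).scaled, rfl⟩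
    (pairInvol_exact F₀ e1) (pairInvol_exact F₀ e2) (pairInvol_sq e1) (pairInvol_sq e2) 1 2 (by norm_num)
    (by norm_num) (finrank_fix_pairInvol e1) (finrank_fix_pairInvol e2) (by norm_num) (by omega) (by omega)
    (by omega) (by omega) ⟨g, hg, rfl⟩

theorem isMaximalIn_subfield_sl_five [Fintype F] {n : ℕ} (hn : 4 ≤ n) {r : ℕ} (hr : r.Prime)
    (hcard : Fintype.card F = Nat.card F₀ ^ r) (P : Matrix.GeneralLinearGroup (Fin n) F) :
    Cfsg.Geo.IsMaximalIn (Cfsg.Geo.specialLinear (Fin n) F)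
      (Cfsg.Geo.subfieldSubgroup F₀ P ⊓ Cfsg.Geo.specialLinear (Fin n) F) := by
  haveI : Nonempty (Fin n) := ⟨⟨0, by omega⟩⟩
  let φ : slGroup F (Fin n → F) →* Matrix.GeneralLinearGroup (Fin n) F :=
    (MulAut.conj P).toMonoidHom.comp (slToGL (Fin n) F)
  haveI hnormal : (Cfsg.Geo.specialLinear (Fin n) F).Normal := MonoidHom.normal_ker _
  have hrange : φ.range = Cfsg.Geo.specialLinear (Fin n) F := by
    rw [MonoidHom.range_comp, range_slToGL]
    exact Subgroup.Normal.map_conj_eq _ P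
  refine isMaximalIn_of_isCoatom_comap φ hrange ?_
  refine isCoatom_subfield_sl_five hr (by rw [Nat.card_eq_fintype_card]; exact hcard) (by rw [Fintype.card_fin]; omega)
    (finPairs n 1 (by omega)) (finPairs n 2 (by omega)) fun g => ?_
  rw [Subgroup.mem_comap, ← linToGL_mem_sup_scalars_iff]
  exact Subgroup.mem_map_iff_mem (MulAut.conj P).injective

end Cfsg.Lib.Classical
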