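import Mathlib
import Cfsg.Agent.Classical.Subfield.SympElements
import Cfsg.Agent.Classical.Subfield.Involution

set_option autoImplicit false
set_option linter.unusedVariables false
set_option linter.unusedSimpArgs false
set_option linter.style.haveILetI false

/-! The subfield subgroup is maximal in the symplectic group. -/

namespace Cfsg.Lib.Classical

universe u

variable {F : Type u} [Field F] {m : ℕ} {F₀ : Subfield F}

local notation "ιm" => (Fin m ⊕ Fin m)

theorem sympBilin_ratVec (u v : ιm → F₀) :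
    sympBilin m F (ratVec F₀ u) (ratVec F₀ v) = ((sympBilin m F₀ u v : F₀) : F) := by
  simp [sympBilin_eq_sum, ratVec]

theorem sympBilin_ratVec_eq_zero {u v : ιm → F₀} (h : sympBilin m F₀ u v = 0) :
    sympBilin m F (ratVec F₀ u) (ratVec F₀ v) = 0 := by
  rw [sympBilin_ratVec, h]; rfl

variable {H : Subgroup (BilinIsom (sympBilin m F))}

/-- The rational symplectic group lifts. -/
theorem exists_lift_symp (hM : ∀ g : BilinIsom (sympBilin m F), RatScaled F₀ g.1.toLinearMap → g ∈ H)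
    (g₀ : BilinIsom (sympBilin m F₀)) :
    ∃ k : BilinIsom (sympBilin m F), k ∈ H ∧ ∀ u, k.1 (ratVec F₀ u) = ratVec F₀ (g₀.1 u) := by
  let G₀ : Subgroup (BilinIsom (sympBilin m F₀)) :=
    { carrier := {p | ∃ k, k ∈ H ∧ ∀ u, k.1 (ratVec F₀ u) = ratVec F₀ (p.1 u)}
      one_mem' := ⟨1, H.one_mem, fun u => rfl⟩
      mul_mem' := by
        rintro p p' ⟨k, hk, hp⟩ ⟨k', hk', hp'⟩
        exact ⟨k * k', H.mul_mem hk hk', fun u => by
          rw [BilinIsom.mul_apply', hp', hp, BilinIsom.mul_apply']⟩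
      inv_mem' := by
        rintro p ⟨k, hk, hp⟩
        refine ⟨k⁻¹, H.inv_mem hk, fun u => k.1.injective ?_⟩
        rw [BilinIsom.apply_inv_self, hp, BilinIsom.apply_inv_self] }
  have hG₀ : G₀ = ⊤ := by
    rw [eq_top_iff, ← transGroup_eq_top (sympBilin_isAlt m F₀) (sympBilin_nondegenerate m F₀), transGroup,
      transGroupOn, Subgroup.closure_le]
    rintro _ ⟨v, -, c, rfl⟩
    have e : ∀ u, (sympT (sympBilin_isAlt m F) (ratVec F₀ v) (c : F)).1 (ratVec F₀ u) =
        ratVec F₀ ((sympT (sympBilin_isAlt m F₀) v c).1 u) := fun u => by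
      rw [sympT_apply, sympT_apply, sympBilin_ratVec, ratVec_add, ratVec_smul]; rfl
    exact ⟨_, hM _ (RatExact.scaled fun u => ⟨_, e u⟩), e⟩
  exact (hG₀ ▸ Subgroup.mem_top g₀ : g₀ ∈ G₀)

theorem exists_point_lift (hM : ∀ g : BilinIsom (sympBilin m F), RatScaled F₀ g.1.toLinearMap → g ∈ H)
    {e e' : ιm → F₀} (he : e ≠ 0) (he' : e' ≠ 0) :
    ∃ k : BilinIsom (sympBilin m F), k ∈ H ∧ RatExact F₀ k.1.toLinearMap ∧ k.1 (ratVec F₀ e) = ratVec F₀ e' := by
  obtain ⟨g₀, hg₀⟩ := sympIsom_transitive (sympBilin_isAlt m F₀) (sympBilin_nondegenerate m F₀) he he'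
  obtain ⟨k, hk, hku⟩ := exists_lift_symp hM g₀
  exact ⟨k, hk, fun u => ⟨_, hku u⟩, by rw [hku, hg₀]⟩

theorem sympT_rat_mem (hM : ∀ g : BilinIsom (sympBilin m F), RatScaled F₀ g.1.toLinearMap → g ∈ H)
    {c : F} (hc : c ∈ F₀) (v : ιm → F₀) : sympT (sympBilin_isAlt m F) (ratVec F₀ v) c ∈ H :=
  hM _ (RatExact.scaled fun u => ⟨u + (⟨c, hc⟩ * sympBilin m F₀ u v) • v, by
    rw [LinearEquiv.coe_coe, sympT_apply, sympBilin_ratVec, ratVec_add, ratVec_smul]; rfl⟩)

theorem sympS_transfer (hM : ∀ g : BilinIsom (sympBilin m F), RatScaled F₀ g.1.toLinearMap → g ∈ H)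
    {u w w' : ιm → F₀} (hu : u ≠ 0) (hw : sympBilin m F₀ u w = 0) (hwu : w ∉ Submodule.span F₀ {u})
    (hw' : sympBilin m F₀ u w' = 0) (hwu' : w' ∉ Submodule.span F₀ {u}) (p t : F)
    (hmem : sympS (sympBilin_isAlt m F) (ratVec F₀ u) (ratVec F₀ w) p *
      sympT (sympBilin_isAlt m F) (ratVec F₀ u) t ∈ H) :
    sympS (sympBilin_isAlt m F) (ratVec F₀ u) (ratVec F₀ w') p *
      sympT (sympBilin_isAlt m F) (ratVec F₀ u) t ∈ H := by
  obtain ⟨g₀, h1, h2⟩ := exists_point_map_orth (sympBilin_isAlt m F₀) (sympBilin_nondegenerate m F₀) hu hw hw'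
    hwu hwu'
  obtain ⟨k, hk, hku⟩ := exists_lift_symp hM g₀
  have := H.mul_mem (H.mul_mem hk hmem) (H.inv_mem hk)
  rw [show k * (sympS (sympBilin_isAlt m F) (ratVec F₀ u) (ratVec F₀ w) p *
      sympT (sympBilin_isAlt m F) (ratVec F₀ u) t) * k⁻¹ =
      k * sympS (sympBilin_isAlt m F) (ratVec F₀ u) (ratVec F₀ w) p * k⁻¹ *
        (k * sympT (sympBilin_isAlt m F) (ratVec F₀ u) t * k⁻¹) by group,
    sympS_conj, sympT_conj, hku, hku, h1, h2] at this
  exact this

theorem sympX_split_mem (hm : 3 ≤ m) (hM : ∀ g : BilinIsom (sympBilin m F), RatScaled F₀ g.1.toLinearMap → g ∈ H)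
    {u w : ιm → F₀} (hu : u ≠ 0) (hw : sympBilin m F₀ u w = 0) (hwu : w ∉ Submodule.span F₀ {u}) (p t : F)
    (hmem : sympS (sympBilin_isAlt m F) (ratVec F₀ u) (ratVec F₀ w) p *
      sympT (sympBilin_isAlt m F) (ratVec F₀ u) t ∈ H) :
    sympT (sympBilin_isAlt m F) (ratVec F₀ u) t ∈ H ∧
      sympS (sympBilin_isAlt m F) (ratVec F₀ u) (ratVec F₀ w) p ∈ H := by
  obtain ⟨w', hw'o, hw'n⟩ := exists_orth_notMem (sympBilin_nondegenerate m F₀) (Submodule.span F₀ {u, w})
    (by
      have := finrank_span_pair_le (F := F₀) u w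
      rw [finrank_sympSpace]; omega)
  have h1 : sympBilin m F₀ u w' = 0 := hw'o u (Submodule.subset_span (by simp))
  have h2 : sympBilin m F₀ w w' = 0 := hw'o w (Submodule.subset_span (by simp))
  have hn : w' ∉ Submodule.span F₀ {u} := fun h => hw'n (Submodule.span_mono (by simp) h)
  have hn2 : w + w' ∉ Submodule.span F₀ {u} := fun h => hw'n (by
    have := Submodule.sub_mem _ (Submodule.span_mono (t := {u, w}) (by simp) h)
      (Submodule.subset_span (by simp) : w ∈ Submodule.span F₀ {u, w})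
    rwa [add_sub_cancel_left] at this)
  have m1 := sympS_transfer hM hu hw hwu h1 hn p t hmem
  have m2 := sympS_transfer hM hu hw hwu (by rw [map_add, hw, h1, add_zero]) hn2 p t hmem
  have key := H.mul_mem (H.mul_mem hmem m1) (H.inv_mem m2)
  rw [ratVec_add, sympX_split (sympBilin_isAlt m F) (sympBilin_ratVec_eq_zero hw) (sympBilin_ratVec_eq_zero h1)
    (sympBilin_ratVec_eq_zero h2)] at key
  exact ⟨key, (H.mul_mem_cancel_right key).mp hmem⟩

/-- From a short root element, one with a partner changed. -/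
theorem sympS_step (hM : ∀ g : BilinIsom (sympBilin m F), RatScaled F₀ g.1.toLinearMap → g ∈ H)
    {u w v : ιm → F₀} (hw : sympBilin m F₀ u w = 0) (hv : sympBilin m F₀ u v = 0) (hwv : sympBilin m F₀ w v = 1)
    {c d : F} (hc : sympT (sympBilin_isAlt m F) (ratVec F₀ v) c ∈ H)
    (hd : sympS (sympBilin_isAlt m F) (ratVec F₀ u) (ratVec F₀ w) d ∈ H) :
    sympS (sympBilin_isAlt m F) (ratVec F₀ u) (ratVec F₀ v) (c * d) *
      sympT (sympBilin_isAlt m F) (ratVec F₀ u) (c * d ^ 2) ∈ H := by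
  have hwv' : sympBilin m F (ratVec F₀ w) (ratVec F₀ v) = 1 := by rw [sympBilin_ratVec, hwv]; rfl
  have hvw' : sympBilin m F (ratVec F₀ v) (ratVec F₀ w) = -1 := by
    rw [← (sympBilin_isAlt m F).neg_eq, hwv']
  have := H.mul_mem (H.mul_mem hc hd) (H.inv_mem hc)
  rw [sympS_conj, sympT_apply, sympT_apply, hwv', sympBilin_ratVec_eq_zero hv, mul_one, mul_zero, zero_smul,
    add_zero, sympS_add_right (sympBilin_isAlt m F) (sympBilin_ratVec_eq_zero hw) (sympBilin_ratVec_eq_zero hv),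
    hvw', mul_assoc] at this
  have := (H.mul_mem_cancel_left hd).mp this
  convert this using 3
  ring

theorem top_of_nonrational_symp [Finite F] {r : ℕ} (hr : r.Prime) (hcard : Nat.card F = Nat.card F₀ ^ r)
    (hm : 3 ≤ m) (hM : ∀ g : BilinIsom (sympBilin m F), RatScaled F₀ g.1.toLinearMap → g ∈ H)
    {c : F} (hc : c ∉ F₀) {e : ιm → F₀} (he : e ≠ 0)
    (hmem : sympT (sympBilin_isAlt m F) (ratVec F₀ e) c ∈ H) : H = ⊤ := by
  have hA := sympBilin_isAlt m F
  have hA₀ := sympBilin_isAlt m F₀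
  have hB₀ := sympBilin_nondegenerate m F₀
  set L : Set F := {t | ∀ u, sympT hA (ratVec F₀ u) t ∈ H} with hLdef
  set Sg : Set F := {t | ∀ u w, sympBilin m F₀ u w = 0 → sympS hA (ratVec F₀ u) (ratVec F₀ w) t ∈ H} with hSdef
  have hcL : c ∈ L := fun u => by
    rcases eq_or_ne u 0 with rfl | hu
    · rw [ratVec_zero, sympT_zero_vec]; exact H.one_mem
    obtain ⟨k, hk, -, hke⟩ := exists_point_lift hM he hu
    have := H.mul_mem (H.mul_mem hk hmem) (H.inv_mem hk)
    rwa [sympT_conj, hke] at this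
  have hLS : ∀ t ∈ L, t ∈ Sg := fun t ht u w h => by
    rw [sympS]
    refine H.mul_mem (H.mul_mem ?_ ?_) ?_
    · rw [← ratVec_add]; exact ht _
    · rw [sympT_neg]; exact H.inv_mem (ht _)
    · rw [sympT_neg]; exact H.inv_mem (ht _)
  have hprod : ∀ t ∈ L, ∀ d ∈ Sg, t * d ∈ Sg ∧ t * d ^ 2 ∈ L := by
    intro t ht d hd
    have main : ∀ u v, u ≠ 0 → sympBilin m F₀ u v = 0 → v ∉ Submodule.span F₀ {u} →
        sympT hA (ratVec F₀ u) (t * d ^ 2) ∈ H ∧ sympS hA (ratVec F₀ u) (ratVec F₀ v) (t * d) ∈ H := by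
      intro u v hu huv hv
      obtain ⟨x, hx, hxv⟩ := exists_nonorth_of_notMem hA₀ hB₀ (Submodule.span F₀ {u}) hv
      have hux : sympBilin m F₀ u x = 0 := hx u (Submodule.mem_span_singleton_self u)
      have hxv' : sympBilin m F₀ x v ≠ 0 := fun h => hxv (hA₀.isRefl _ _ h)
      set w := (sympBilin m F₀ x v)⁻¹ • x
      have hw : sympBilin m F₀ u w = 0 := by rw [map_smul, hux, smul_zero]
      have hwv : sympBilin m F₀ w v = 1 := by
        rw [map_smul, LinearMap.smul_apply, smul_eq_mul, inv_mul_cancel₀ hxv']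
      exact sympX_split_mem hm hM hu huv hv _ _ (sympS_step hM hw huv hwv (ht v) (hd u w hw))
    have hL' : t * d ^ 2 ∈ L := fun u => by
      rcases eq_or_ne u 0 with rfl | hu
      · rw [ratVec_zero, sympT_zero_vec]; exact H.one_mem
      obtain ⟨v, hv, hvn⟩ := exists_orth_notMem hB₀ (Submodule.span F₀ {u})
        (by rw [finrank_span_singleton hu, finrank_sympSpace]; omega)
      exact (main u v hu (hv u (Submodule.mem_span_singleton_self u)) hvn).1
    refine ⟨fun u v huv => ?_, hL'⟩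
    rcases eq_or_ne u 0 with rfl | hu
    · have : sympS hA (ratVec F₀ (0 : ιm → F₀)) (ratVec F₀ v) (t * d) = 1 := BilinIsom.ext' fun x => by
        rw [sympS_apply hA (by simp [ratVec_zero]), ratVec_zero]; simp [BilinIsom.one_apply']
      rw [this]; exact H.one_mem
    by_cases hv : v ∈ Submodule.span F₀ {u}
    · obtain ⟨j, rfl⟩ := Submodule.mem_span_singleton.mp hv
      rw [ratVec_smul, sympS_self]
      have := hd u (j • u) (by rw [map_smul, hA₀ u, smul_zero])
      rw [ratVec_smul, sympS_self] at this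
      -- scale through an orthogonal sum
      obtain ⟨v', hv', hvn'⟩ := exists_orth_notMem hB₀ (Submodule.span F₀ {u})
        (by rw [finrank_span_singleton hu, finrank_sympSpace]; omega)
      have h0 : sympBilin m F₀ u v' = 0 := hv' u (Submodule.mem_span_singleton_self u)
      have hn2 : j • u + v' ∉ Submodule.span F₀ {u} := fun h =>
        hvn' ((Submodule.add_mem_iff_right _ (Submodule.smul_mem _ j (Submodule.mem_span_singleton_self u))).mp h)
      have h1 := (main u v' hu h0 hvn').2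
      have h2 := (main u (j • u + v') hu (by rw [map_add, map_smul, hA₀ u, h0, smul_zero, add_zero]) hn2).2
      have e : sympS hA (ratVec F₀ u) (ratVec F₀ (j • u + v')) (t * d) =
          sympS hA (ratVec F₀ u) (ratVec F₀ v') (t * d) * sympT hA (ratVec F₀ u) ((j : F) * (t * d) + (j : F) * (t * d)) := by
        rw [ratVec_add, ratVec_smul, add_comm, sympS_add_right hA (sympBilin_ratVec_eq_zero h0) (by simp [hA _]),
          ← one_smul F (ratVec F₀ u)]
        simp only [one_smul]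
        rw [show sympBilin m F (ratVec F₀ u) (ratVec F₀ v') = 0 from sympBilin_ratVec_eq_zero h0]
        rw [mul_zero, neg_zero, sympT_zero, mul_one]
        congr 1
        rw [← one_smul F (ratVec F₀ u)]
        rw [show sympS hA ((1 : F) • ratVec F₀ u) ((1 : F) • ratVec F₀ u) ((j : F) * (t * d)) =
          sympT hA ((1 : F) • ratVec F₀ u) (1 * ((j : F) * (t * d)) + 1 * ((j : F) * (t * d))) by
          rw [one_smul]; conv_lhs => arg 3; rw [← one_smul F (ratVec F₀ u)]
          rw [sympS_self]]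
        rw [one_mul]
      rw [e] at h2
      exact (H.mul_mem_cancel_left h1).mp h2
    · exact (main u v hu huv hv).2
  have hSadd : ∀ x ∈ Sg, ∀ y ∈ Sg, x + y ∈ Sg := fun x hx y hy u w h => by
    rw [sympS_add hA (sympBilin_ratVec_eq_zero h)]; exact H.mul_mem (hx u w h) (hy u w h)
  have hF0L : (F₀ : Set F) ⊆ L := fun t ht u => sympT_rat_mem hM ht u
  have hR : ∀ x, ∀ d ∈ Sg, x * d ∈ Sg :=
    eq_univ_of_mul_closed hr hcard (L := {x | ∀ d ∈ Sg, x * d ∈ Sg})
      (fun t ht d hd => (hprod t (hF0L ht) d hd).1)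
      (fun x hx y hy d hd => by rw [add_mul]; exact hSadd _ (hx d hd) _ (hy d hd))
      (fun x hx y hy d hd => by rw [mul_assoc]; exact hx _ (hy d hd)) (fun d hd => (hprod c hcL d hd).1) hc
  have hSall : ∀ x, x ∈ Sg := fun x => by simpa using hR x 1 (hLS 1 (hF0L F₀.one_mem))
  have hsq : ∀ x : F, x ^ 2 ∈ L := fun x => by simpa using (hprod 1 (hF0L F₀.one_mem) x (hSall x)).2
  have hLall : ∀ x, x ∈ L := by
    intro x
    by_cases h2 : (2 : F) = 0
    · haveI : CharP F 2 := (CharTwo.of_one_ne_zero_of_two_eq_zero one_ne_zero h2)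
      obtain ⟨y, hy⟩ := FiniteField.isSquare_of_char_two (ringChar.eq F 2) x
      rw [hy, ← sq]; exact hsq y
    · intro u
      rw [show x = ((x + 1) / 2) ^ 2 + -(((x - 1) / 2) ^ 2) by field_simp; ring, sympT_add, sympT_neg]
      exact H.mul_mem (hsq _ u) (H.inv_mem (hsq _ u))
  have hrat : ∀ u, ratVec F₀ u ∈ transCentres hA H := fun u x => hLall x u
  have hpair : ∀ (u w : ιm → F₀) (a b : F), sympBilin m F₀ u w = 0 →
      a • ratVec F₀ u + b • ratVec F₀ w ∈ transCentres hA H := fun u w a b h t => by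
    rw [sympT_add_vec hA (sympBilin_ratVec_eq_zero h)]
    exact H.mul_mem (H.mul_mem (hrat u _) (hrat w _)) (hSall _ u w h)
  have hplus : ∀ x ∈ transCentres hA H, ∀ u (a : F), x + a • ratVec F₀ u ∈ transCentres hA H := by
    intro x hx u a
    rcases eq_or_ne a 0 with rfl | ha
    · rwa [zero_smul, add_zero]
    by_cases hxu : sympBilin m F x (ratVec F₀ u) = 0
    swap
    · simpa using transCentres_span hx (hrat u) hxu 1 a
    rcases eq_or_ne u 0 with rfl | hu
    · rwa [ratVec_zero, smul_zero, add_zero]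
    by_cases hgood : ∃ w, sympBilin m F₀ u w ≠ 0 ∧ sympBilin m F x (ratVec F₀ w) ≠ 0 ∧
        sympBilin m F x (ratVec F₀ w) + a * sympBilin m F (ratVec F₀ u) (ratVec F₀ w) ≠ 0
    · obtain ⟨w, hw1, hw2, hw3⟩ := hgood
      have hw1' : sympBilin m F (ratVec F₀ u) (ratVec F₀ w) ≠ 0 := by
        rw [sympBilin_ratVec]; exact fun h => hw1 (Subtype.ext h)
      have s1 := transCentres_span hx (hrat w) hw2 1 1
      rw [one_smul, one_smul] at s1
      have s2 := transCentres_span s1 (hrat u) (by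
        rw [map_add, LinearMap.add_apply, hxu, zero_add]
        exact fun h => hw1' (hA.isRefl _ _ h)) 1 a
      rw [one_smul] at s2
      have s3 := transCentres_span s2 (hrat w) (by
        simp only [map_add, map_smul, LinearMap.add_apply, LinearMap.smul_apply, hA _, smul_eq_mul, add_zero]
        exact hw3) 1 (-1)
      convert s3 using 1
      module
    · -- then `x` is a multiple of a rational vector
      push Not at hgood
      have hu' : ∃ w₀, sympBilin m F₀ u w₀ = 1 := exists_hyperbolic_partner hB₀ hu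
      obtain ⟨w₀, hw₀⟩ := hu'
      have hval : ∀ w, ∃ j : F₀, sympBilin m F x (ratVec F₀ w) = a * j := by
        have hA1 : ∀ w, sympBilin m F₀ u w = 1 → sympBilin m F x (ratVec F₀ w) = 0 ∨
            sympBilin m F x (ratVec F₀ w) = -a := fun w hw => by
          by_cases h : sympBilin m F x (ratVec F₀ w) = 0
          · exact Or.inl h
          · have := hgood w (by rw [hw]; exact one_ne_zero) h
            rw [sympBilin_ratVec, hw, OneMemClass.coe_one, mul_one] at this
            exact Or.inr (eq_neg_of_add_eq_zero_left this)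
        intro w
        set k := w - sympBilin m F₀ u w • w₀
        have hk : sympBilin m F₀ u (w₀ + k) = 1 := by simp [k, hw₀]
        have hwk : w = sympBilin m F₀ u w • w₀ + ((w₀ + k) - w₀) := by simp [k]
        have he : sympBilin m F x (ratVec F₀ w) = (sympBilin m F₀ u w : F) * sympBilin m F x (ratVec F₀ w₀) +
            (sympBilin m F x (ratVec F₀ (w₀ + k)) - sympBilin m F x (ratVec F₀ w₀)) := by
          conv_lhs => rw [hwk]
          rw [ratVec_add, ratVec_smul, ratVec_sub, map_add, map_smul, map_sub, smul_eq_mul]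
        rcases hA1 w₀ hw₀ with h1 | h1 <;> rcases hA1 _ hk with h2 | h2 <;> rw [he, h1, h2]
        · exact ⟨0, by simp⟩
        · exact ⟨-1, by simp⟩
        · exact ⟨1 - sympBilin m F₀ u w, by push_cast; ring⟩
        · exact ⟨-sympBilin m F₀ u w, by push_cast; ring⟩
      choose j hj using hval
      let ψ : Module.Dual F₀ (ιm → F₀) :=
        { toFun := j
          map_add' := fun p q => Subtype.ext (mul_left_cancel₀ ha (by
            rw [← hj, ratVec_add, map_add, hj, hj, Subfield.coe_add, mul_add]))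
          map_smul' := fun b p => Subtype.ext (mul_left_cancel₀ ha (by
            rw [← hj, ratVec_smul, map_smul, hj, RingHom.id_apply, smul_eq_mul, smul_eq_mul, Subfield.coe_mul]
            ring)) }
      set x₀ := (LinearMap.BilinForm.toDual (sympBilin m F₀) hB₀).symm ψ
      have hx₀ : ∀ w, sympBilin m F₀ x₀ w = j w := fun w =>
        LinearMap.BilinForm.apply_toDual_symm_apply ψ w
      have hx : x = a • ratVec F₀ x₀ := by
        rw [← sub_eq_zero]
        refine (sympBilin_nondegenerate m F).1 _ fun z => ?_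
        refine LinearMap.congr_fun (ext_on_ratVec (F₀ := F₀) (f := sympBilin m F (x - a • ratVec F₀ x₀)) (g := 0)
          fun w => ?_) z
        rw [map_sub, map_smul, LinearMap.sub_apply, LinearMap.smul_apply, hj, sympBilin_ratVec, hx₀, smul_eq_mul,
          sub_self, LinearMap.zero_apply]
      rw [hx] at hxu ⊢
      rw [map_smul, LinearMap.smul_apply, sympBilin_ratVec, smul_eq_mul] at hxu
      exact hpair x₀ u a a (Subtype.ext ((mul_eq_zero.mp hxu).resolve_left ha))
  refine eq_top_of_transCentres (hA := hA) (sympBilin_nondegenerate m F) fun x => ?_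
  rw [← (Pi.basisFun F ιm).sum_repr x]
  induction (Finset.univ : Finset ιm) using Finset.induction with
  | empty => rw [Finset.sum_empty]; exact transCentres_zero hA H
  | insert k s hk ih =>
    rw [Finset.sum_insert hk, add_comm]
    have e : (Pi.basisFun F ιm k : ιm → F) = ratVec F₀ (Pi.single k 1) := by
      funext l
      simp only [Pi.basisFun_apply, ratVec, Pi.single_apply]
      split_ifs <;> simp
    rw [e]
    exact hplus _ ih _ _

theorem mem_of_sympS [Finite F] (hm : 3 ≤ m)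
    (hM : ∀ g : BilinIsom (sympBilin m F), RatScaled F₀ g.1.toLinearMap → g ∈ H)
    (hnon : ∀ (c : F) e, e ≠ 0 → sympT (sympBilin_isAlt m F) (ratVec F₀ e) c ∈ H → c ∈ F₀)
    {u w : ιm → F₀} (hu : u ≠ 0) (hw : sympBilin m F₀ u w = 0) (hwu : w ∉ Submodule.span F₀ {u}) {c : F}
    (hc : sympS (sympBilin_isAlt m F) (ratVec F₀ u) (ratVec F₀ w) c ∈ H) : c ∈ F₀ := by
  obtain ⟨x, hx, hxw⟩ := exists_nonorth_of_notMem (sympBilin_isAlt m F₀) (sympBilin_nondegenerate m F₀)
    (Submodule.span F₀ {u}) hwu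
  set v := (sympBilin m F₀ w x)⁻¹ • x
  have hv : sympBilin m F₀ u v = 0 := by rw [map_smul, hx u (Submodule.mem_span_singleton_self u), smul_zero]
  have hwv : sympBilin m F₀ w v = 1 := by rw [map_smul, smul_eq_mul, inv_mul_cancel₀ hxw]
  have hvu : v ∉ Submodule.span F₀ {u} := fun h => by
    obtain ⟨j, hj⟩ := Submodule.mem_span_singleton.mp h
    rw [← hj, map_smul, (sympBilin_isAlt m F₀).isRefl _ _ hw, smul_zero] at hwv
    exact zero_ne_one hwv
  have hstep := sympS_step hM hw hv hwv (sympT_rat_mem hM F₀.one_mem v) hc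
  rw [one_mul, one_mul] at hstep
  have hsq := hnon _ _ hu (sympX_split_mem hm hM hu hv hvu _ _ hstep).1
  by_cases h2 : (2 : F) = 0
  · haveI : CharP F₀ 2 := CharTwo.of_one_ne_zero_of_two_eq_zero one_ne_zero (Subtype.ext (by push_cast; exact h2))
    haveI : Finite F₀ := Finite.of_injective _ Subtype.val_injective
    obtain ⟨y, hy⟩ := FiniteField.isSquare_of_char_two (ringChar.eq F₀ 2) (⟨_, hsq⟩ : F₀)
    have hy' : c ^ 2 = (y : F) * y := congrArg Subtype.val hy
    have : (c - y) ^ 2 = 0 := by linear_combination hy' + ((y : F) * y - c * y) * h2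
    rw [sub_eq_zero.mp (pow_eq_zero_iff (n := 2) two_ne_zero |>.mp this)]
    exact y.2
  · have hS1 : sympS (sympBilin_isAlt m F) (ratVec F₀ u) (ratVec F₀ v) (1 : F) ∈ H := by
      rw [sympS, ← ratVec_add]
      exact H.mul_mem (H.mul_mem (sympT_rat_mem hM F₀.one_mem _) (sympT_rat_mem hM (F₀.neg_mem F₀.one_mem) _))
        (sympT_rat_mem hM (F₀.neg_mem F₀.one_mem) _)
    have hSm : sympS (sympBilin_isAlt m F) (ratVec F₀ u) (ratVec F₀ v) (-1 : F) ∈ H := by
      rw [sympS, ← ratVec_add, neg_neg]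
      exact H.mul_mem (H.mul_mem (sympT_rat_mem hM (F₀.neg_mem F₀.one_mem) _) (sympT_rat_mem hM F₀.one_mem _))
        (sympT_rat_mem hM F₀.one_mem _)
    have hneg : sympS (sympBilin_isAlt m F) (ratVec F₀ u) (ratVec F₀ w) (-c) ∈ H := by
      have h0 := sympBilin_ratVec_eq_zero (F := F) hw
      rw [show sympS (sympBilin_isAlt m F) (ratVec F₀ u) (ratVec F₀ w) (-c) =
          (sympS (sympBilin_isAlt m F) (ratVec F₀ u) (ratVec F₀ w) c)⁻¹ from eq_inv_of_mul_eq_one_left (by
            rw [← sympS_add _ h0, neg_add_cancel]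
            exact BilinIsom.ext' fun z => by rw [sympS_apply _ h0]; simp [BilinIsom.one_apply'])]
      exact H.inv_mem hc
    have := H.mul_mem (H.mul_mem (H.mul_mem hS1 hc) hSm) hneg
    rw [sympS_commutator _ (sympBilin_ratVec_eq_zero hw) (sympBilin_ratVec_eq_zero hv), sympBilin_ratVec, hwv] at this
    have := hnon _ _ hu this
    simp only [OneMemClass.coe_one, one_mul, mul_one] at this
    rw [show c = (c + c) * (2 : F)⁻¹ by field_simp; ring]
    exact F₀.mul_mem this (F₀.inv_mem (by rw [← one_add_one_eq_two]; exact F₀.add_mem F₀.one_mem F₀.one_mem))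

theorem image_orth_of_fix [Finite F] (hm : 3 ≤ m)
    (hM : ∀ g : BilinIsom (sympBilin m F), RatScaled F₀ g.1.toLinearMap → g ∈ H)
    (hnon : ∀ (c : F) e, e ≠ 0 → sympT (sympBilin_isAlt m F) (ratVec F₀ e) c ∈ H → c ∈ F₀)
    {g : BilinIsom (sympBilin m F)} (hg : g ∈ H) {e e' : ιm → F₀} (he : e ≠ 0) (he' : e' ≠ 0) {μ : F}
    (hge : g.1 (ratVec F₀ e) = μ • ratVec F₀ e') {v : ιm → F₀} (hev : sympBilin m F₀ e v = 0) :
    ∃ p, g.1 (ratVec F₀ v) = μ • ratVec F₀ p := by
  -- reduce to a fixed point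
  obtain ⟨k, hk, hke, hk'⟩ := exists_point_lift hM he' he
  obtain ⟨k', hk₂, hke₂, hk''⟩ := exists_point_lift hM he he'
  suffices H' : ∀ g : BilinIsom (sympBilin m F), g ∈ H → g.1 (ratVec F₀ e) = μ • ratVec F₀ e →
      ∃ p, g.1 (ratVec F₀ v) = μ • ratVec F₀ p by
    obtain ⟨p, hp⟩ := H' (k * g) (H.mul_mem hk hg) (by rw [BilinIsom.mul_apply', hge, map_smul, hk'])
    rw [BilinIsom.mul_apply'] at hp
    haveI : Finite F₀ := Finite.of_injective _ Subtype.val_injective
    have hksurj : ∀ p, ∃ p', k.1 (ratVec F₀ p') = ratVec F₀ p := by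
      choose f hf using hke
      have hinj : Function.Injective f := fun a b hab => ratVec_injective (k.1.injective (by
        have h1 := hf a; have h2 := hf b; simp only [LinearEquiv.coe_coe] at h1 h2; rw [h1, h2, hab]))
      exact fun p => by
        obtain ⟨p', rfl⟩ := Finite.surjective_of_injective hinj p
        exact ⟨p', hf p'⟩
    obtain ⟨p', hp'⟩ := hksurj p
    exact ⟨p', k.1.injective (by rw [hp, map_smul, hp'])⟩
  intro g hg hge
  have hA := sympBilin_isAlt m F
  have hA₀ := sympBilin_isAlt m F₀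
  have hB₀ := sympBilin_nondegenerate m F₀
  have hμ : μ ≠ 0 := fun h => ratVec_ne_zero he (g.1.map_eq_zero_iff.mp (by rw [hge, h, zero_smul]))
  have hμ2 : μ ^ 2 ∈ F₀ := by
    have := H.mul_mem (H.mul_mem hg (sympT_rat_mem hM F₀.one_mem e)) (H.inv_mem hg)
    rw [sympT_conj, hge, sympT_smul, mul_one] at this
    exact hnon _ e he this
  by_cases hve : v ∈ Submodule.span F₀ {e}
  · obtain ⟨j, rfl⟩ := Submodule.mem_span_singleton.mp hve
    exact ⟨j • e, by rw [ratVec_smul, map_smul, hge, smul_comm]⟩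
  set y := g.1 (ratVec F₀ v) with hy
  set z := μ • y with hz
  have hey : sympBilin m F (ratVec F₀ e) y = 0 := by
    have h0 := BilinIsom.map_form g (ratVec F₀ e) (ratVec F₀ v)
    rw [hge, map_smul, LinearMap.smul_apply, sympBilin_ratVec_eq_zero hev, smul_eq_mul, mul_eq_zero] at h0
    exact h0.resolve_left hμ
  have hez : sympBilin m F (ratVec F₀ e) z = 0 := by rw [hz, map_smul, hey, smul_zero]
  have hSz : sympS hA (ratVec F₀ e) z 1 ∈ H := by
    have h1 : sympS hA (ratVec F₀ e) (ratVec F₀ v) (1 : F) ∈ H := by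
      rw [sympS, ← ratVec_add]
      exact H.mul_mem (H.mul_mem (sympT_rat_mem hM F₀.one_mem _) (sympT_rat_mem hM (F₀.neg_mem F₀.one_mem) _))
        (sympT_rat_mem hM (F₀.neg_mem F₀.one_mem) _)
    have := H.mul_mem (H.mul_mem hg h1) (H.inv_mem hg)
    rw [sympS_conj, hge, sympS_smul_left hA hey, ← sympS_smul_right hA hey] at this
    exact this
  have hlam : ∀ u, sympBilin m F₀ e u = 0 → sympBilin m F z (ratVec F₀ u) ∈ F₀ := by
    intro u hu
    by_cases hue : u ∈ Submodule.span F₀ {e}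
    · obtain ⟨j, rfl⟩ := Submodule.mem_span_singleton.mp hue
      rw [ratVec_smul, map_smul, hA.isRefl _ _ hez, smul_zero]; exact F₀.zero_mem
    set l := sympBilin m F z (ratVec F₀ u)
    have hu' := sympBilin_ratVec_eq_zero (F := F) hu
    have hT := sympT_rat_mem hM F₀.one_mem u
    have := H.mul_mem (H.mul_mem hT hSz) (H.inv_mem hT)
    rw [sympS_conj, sympT_apply, sympT_apply, hu', one_mul, one_mul, zero_smul, add_zero,
      sympS_add_right hA hez hu', mul_assoc] at this
    have := (H.mul_mem_cancel_left hSz).mp this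
    rw [← hA.neg_eq z (ratVec F₀ u), mul_neg, neg_neg, mul_one] at this
    simp only [one_mul, one_pow, mul_one] at this
    exact mem_of_sympS hm hM hnon he hu hue (sympX_split_mem hm hM he hu hue _ _ this).2
  obtain ⟨w₀, hw₀⟩ := exists_hyperbolic_partner hB₀ he
  let ψ : Module.Dual F₀ (ιm → F₀) :=
    { toFun := fun u => ⟨_, hlam (u - sympBilin m F₀ e u • w₀) (by simp [hw₀])⟩
      map_add' := fun p q => Subtype.ext (by
        simp only [ratVec_sub, ratVec_smul, ratVec_add, map_add, map_sub, map_smul, Subfield.coe_add, smul_eq_mul]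
        ring)
      map_smul' := fun b p => Subtype.ext (by
        simp only [ratVec_sub, ratVec_smul, map_smul, map_sub, RingHom.id_apply, smul_eq_mul, Subfield.coe_mul]
        ring) }
  set r := (LinearMap.BilinForm.toDual (sympBilin m F₀) hB₀).symm ψ
  have hr : ∀ u, (sympBilin m F₀ r u : F) =
      sympBilin m F z (ratVec F₀ (u - sympBilin m F₀ e u • w₀)) := fun u =>
    congrArg Subtype.val (LinearMap.BilinForm.apply_toDual_symm_apply ψ u)
  set l := sympBilin m F z (ratVec F₀ w₀)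
  have hzr : z = ratVec F₀ r + l • ratVec F₀ e := by
    rw [← sub_eq_zero]
    refine (sympBilin_nondegenerate m F).1 _ fun x => ?_
    refine LinearMap.congr_fun (ext_on_ratVec (F₀ := F₀)
      (f := sympBilin m F (z - (ratVec F₀ r + l • ratVec F₀ e))) (g := 0) fun u => ?_) x
    simp only [map_sub, map_add, map_smul, LinearMap.sub_apply, LinearMap.add_apply, LinearMap.smul_apply,
      LinearMap.zero_apply, sympBilin_ratVec, hr, ratVec_sub, ratVec_smul, smul_eq_mul, l]
    ring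
  have her : sympBilin m F₀ r e = 0 := Subtype.ext (by
    rw [hr, hA₀ e, zero_smul, sub_zero, hA.isRefl _ _ hez]; rfl)
  have hre : r ∉ Submodule.span F₀ {e} := fun h => by
    obtain ⟨j, hj⟩ := Submodule.mem_span_singleton.mp h
    have hy' : g.1 (ratVec F₀ v) = g.1 (((μ⁻¹ * μ⁻¹) * ((j : F) + l)) • ratVec F₀ e) := by
      rw [map_smul, hge, smul_smul, ← hy,
        show μ⁻¹ * μ⁻¹ * ((j : F) + l) * μ = μ⁻¹ * ((j : F) + l) by field_simp, ← smul_smul, add_smul,
        ← ratVec_smul, hj, ← hzr, hz, smul_smul, inv_mul_cancel₀ hμ, one_smul]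
    have hy'' := g.1.injective hy'
    obtain ⟨i, hi⟩ := Function.ne_iff.mp he
    refine hve (Submodule.mem_span_singleton.mpr ⟨v i / e i, funext fun i' => Subtype.ext ?_⟩)
    have h1 := congrFun hy'' i
    have h2 := congrFun hy'' i'
    simp only [ratVec, Pi.smul_apply, smul_eq_mul] at h1 h2
    have hei : (e i : F) ≠ 0 := fun h0 => hi (Subtype.ext h0)
    simp only [Pi.smul_apply, smul_eq_mul]
    push_cast
    rw [h1, h2]
    field_simp
  have hl : l ∈ F₀ := by
    have h1 := H.mul_mem (H.mul_mem hg (sympT_rat_mem hM F₀.one_mem v)) (H.inv_mem hg)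
    rw [sympT_conj, ← hy, show y = μ⁻¹ • z by rw [hz, smul_smul, inv_mul_cancel₀ hμ, one_smul], sympT_smul,
      hzr, ← one_smul F (ratVec F₀ r), sympT_add_vec hA (sympBilin_ratVec_eq_zero her), mul_assoc] at h1
    have hμi : μ⁻¹ ^ 2 ∈ F₀ := by rw [inv_pow]; exact F₀.inv_mem hμ2
    have hTr : sympT hA (ratVec F₀ r) (1 ^ 2 * (μ⁻¹ ^ 2 * 1)) ∈ H := sympT_rat_mem hM (by simpa using hμi) r
    have h2 := (H.mul_mem_cancel_left hTr).mp h1
    rw [sympS_symm hA (sympBilin_ratVec_eq_zero her)] at h2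
    have h3 : sympS hA (ratVec F₀ e) (ratVec F₀ r) (1 * l * (μ⁻¹ ^ 2 * 1)) *
        sympT hA (ratVec F₀ e) (l ^ 2 * (μ⁻¹ ^ 2 * 1)) ∈ H := by
      have hcomm : Commute (sympS hA (ratVec F₀ e) (ratVec F₀ r) (1 * l * (μ⁻¹ ^ 2 * 1)))
          (sympT hA (ratVec F₀ e) (l ^ 2 * (μ⁻¹ ^ 2 * 1))) := by
        refine (Commute.mul_left (Commute.mul_left ?_ ?_) ?_) <;> refine sympT_commute hA ?_ _ _ <;>
          simp [hA _, hA.isRefl _ _ (sympBilin_ratVec_eq_zero (F := F) her), sympBilin_ratVec_eq_zero (F := F) her]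
      rw [hcomm.eq]; exact h2
    have h4 := mem_of_sympS hm hM hnon he (hA₀.isRefl _ _ her) hre
      (sympX_split_mem hm hM he (hA₀.isRefl _ _ her) hre _ _ h3).2
    have h5 := F₀.mul_mem h4 hμ2
    rwa [one_mul, mul_one, inv_pow, mul_assoc, inv_mul_cancel₀ (pow_ne_zero 2 hμ), mul_one] at h5
  refine ⟨(⟨_, F₀.inv_mem hμ2⟩ : F₀) • (r + (⟨l, hl⟩ : F₀) • e), ?_⟩
  rw [ratVec_smul, ratVec_add, ratVec_smul]
  change g.1 _ = μ • (μ ^ 2)⁻¹ • (ratVec F₀ r + l • ratVec F₀ e)
  rw [← hzr, hz, ← hy, smul_smul, smul_smul, show μ * (μ ^ 2)⁻¹ * μ = 1 by field_simp, one_smul]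

theorem ratScaled_of_point [Finite F] (hm : 3 ≤ m)
    (hM : ∀ g : BilinIsom (sympBilin m F), RatScaled F₀ g.1.toLinearMap → g ∈ H)
    (hnon : ∀ (c : F) e, e ≠ 0 → sympT (sympBilin_isAlt m F) (ratVec F₀ e) c ∈ H → c ∈ F₀)
    {g : BilinIsom (sympBilin m F)} (hg : g ∈ H) {e e' : ιm → F₀} (he : e ≠ 0) (he' : e' ≠ 0) {μ : F}
    (hge : g.1 (ratVec F₀ e) = μ • ratVec F₀ e') : RatScaled F₀ g.1.toLinearMap := by
  have hμ : μ ≠ 0 := fun h => ratVec_ne_zero he (g.1.map_eq_zero_iff.mp (by rw [hge, h, zero_smul]))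
  obtain ⟨v, hv, hve⟩ := exists_orth_notMem (sympBilin_nondegenerate m F₀) (Submodule.span F₀ {e})
    (by rw [finrank_span_singleton he, finrank_sympSpace]; omega)
  have hev : sympBilin m F₀ e v = 0 := hv e (Submodule.mem_span_singleton_self e)
  obtain ⟨x, hx, hxe⟩ := exists_nonorth_of_notMem (sympBilin_isAlt m F₀) (sympBilin_nondegenerate m F₀)
    (Submodule.span F₀ {v}) (x := e) (fun h => by
      obtain ⟨j, hj⟩ := Submodule.mem_span_singleton.mp h
      have hj0 : j ≠ 0 := fun h0 => he (by rw [← hj, h0, zero_smul])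
      exact hve (Submodule.mem_span_singleton.mpr ⟨j⁻¹, by rw [← hj, smul_smul, inv_mul_cancel₀ hj0, one_smul]⟩))
  obtain ⟨p, hp⟩ := image_orth_of_fix hm hM hnon hg he he' hge hev
  have hv0 : v ≠ 0 := fun h => hve (h ▸ Submodule.zero_mem _)
  have hp0 : p ≠ 0 := fun h => ratVec_ne_zero hv0 (g.1.map_eq_zero_iff.mp (by rw [hp, h, ratVec_zero, smul_zero]))
  refine ⟨μ, hμ, fun u => ?_⟩
  set j := sympBilin m F₀ e u / sympBilin m F₀ e x
  obtain ⟨p₁, hp₁⟩ := image_orth_of_fix hm hM hnon hg he he' hge (v := u - j • x)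
    (by rw [map_sub, map_smul, smul_eq_mul, div_mul_cancel₀ _ hxe, sub_self])
  obtain ⟨p₂, hp₂⟩ := image_orth_of_fix hm hM hnon hg hv0 hp0 hp (v := x)
    (hx v (Submodule.mem_span_singleton_self v))
  refine ⟨p₁ + j • p₂, ?_⟩
  rw [LinearEquiv.coe_coe, ratVec_add, ratVec_smul, smul_add, ← hp₁, smul_comm, ← hp₂, ← map_smul, ← map_add]
  congr 1
  rw [ratVec_sub, ratVec_smul, sub_add_cancel]

theorem ratScaled_of_orth_image [Finite F] (hm : 3 ≤ m)
    (hM : ∀ g : BilinIsom (sympBilin m F), RatScaled F₀ g.1.toLinearMap → g ∈ H)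
    (hnon : ∀ (c : F) e, e ≠ 0 → sympT (sympBilin_isAlt m F) (ratVec F₀ e) c ∈ H → c ∈ F₀)
    {g : BilinIsom (sympBilin m F)} (hg : g ∈ H) {v a : ιm → F₀} (hv : v ≠ 0) (ha : a ≠ 0)
    (h : sympBilin m F (g.1 (ratVec F₀ v)) (ratVec F₀ a) = 0) : RatScaled F₀ g.1.toLinearMap := by
  have hA := sympBilin_isAlt m F
  have hs := H.mul_mem (H.mul_mem hg (sympT_rat_mem hM F₀.one_mem v)) (H.inv_mem hg)
  rw [sympT_conj] at hs
  have hsa : (sympT hA (g.1 (ratVec F₀ v)) 1).1 (ratVec F₀ a) = (1 : F) • ratVec F₀ a := by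
    rw [sympT_apply, hA.isRefl _ _ h, mul_zero, zero_smul, add_zero, one_smul]
  have hse := (ratScaled_of_point hm hM hnon hs ha ha hsa).exact_of_fix ha (u₀ := a)
    (by rw [LinearEquiv.coe_coe, hsa, one_smul])
  obtain ⟨u, hu⟩ : ∃ u, sympBilin m F (ratVec F₀ u) (g.1 (ratVec F₀ v)) ≠ 0 := by
    by_contra hc
    push Not at hc
    refine g.1.map_eq_zero_iff.not.mpr (ratVec_ne_zero hv) ((sympBilin_nondegenerate m F).1 _ fun x => ?_)
    refine LinearMap.congr_fun (ext_on_ratVec (F₀ := F₀) (f := sympBilin m F (g.1 (ratVec F₀ v))) (g := 0)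
      fun u => ?_) x
    exact hA.isRefl _ _ (hc u)
  obtain ⟨w, hw⟩ := hse u
  rw [LinearEquiv.coe_coe, sympT_apply, one_mul] at hw
  set d := sympBilin m F (ratVec F₀ u) (g.1 (ratVec F₀ v))
  have hgv : g.1 (ratVec F₀ v) = d⁻¹ • ratVec F₀ (w - u) := by
    rw [ratVec_sub, ← hw, add_sub_cancel_left, smul_smul, inv_mul_cancel₀ hu, one_smul]
  refine ratScaled_of_point hm hM hnon hg hv (fun h0 => ?_) hgv
  rw [h0, ratVec_zero, smul_zero] at hgv
  exact ratVec_ne_zero hv (g.1.map_eq_zero_iff.mp hgv)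

theorem isCoatom_subfield_symp [Finite F] {r : ℕ} (hr : r.Prime) (hcard : Nat.card F = Nat.card F₀ ^ r)
    (hm : 5 ≤ m) (e1 : Fin 1 × Bool ↪ Fin m) (e2 : Fin 2 × Bool ↪ Fin m)
    {M : Subgroup (BilinIsom (sympBilin m F))}
    (hM : ∀ g : BilinIsom (sympBilin m F), g ∈ M ↔ RatScaled F₀ g.1.toLinearMap)
    (hne : ∃ t : F, t ∉ F₀) : IsCoatom M := by
  classical
  have hA := sympBilin_isAlt m F
  let i₀ : Fin m := e1 (0, true)
  let i₁ : Fin m := e1 (0, false)
  have h01 : i₀ ≠ i₁ := fun h => by simpa using e1.injective h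
  haveI : Nonempty ιm := ⟨Sum.inl i₀⟩
  have hs0 : (Pi.single (Sum.inl i₀) 1 : ιm → F₀) ≠ 0 := fun h => by simpa using congrFun h (Sum.inl i₀)
  refine ⟨fun htop => ?_, fun H hlt => ?_⟩
  · obtain ⟨t, ht⟩ := hne
    set v := (Pi.single (Sum.inl i₀) 1 : ιm → F₀)
    have hs := (hM _).mp (htop ▸ Subgroup.mem_top (sympT hA (ratVec F₀ v) t))
    obtain ⟨u, hu⟩ := exists_hyperbolic_partner (sympBilin_nondegenerate m F₀) hs0
    have hex := hs.exact_of_fix (u₀ := v) (r₀ := v) hs0 (by
      rw [LinearEquiv.coe_coe, sympT_apply, hA, mul_zero, zero_smul, add_zero])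
    obtain ⟨r', hr'⟩ := hex u
    rw [LinearEquiv.coe_coe, sympT_apply, sympBilin_ratVec, ← (sympBilin_isAlt m F₀).neg_eq, hu] at hr'
    have h := congrFun hr' (Sum.inl i₀)
    simp [ratVec, v] at h
    exact ht (by
      rw [show t = ((u (Sum.inl i₀) - r' (Sum.inl i₀) : F₀) : F) by push_cast; linear_combination -h]
      exact SetLike.coe_mem _)
  have hH : ∀ g : BilinIsom (sympBilin m F), RatScaled F₀ g.1.toLinearMap → g ∈ H :=
    fun g hg => hlt.le ((hM g).mpr hg)
  by_cases hnon : ∀ (c : F) e, e ≠ 0 → sympT hA (ratVec F₀ e) c ∈ H → c ∈ F₀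
  swap
  · push Not at hnon
    obtain ⟨c, e, he, hmem, hc⟩ := hnon
    exact top_of_nonrational_symp hr hcard (by omega) hH hc he hmem
  exfalso
  obtain ⟨g, hg, hgM⟩ := SetLike.exists_of_lt hlt
  apply hgM
  rw [hM]
  by_cases hr2 : r = 2
  · set v := (Pi.single (Sum.inl i₀) 1 : ιm → F₀)
    obtain ⟨a, ha, ha'⟩ := exists_ratVec_kernel (F₀ := F₀) (ι := ιm) hcard
      (by rw [Fintype.card_sum, Fintype.card_fin]; omega) (sympBilin m F (g.1 (ratVec F₀ v)))
    exact ratScaled_of_orth_image (by omega) hH hnon hg hs0 ha ha'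
  set K : Subgroup ((ιm → F) ≃ₗ[F] (ιm → F)) := H.map (BilinIsom (sympBilin m F)).subtype with hK
  have hinv : ∀ g ∈ K, ∀ z ∈ K, ∀ w ∈ K, RatExact F₀ z.toLinearMap → RatExact F₀ w.toLinearMap →
      z * z = 1 → w * w = 1 → z ≠ 1 → z ≠ LinearEquiv.neg F → g * w = z * g → RatScaled F₀ g.toLinearMap := by
    rintro _ ⟨g, hg, rfl⟩ _ ⟨z, hz, rfl⟩ _ ⟨w, hw, rfl⟩ hze hwe hzz hww hz1 hzN he
    have happ : ∀ x, g.1 (w.1 x) = z.1 (g.1 x) := fun x => LinearEquiv.congr_fun he x
    obtain ⟨a, ha, hza⟩ : ∃ a : ιm → F₀, a ≠ 0 ∧ z.1 (ratVec F₀ a) = ratVec F₀ a := by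
      by_contra hc
      push Not at hc
      apply hzN
      refine LinearEquiv.toLinearMap_injective (ext_on_ratVec (F₀ := F₀) fun u => ?_)
      obtain ⟨r', hr'⟩ := hze u
      simp only [LinearEquiv.coe_coe, Subgroup.coe_subtype] at hr' ⊢
      have h0 : r' + u = 0 := by
        by_contra hne
        refine hc _ hne ?_
        rw [ratVec_add, map_add, ← hr', show z.1 (z.1 (ratVec F₀ u)) = ratVec F₀ u from
          LinearEquiv.congr_fun hzz _, add_comm]
      rw [hr', eq_neg_of_add_eq_zero_left h0]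
      funext i
      simp [ratVec]
    obtain ⟨u, hu⟩ : ∃ u : ιm → F₀, w.1 (ratVec F₀ u) ≠ ratVec F₀ u := by
      by_contra hc
      push Not at hc
      apply hz1
      have hw1 : w.1 = 1 := LinearEquiv.toLinearMap_injective (ext_on_ratVec (F₀ := F₀) fun u => hc u)
      change g.1 * w.1 = z.1 * g.1 at he
      rw [hw1, mul_one] at he
      exact mul_eq_right.mp he.symm
    obtain ⟨r', hr'⟩ := hwe u
    rw [LinearEquiv.coe_coe, Subgroup.coe_subtype] at hr'
    have hv : r' - u ≠ 0 := fun h => hu (by rw [hr', sub_eq_zero.mp h])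
    refine ratScaled_of_orth_image (by omega) hH hnon hg hv ha ?_
    rw [ratVec_sub, ← hr', map_sub, happ, map_sub, LinearMap.sub_apply]
    nth_rewrite 1 [← hza]
    rw [BilinIsom.map_form, sub_self]
  -- involutions permuting coordinates on both halves alike
  let dbl : ∀ {k : ℕ}, (Fin k × Bool ↪ Fin m) → (Fin (k + k) × Bool ↪ ιm) := fun {k} e =>
    ((finSumFinEquiv.symm.prodCongr (Equiv.refl Bool)).trans (Equiv.sumProdDistrib _ _ _)).toEmbedding.trans
      (e.sumMap e)
  have hperm : ∀ {k : ℕ} (e : Fin k × Bool ↪ Fin m) (x : Fin m),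
      pairPerm (dbl e) (Sum.inl x) = Sum.inl (pairPerm e x) ∧ pairPerm (dbl e) (Sum.inr x) = Sum.inr (pairPerm e x) := by
    intro k e x
    by_cases hx : x ∈ Set.range e
    · obtain ⟨⟨s, b⟩, rfl⟩ := hx
      constructor
      · rw [show (Sum.inl (e (s, b)) : ιm) = dbl e (finSumFinEquiv (Sum.inl s), b) by simp [dbl, -finSumFinEquiv_apply_left],
          pairPerm_apply, pairPerm_apply]
        simp [dbl, -finSumFinEquiv_apply_left, -finSumFinEquiv_apply_right]
      · rw [show (Sum.inr (e (s, b)) : ιm) = dbl e (finSumFinEquiv (Sum.inr s), b) by simp [dbl, -finSumFinEquiv_apply_right],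
          pairPerm_apply, pairPerm_apply]
        simp [dbl, -finSumFinEquiv_apply_left, -finSumFinEquiv_apply_right]
    · have hd : ∀ y, dbl e y ≠ Sum.inl x ∧ dbl e y ≠ Sum.inr x := by
        rintro ⟨s, b⟩
        obtain ⟨s, rfl⟩ := finSumFinEquiv.surjective s
        rcases s with s | s
        · simp [dbl, -finSumFinEquiv_apply_left]; exact fun h => hx ⟨_, h⟩
        · simp [dbl, -finSumFinEquiv_apply_right]; exact fun h => hx ⟨_, h⟩
      rw [pairPerm_of_notMem e hx, pairPerm_of_notMem _ (fun ⟨y, hy⟩ => (hd y).1 hy),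
        pairPerm_of_notMem _ (fun ⟨y, hy⟩ => (hd y).2 hy)]
      exact ⟨rfl, rfl⟩
  have hiso : ∀ {k : ℕ} (e : Fin k × Bool ↪ Fin m), pairInvol F (dbl e) ∈ BilinIsom (sympBilin m F) := by
    intro k e x y
    rw [sympBilin_eq_sum, sympBilin_eq_sum]
    simp only [pairInvol_apply, (hperm e _).1, (hperm e _).2]
    exact Equiv.sum_comp (pairPerm e) fun i => x (Sum.inr i) * y (Sum.inl i) - x (Sum.inl i) * y (Sum.inr i)
  have hcard' : Fintype.card ιm = m + m := by simp
  exact ratScaled_of_involutions hr hr2 hcard hinv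
    (i := pairInvol F (dbl e1)) (j := pairInvol F (dbl e2))
    ⟨⟨_, hiso e1⟩, hH _ (pairInvol_exact F₀ _).scaled, rfl⟩ ⟨⟨_, hiso e2⟩, hH _ (pairInvol_exact F₀ _).scaled, rfl⟩
    (pairInvol_exact F₀ _) (pairInvol_exact F₀ _) (pairInvol_sq _) (pairInvol_sq _) (1 + 1) (2 + 2) (by norm_num)
    (by norm_num) (finrank_fix_pairInvol _) (finrank_fix_pairInvol _) (by norm_num) (by omega) (by omega)
    (by omega) (by omega) ⟨g, hg, rfl⟩

end Cfsg.Lib.Classical
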