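import Mathlib
import Cfsg.Prelude.Def_GeometricClasses
import Cfsg.Agent.Classical.MaxBridge
import Cfsg.Agent.Classical.Symp.Standard
import Cfsg.Agent.Classical.Subfield.Symp
import Cfsg.Agent.Classical.Subfield.LinearMain

set_option autoImplicit false
set_option linter.unusedVariables false
set_option linter.unusedSimpArgs false
set_option linter.style.haveILetI false

/-! Maximality of the subfield subgroup of `Sp`. -/

namespace Cfsg.Lib.Classical

universe u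

open Matrix

variable {F : Type u} [Field F] [Fintype F] {F₀ : Subfield F}

theorem isMaximalIn_subfield_sp_of {m : ℕ} (hm : 1 ≤ m) {r : ℕ} (hr : r.Prime)
    (hcore : ∀ {M : Subgroup (BilinIsom (sympBilin m F))},
      (∀ g : BilinIsom (sympBilin m F), g ∈ M ↔ RatScaled F₀ g.1.toLinearMap) → IsCoatom M)
    (hcard : Fintype.card F = Nat.card F₀ ^ r) (P : Matrix.GeneralLinearGroup (Fin m ⊕ Fin m) F) (ζ : F)
    (hζ : ζ ≠ 0) (hP : Cfsg.Geo.IsFormRationalStructure (Cfsg.sympForm m F) F₀ ζ P) :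
    Cfsg.Geo.IsMaximalIn (Cfsg.spGL m F) (Cfsg.Geo.subfieldSubgroup F₀ P ⊓ Cfsg.spGL m F) := by
  classical
  haveI : Nonempty (Fin m ⊕ Fin m) := ⟨Sum.inl ⟨0, by omega⟩⟩
  have hA := sympBilin_isAlt m F
  have hB := sympBilin_nondegenerate m F
  have hmem : ∀ u v : Fin m ⊕ Fin m → F₀,
      ζ * sympBilin m F (P.val *ᵥ ratVec F₀ u) (P.val *ᵥ ratVec F₀ v) ∈ F₀ := fun u v => by
    rw [sympBilin_eq_sympForm]; exact hP _ _ (fun i => (u i).2) (fun i => (v i).2)
  let Pl : (Fin m ⊕ Fin m → F) →ₗ[F] (Fin m ⊕ Fin m → F) := Matrix.toLin' P.val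
  let B₁ : LinearMap.BilinForm F₀ (Fin m ⊕ Fin m → F₀) := LinearMap.mk₂ F₀ (fun u v => ⟨_, hmem u v⟩)
    (fun u u' v => Subtype.ext (by
      change ζ * sympBilin m F (Pl (ratVec F₀ (u + u'))) (Pl (ratVec F₀ v)) =
        ζ * sympBilin m F (Pl (ratVec F₀ u)) (Pl (ratVec F₀ v)) + ζ * sympBilin m F (Pl (ratVec F₀ u')) (Pl (ratVec F₀ v))
      rw [ratVec_add, map_add, map_add, LinearMap.add_apply, mul_add]))
    (fun a u v => Subtype.ext (by
      change ζ * sympBilin m F (Pl (ratVec F₀ (a • u))) (Pl (ratVec F₀ v)) =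
        (a : F) * (ζ * sympBilin m F (Pl (ratVec F₀ u)) (Pl (ratVec F₀ v)))
      rw [ratVec_smul, map_smul, map_smul, LinearMap.smul_apply, smul_eq_mul]; ring))
    (fun u v v' => Subtype.ext (by
      change ζ * sympBilin m F (Pl (ratVec F₀ u)) (Pl (ratVec F₀ (v + v'))) =
        ζ * sympBilin m F (Pl (ratVec F₀ u)) (Pl (ratVec F₀ v)) + ζ * sympBilin m F (Pl (ratVec F₀ u)) (Pl (ratVec F₀ v'))
      rw [ratVec_add, map_add, map_add, mul_add]))
    (fun a u v => Subtype.ext (by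
      change ζ * sympBilin m F (Pl (ratVec F₀ u)) (Pl (ratVec F₀ (a • v))) =
        (a : F) * (ζ * sympBilin m F (Pl (ratVec F₀ u)) (Pl (ratVec F₀ v)))
      rw [ratVec_smul, map_smul, map_smul, smul_eq_mul]; ring))
  have hB₁A : B₁.IsAlt := fun u => Subtype.ext (by
    change ζ * sympBilin m F (Pl (ratVec F₀ u)) (Pl (ratVec F₀ u)) = 0
    rw [hA, mul_zero])
  have hinv : ∀ x, (P⁻¹ : Matrix.GeneralLinearGroup (Fin m ⊕ Fin m) F).val *ᵥ (P.val *ᵥ x) = x := fun x => by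
    rw [Matrix.mulVec_mulVec, ← Units.val_mul, inv_mul_cancel, Units.val_one, Matrix.one_mulVec]
  have hinv' : ∀ x, P.val *ᵥ ((P⁻¹ : Matrix.GeneralLinearGroup (Fin m ⊕ Fin m) F).val *ᵥ x) = x := fun x => by
    rw [Matrix.mulVec_mulVec, ← Units.val_mul, mul_inv_cancel, Units.val_one, Matrix.one_mulVec]
  have hB₁ : B₁.Nondegenerate := by
    refine (LinearMap.IsRefl.nondegenerate_iff_separatingLeft hB₁A.isRefl).mpr fun u hu => ?_
    have hz : Pl (ratVec F₀ u) = 0 := by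
      refine hB.1 _ fun x => ?_
      rw [← hinv' x]
      refine LinearMap.congr_fun (ext_on_ratVec (F₀ := F₀) (f := sympBilin m F (Pl (ratVec F₀ u)) ∘ₗ Pl) (g := 0)
        fun v => ?_) _
      exact (mul_eq_zero.mp (congrArg Subtype.val (hu v))).resolve_left hζ
    refine ratVec_injective ?_
    rw [← hinv (ratVec F₀ u)]
    change (P⁻¹ : Matrix.GeneralLinearGroup (Fin m ⊕ Fin m) F).val *ᵥ Pl (ratVec F₀ u) = _
    rw [hz, Matrix.mulVec_zero]; rfl
  obtain ⟨e, he⟩ := exists_isometry_sympBilin hB₁A hB₁ (m := m) (finrank_sympSpace m F₀)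
  let Q : Matrix.GeneralLinearGroup (Fin m ⊕ Fin m) F :=
    Matrix.GeneralLinearGroup.map (F₀.subtype : F₀ →+* F) (linToGL (Fin m ⊕ Fin m) F₀ e.symm)
  have hQ : ∀ u, Q.val *ᵥ ratVec F₀ u = ratVec F₀ (e.symm u) := fun u => by
    rw [← linToGL_mulVec e.symm u]
    funext i
    change ∑ j, ((linToGL _ F₀ e.symm).val i j : F) * (u j : F) =
      ((∑ j, (linToGL _ F₀ e.symm).val i j * u j : F₀) : F)
    rw [AddSubmonoidClass.coe_finsetSum]
    rfl
  obtain ⟨T, hT⟩ : ∃ T, T = P * Q := ⟨_, rfl⟩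
  have hTform : ∀ x y, ζ * sympBilin m F (T.val *ᵥ x) (T.val *ᵥ y) = sympBilin m F x y := by
    let Tl : (Fin m ⊕ Fin m → F) →ₗ[F] (Fin m ⊕ Fin m → F) := Matrix.toLin' T.val
    have key : ∀ u y, ζ * sympBilin m F (Tl (ratVec F₀ u)) (Tl y) = sympBilin m F (ratVec F₀ u) y := fun u => by
      refine LinearMap.congr_fun (ext_on_ratVec (F₀ := F₀) (f := ζ • (sympBilin m F (Tl (ratVec F₀ u)) ∘ₗ Tl))
        (g := sympBilin m F (ratVec F₀ u)) fun v => ?_)
      rw [sympBilin_ratVec, LinearMap.smul_apply, LinearMap.comp_apply, smul_eq_mul]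
      change ζ * sympBilin m F (T.val *ᵥ ratVec F₀ u) (T.val *ᵥ ratVec F₀ v) = _
      rw [hT, Units.val_mul, ← Matrix.mulVec_mulVec, ← Matrix.mulVec_mulVec, hQ, hQ]
      change ((B₁ (e.symm u) (e.symm v) : F₀) : F) = _
      rw [← he, e.apply_symm_apply, e.apply_symm_apply]
    intro x y
    refine LinearMap.congr_fun (ext_on_ratVec (F₀ := F₀) (f := ζ • ((sympBilin m F).flip (Tl y) ∘ₗ Tl))
      (g := (sympBilin m F).flip y) fun u => ?_) x
    simpa using key u y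
  let φ : BilinIsom (sympBilin m F) →* Matrix.GeneralLinearGroup (Fin m ⊕ Fin m) F :=
    (MulAut.conj T).toMonoidHom.comp (sympToGL m F)
  have hTinv : ∀ x, T.val *ᵥ ((T⁻¹ : Matrix.GeneralLinearGroup (Fin m ⊕ Fin m) F).val *ᵥ x) = x := fun x => by
    rw [Matrix.mulVec_mulVec, ← Units.val_mul, mul_inv_cancel, Units.val_one, Matrix.one_mulVec]
  have hrange : φ.range = Cfsg.spGL m F := by
    rw [MonoidHom.range_comp, range_sympToGL]
    ext A
    constructor
    · rintro ⟨g, hg, rfl⟩ x y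
      change Cfsg.sympForm m F ((T * g * T⁻¹).val *ᵥ x) ((T * g * T⁻¹).val *ᵥ y) = Cfsg.sympForm m F x y
      apply mul_left_cancel₀ hζ
      rw [← sympBilin_eq_sympForm, ← sympBilin_eq_sympForm, Units.val_mul, Units.val_mul,
        ← Matrix.mulVec_mulVec, ← Matrix.mulVec_mulVec, ← Matrix.mulVec_mulVec, ← Matrix.mulVec_mulVec, hTform]
      have h1 : sympBilin m F (g.val *ᵥ ((T⁻¹ : Matrix.GeneralLinearGroup _ F).val *ᵥ x))
          (g.val *ᵥ ((T⁻¹ : Matrix.GeneralLinearGroup _ F).val *ᵥ y)) =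
          sympBilin m F ((T⁻¹ : Matrix.GeneralLinearGroup _ F).val *ᵥ x)
            ((T⁻¹ : Matrix.GeneralLinearGroup _ F).val *ᵥ y) := by
        rw [sympBilin_eq_sympForm, sympBilin_eq_sympForm]; exact hg _ _
      rw [h1, ← hTform, hTinv, hTinv]
    · intro hA'
      refine ⟨T⁻¹ * A * T, fun x y => ?_, by simp [mul_assoc]⟩
      change Cfsg.sympForm m F ((T⁻¹ * A * T).val *ᵥ x) ((T⁻¹ * A * T).val *ᵥ y) = Cfsg.sympForm m F x y
      rw [← sympBilin_eq_sympForm, ← sympBilin_eq_sympForm, ← hTform, ← hTform x y]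
      congr 1
      have h := hA' (T.val *ᵥ x) (T.val *ᵥ y)
      rw [Units.val_mul, Units.val_mul, ← Matrix.mulVec_mulVec, ← Matrix.mulVec_mulVec, ← Matrix.mulVec_mulVec,
        ← Matrix.mulVec_mulVec, hTinv, hTinv, sympBilin_eq_sympForm, sympBilin_eq_sympForm]
      exact h
  refine isMaximalIn_of_isCoatom_comap φ hrange ?_
  have hncard : Nat.card F = Nat.card F₀ ^ r := by rw [Nat.card_eq_fintype_card]; exact hcard
  refine hcore (fun g => ?_)
  rw [Subgroup.mem_comap, ← linToGL_mem_sup_scalars_iff]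
  have hQmem : Q ∈ (Matrix.GeneralLinearGroup.map (n := Fin m ⊕ Fin m) (F₀.subtype : F₀ →+* F)).range ⊔
      Cfsg.Geo.scalars (Fin m ⊕ Fin m) F := Subgroup.mem_sup_left ⟨_, rfl⟩
  have e1 : φ g = MulAut.conj P (Q * sympToGL m F g * Q⁻¹) := by
    change T * sympToGL m F g * T⁻¹ = P * (Q * sympToGL m F g * Q⁻¹) * P⁻¹
    rw [hT]; group
  rw [e1]
  refine (Subgroup.mem_map_iff_mem (MulAut.conj P).injective).trans ?_
  rw [Subgroup.mul_mem_cancel_right _ (Subgroup.inv_mem _ hQmem), Subgroup.mul_mem_cancel_left _ hQmem]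
  rfl

theorem isMaximalIn_subfield_sp {m : ℕ} (hm : 5 ≤ m) {r : ℕ} (hr : r.Prime)
    (hcard : Fintype.card F = Nat.card F₀ ^ r) (P : Matrix.GeneralLinearGroup (Fin m ⊕ Fin m) F) (ζ : F)
    (hζ : ζ ≠ 0) (hP : Cfsg.Geo.IsFormRationalStructure (Cfsg.sympForm m F) F₀ ζ P) :
    Cfsg.Geo.IsMaximalIn (Cfsg.spGL m F) (Cfsg.Geo.subfieldSubgroup F₀ P ⊓ Cfsg.spGL m F) :=
  isMaximalIn_subfield_sp_of (by omega) hr
    (fun hg => by
      have hncard : Nat.card F = Nat.card F₀ ^ r := by rw [Nat.card_eq_fintype_card]; exact hcard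
      exact isCoatom_subfield_symp hr hncard hm (finPairs m 1 (by omega)) (finPairs m 2 (by omega))
        hg (exists_notMem_subfield hr hncard)) hcard P ζ hζ hP

end Cfsg.Lib.Classical
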