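import Cfsg.Agent.Classical.Subfield.SympSmall
import Cfsg.Agent.Classical.Subfield.SympMain
import Cfsg.Agent.Classical.Symp.SpFourSubfield

set_option autoImplicit false
set_option linter.unusedVariables false
set_option linter.unusedSimpArgs false
set_option linter.unusedSectionVars false
set_option linter.style.haveILetI false

/-! The subfield subgroup is maximal in `Sp_4(q)` for odd `q`. -/

namespace Cfsg.Lib.Classical.SympFour

open Cfsg.Lib.Classical

universe u

open Matrix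

variable {F : Type u} [Field F] {F₀ : Subfield F} {H : Subgroup (BilinIsom (sympBilin 2 F))}

local notation "ι4" => (Fin 2 ⊕ Fin 2)

theorem sympS_rat_mem (hM : ∀ g : BilinIsom (sympBilin 2 F), RatScaled F₀ g.1.toLinearMap → g ∈ H)
    {c : F} (hc : c ∈ F₀) (u w : ι4 → F₀) : sympS (sympBilin_isAlt 2 F) (ratVec F₀ u) (ratVec F₀ w) c ∈ H := by
  rw [sympS, ← ratVec_add]
  exact H.mul_mem (H.mul_mem (sympT_rat_mem hM hc _) (sympT_rat_mem hM (F₀.neg_mem hc) _))
    (sympT_rat_mem hM (F₀.neg_mem hc) _)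

/-- A rational vector orthogonal to `a` with prescribed products against a second one. -/
theorem exists_dual {a b : ι4 → F₀} (hb : b ∉ Submodule.span F₀ {a}) :
    ∃ w, sympBilin 2 F₀ a w = 0 ∧ sympBilin 2 F₀ b w = 1 := by
  obtain ⟨x, hx, hxb⟩ := exists_nonorth_of_notMem (sympBilin_isAlt 2 F₀) (sympBilin_nondegenerate 2 F₀)
    (Submodule.span F₀ {a}) hb
  exact ⟨(sympBilin 2 F₀ b x)⁻¹ • x, by rw [map_smul, hx a (Submodule.mem_span_singleton_self a), smul_zero],
    by rw [map_smul, smul_eq_mul, inv_mul_cancel₀ hxb]⟩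

theorem notMem_span_symm {a b : ι4 → F₀} (ha : a ≠ 0) (hb : b ∉ Submodule.span F₀ {a}) :
    a ∉ Submodule.span F₀ {b} := fun h => by
  obtain ⟨j, hj⟩ := Submodule.mem_span_singleton.mp h
  exact hb (Submodule.mem_span_singleton.mpr ⟨j⁻¹, by
    rw [← hj, smul_smul, inv_mul_cancel₀ (fun h0 => ha (by rw [← hj, h0, zero_smul])), one_smul]⟩)

/-- Two independent orthogonal vectors span their orthogonal. -/
theorem mem_pair_of_orth {a b u : ι4 → F₀} (ha : a ≠ 0) (hb : b ∉ Submodule.span F₀ {a})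
    (hab : sympBilin 2 F₀ a b = 0) (hua : sympBilin 2 F₀ a u = 0) (hub : sympBilin 2 F₀ b u = 0) :
    ∃ i j : F₀, u = i • a + j • b := by
  have hA₀ := sympBilin_isAlt 2 F₀
  have hB₀ := sympBilin_nondegenerate 2 F₀
  set X := Submodule.span F₀ (Set.range ![a, b]) with hX
  have hli : LinearIndependent F₀ ![a, b] := (LinearIndependent.pair_iff' ha).mpr fun c hc =>
    hb (Submodule.mem_span_singleton.mpr ⟨c, hc⟩)
  have hd : Module.finrank F₀ X = 2 := by rw [hX, finrank_span_eq_card hli]; simp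
  have hle : X ≤ (sympBilin 2 F₀).orthogonal X := by
    rw [hX, Submodule.span_le]
    rintro x hx y hy
    induction hy using Submodule.span_induction with
    | mem y hy =>
      obtain ⟨i, rfl⟩ := hx
      obtain ⟨j, rfl⟩ := hy
      fin_cases i <;> fin_cases j <;> simp [hA₀ a, hA₀ b, hab, hA₀.isRefl _ _ hab]
    | zero => simp
    | add y z _ _ hy hz => simp [hy, hz]
    | smul c y _ hy => simp [hy]
  have heq : X = (sympBilin 2 F₀).orthogonal X := Submodule.eq_of_le_of_finrank_eq hle (by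
    rw [LinearMap.BilinForm.finrank_orthogonal hB₀, hd, finrank_sympSpace])
  have hu : u ∈ X := by
    rw [heq]
    intro y hy
    induction hy using Submodule.span_induction with
    | mem y hy =>
      obtain ⟨j, rfl⟩ := hy
      fin_cases j
      · simpa using hua
      · simpa using hub
    | zero => simp
    | add y z _ _ hy hz => simp [hy, hz]
    | smul c y _ hy => simp [hy]
  rw [hX, Matrix.range_cons_cons_empty, Submodule.mem_span_pair] at hu
  obtain ⟨i, j, h⟩ := hu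
  exact ⟨i, j, h.symm⟩

theorem top_of_nonrational [Finite F] {r : ℕ} (hr : r.Prime) (hcard : Nat.card F = Nat.card F₀ ^ r)
    (h2 : (2 : F) ≠ 0) (hM : ∀ g : BilinIsom (sympBilin 2 F), RatScaled F₀ g.1.toLinearMap → g ∈ H)
    {c : F} (hc : c ∉ F₀) {e : ι4 → F₀} (he : e ≠ 0)
    (hmem : sympT (sympBilin_isAlt 2 F) (ratVec F₀ e) c ∈ H) : H = ⊤ := by
  classical
  have hA := sympBilin_isAlt 2 F
  have hA₀ := sympBilin_isAlt 2 F₀
  have hB₀ := sympBilin_nondegenerate 2 F₀
  set L : Set F := {t | ∀ u, sympT hA (ratVec F₀ u) t ∈ H} with hLdef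
  set Sg : Set F := {t | ∀ u w, sympBilin 2 F₀ u w = 0 → sympS hA (ratVec F₀ u) (ratVec F₀ w) t ∈ H} with hSdef
  have hcL : c ∈ L := fun u => by
    rcases eq_or_ne u 0 with rfl | hu
    · rw [ratVec_zero, sympT_zero_vec]; exact H.one_mem
    obtain ⟨k, hk, -, hke⟩ := exists_point_lift hM he hu
    have := H.mul_mem (H.mul_mem hk hmem) (H.inv_mem hk)
    rwa [sympT_conj, hke] at this
  have hLS : ∀ t ∈ L, t ∈ Sg := fun t ht u w h => by
    rw [sympS]
    refine H.mul_mem (H.mul_mem ?_ ?_) ?_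
    · rw [← ratVec_add]; exact ht _
    · rw [sympT_neg]; exact H.inv_mem (ht _)
    · rw [sympT_neg]; exact H.inv_mem (ht _)
  have hSadd : ∀ x ∈ Sg, ∀ y ∈ Sg, x + y ∈ Sg := fun x hx y hy u w h => by
    rw [sympS_add hA (sympBilin_ratVec_eq_zero h)]; exact H.mul_mem (hx u w h) (hy u w h)
  have hscale : ∀ a ∈ F₀, ∀ x ∈ Sg, a * x ∈ Sg := fun a ha x hx u w h => by
    rw [← sympS_smul_right hA (sympBilin_ratVec_eq_zero h)]
    exact hx u ((⟨a, ha⟩ : F₀) • w) (by rw [map_smul, h, smul_zero])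
  have hprod : ∀ a ∈ Sg, ∀ b ∈ Sg, a * b + a * b ∈ L := by
    intro a ha b hb u
    rcases eq_or_ne u 0 with rfl | hu
    · rw [ratVec_zero, sympT_zero_vec]; exact H.one_mem
    obtain ⟨w, v, hw, hv, hwv⟩ := SpFour.exists_pair hu
    have hn : ∀ x ∈ Sg, -x ∈ Sg := fun x hx => by simpa using hscale _ (F₀.neg_mem F₀.one_mem) x hx
    have := H.mul_mem (H.mul_mem (H.mul_mem (ha u v hv) (hb u w hw)) (hn a ha u v hv)) (hn b hb u w hw)
    rw [sympS_commutator hA (sympBilin_ratVec_eq_zero hw) (sympBilin_ratVec_eq_zero hv), sympBilin_ratVec,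
      hwv] at this
    simpa using this
  have hF0S : (F₀ : Set F) ⊆ Sg := fun t ht u w h => sympS_rat_mem hM ht u w
  have hhalf : (2 : F)⁻¹ ∈ F₀ := F₀.inv_mem (by rw [← one_add_one_eq_two]; exact F₀.add_mem F₀.one_mem F₀.one_mem)
  have hSall : ∀ x, x ∈ Sg := eq_univ_of_mul_closed hr hcard hF0S hSadd
    (fun a ha b hb => by
      have := hscale _ hhalf _ (hLS _ (hprod a ha b hb))
      rwa [show (2 : F)⁻¹ * (a * b + a * b) = a * b by field_simp; ring] at this) (hLS c hcL) hc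
  have hLall : ∀ x, x ∈ L := fun x => by
    have := hprod (x / 2) (hSall _) 1 (hSall _)
    rwa [mul_one, show x / 2 + x / 2 = x by field_simp; ring] at this
  have hrat : ∀ u, ratVec F₀ u ∈ transCentres hA H := fun u x => hLall x u
  have hpair : ∀ (u w : ι4 → F₀) (a b : F), sympBilin 2 F₀ u w = 0 →
      a • ratVec F₀ u + b • ratVec F₀ w ∈ transCentres hA H := fun u w a b h t => by
    rw [sympT_add_vec hA (sympBilin_ratVec_eq_zero h)]
    exact H.mul_mem (H.mul_mem (hrat u _) (hrat w _)) (hSall _ u w h)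
  have hplus : ∀ x ∈ transCentres hA H, ∀ u (a : F), x + a • ratVec F₀ u ∈ transCentres hA H := by
    intro x hx u a
    rcases eq_or_ne a 0 with rfl | ha
    · rwa [zero_smul, add_zero]
    by_cases hxu : sympBilin 2 F x (ratVec F₀ u) = 0
    swap
    · simpa using transCentres_span hx (hrat u) hxu 1 a
    rcases eq_or_ne u 0 with rfl | hu
    · rwa [ratVec_zero, smul_zero, add_zero]
    by_cases hgood : ∃ w, sympBilin 2 F₀ u w ≠ 0 ∧ sympBilin 2 F x (ratVec F₀ w) ≠ 0 ∧
        sympBilin 2 F x (ratVec F₀ w) + a * sympBilin 2 F (ratVec F₀ u) (ratVec F₀ w) ≠ 0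
    · obtain ⟨w, hw1, hw2, hw3⟩ := hgood
      have hw1' : sympBilin 2 F (ratVec F₀ u) (ratVec F₀ w) ≠ 0 := by
        rw [sympBilin_ratVec]; exact fun h => hw1 (Subtype.ext h)
      have s1 := transCentres_span hx (hrat w) hw2 1 1
      rw [one_smul, one_smul] at s1
      have s2 := transCentres_span s1 (hrat u) (by
        rw [map_add, LinearMap.add_apply, hxu, zero_add]
        exact fun h => hw1' (hA.isRefl _ _ h)) 1 a
      rw [one_smul] at s2
      have s3 := transCentres_span s2 (hrat w) (by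
        simp only [map_add, map_smul, LinearMap.add_apply, LinearMap.smul_apply, hA _, smul_eq_mul, add_zero]
        exact hw3) 1 (-1)
      convert s3 using 1
      module
    · -- then `x` is a multiple of a rational vector
      push Not at hgood
      have hu' : ∃ w₀, sympBilin 2 F₀ u w₀ = 1 := exists_hyperbolic_partner hB₀ hu
      obtain ⟨w₀, hw₀⟩ := hu'
      have hval : ∀ w, ∃ j : F₀, sympBilin 2 F x (ratVec F₀ w) = a * j := by
        have hA1 : ∀ w, sympBilin 2 F₀ u w = 1 → sympBilin 2 F x (ratVec F₀ w) = 0 ∨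
            sympBilin 2 F x (ratVec F₀ w) = -a := fun w hw => by
          by_cases h : sympBilin 2 F x (ratVec F₀ w) = 0
          · exact Or.inl h
          · have := hgood w (by rw [hw]; exact one_ne_zero) h
            rw [sympBilin_ratVec, hw, OneMemClass.coe_one, mul_one] at this
            exact Or.inr (eq_neg_of_add_eq_zero_left this)
        intro w
        set k := w - sympBilin 2 F₀ u w • w₀
        have hk : sympBilin 2 F₀ u (w₀ + k) = 1 := by simp [k, hw₀]
        have hwk : w = sympBilin 2 F₀ u w • w₀ + ((w₀ + k) - w₀) := by simp [k]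
        have he : sympBilin 2 F x (ratVec F₀ w) = (sympBilin 2 F₀ u w : F) * sympBilin 2 F x (ratVec F₀ w₀) +
            (sympBilin 2 F x (ratVec F₀ (w₀ + k)) - sympBilin 2 F x (ratVec F₀ w₀)) := by
          conv_lhs => rw [hwk]
          rw [ratVec_add, ratVec_smul, ratVec_sub, map_add, map_smul, map_sub, smul_eq_mul]
        rcases hA1 w₀ hw₀ with h1 | h1 <;> rcases hA1 _ hk with h2 | h2 <;> rw [he, h1, h2]
        · exact ⟨0, by simp⟩
        · exact ⟨-1, by simp⟩
        · exact ⟨1 - sympBilin 2 F₀ u w, by push_cast; ring⟩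
        · exact ⟨-sympBilin 2 F₀ u w, by push_cast; ring⟩
      choose j hj using hval
      let ψ : Module.Dual F₀ (ι4 → F₀) :=
        { toFun := j
          map_add' := fun p q => Subtype.ext (mul_left_cancel₀ ha (by
            rw [← hj, ratVec_add, map_add, hj, hj, Subfield.coe_add, mul_add]))
          map_smul' := fun b p => Subtype.ext (mul_left_cancel₀ ha (by
            rw [← hj, ratVec_smul, map_smul, hj, RingHom.id_apply, smul_eq_mul, smul_eq_mul, Subfield.coe_mul]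
            ring)) }
      set x₀ := (LinearMap.BilinForm.toDual (sympBilin 2 F₀) hB₀).symm ψ
      have hx₀ : ∀ w, sympBilin 2 F₀ x₀ w = j w := fun w =>
        LinearMap.BilinForm.apply_toDual_symm_apply ψ w
      have hx : x = a • ratVec F₀ x₀ := by
        rw [← sub_eq_zero]
        refine (sympBilin_nondegenerate 2 F).1 _ fun z => ?_
        refine LinearMap.congr_fun (ext_on_ratVec (F₀ := F₀) (f := sympBilin 2 F (x - a • ratVec F₀ x₀)) (g := 0)
          fun w => ?_) z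
        rw [map_sub, map_smul, LinearMap.sub_apply, LinearMap.smul_apply, hj, sympBilin_ratVec, hx₀, smul_eq_mul,
          sub_self, LinearMap.zero_apply]
      rw [hx] at hxu ⊢
      rw [map_smul, LinearMap.smul_apply, sympBilin_ratVec, smul_eq_mul] at hxu
      exact hpair x₀ u a a (Subtype.ext ((mul_eq_zero.mp hxu).resolve_left ha))
  refine eq_top_of_transCentres (hA := hA) (sympBilin_nondegenerate 2 F) fun x => ?_
  rw [← (Pi.basisFun F ι4).sum_repr x]
  induction (Finset.univ : Finset ι4) using Finset.induction with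
  | empty => rw [Finset.sum_empty]; exact transCentres_zero hA H
  | insert k s hk ih =>
    rw [Finset.sum_insert hk, add_comm]
    have e : (Pi.basisFun F ι4 k : ι4 → F) = ratVec F₀ (Pi.single k 1) := by
      funext l
      simp only [Pi.basisFun_apply, ratVec, Pi.single_apply]
      split_ifs <;> simp
    rw [e]
    exact hplus _ ih _ _

/-- A centre of a transvection of `H` orthogonal to a rational vector is a multiple of a rational vector. -/
theorem scaled_of_orth [Finite F] (h2 : (2 : F) ≠ 0)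
    (hM : ∀ g : BilinIsom (sympBilin 2 F), RatScaled F₀ g.1.toLinearMap → g ∈ H)
    (hnon : ∀ (c : F) e, e ≠ 0 → sympT (sympBilin_isAlt 2 F) (ratVec F₀ e) c ∈ H → c ∈ F₀)
    {y : ι4 → F} (hy : sympT (sympBilin_isAlt 2 F) y 1 ∈ H) {a : ι4 → F₀} (ha : a ≠ 0)
    (hya : sympBilin 2 F y (ratVec F₀ a) = 0) :
    ∃ (ρ : F) (y₀ : ι4 → F₀), y = ρ • ratVec F₀ y₀ := by
  have hA := sympBilin_isAlt 2 F
  have hA₀ := sympBilin_isAlt 2 F₀
  have hhalf : (2 : F)⁻¹ ∈ F₀ := F₀.inv_mem (by rw [← one_add_one_eq_two]; exact F₀.add_mem F₀.one_mem F₀.one_mem)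
  -- squares of the values on the orthogonal of an annihilated vector are rational
  have hsq : ∀ b w : ι4 → F₀, b ≠ 0 → sympBilin 2 F y (ratVec F₀ b) = 0 → sympBilin 2 F₀ b w = 0 →
      sympBilin 2 F y (ratVec F₀ w) ^ 2 ∈ F₀ := by
    intro b w hb hyb hbw
    set l := sympBilin 2 F y (ratVec F₀ w) with hl
    have hmove : ∀ t ∈ F₀, sympT hA (y + (t * l) • ratVec F₀ b) 1 ∈ H := fun t ht => by
      have h := H.mul_mem (H.mul_mem (sympS_rat_mem hM ht b w) hy) (H.inv_mem (sympS_rat_mem hM ht b w))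
      rwa [sympT_conj, sympS_apply hA (sympBilin_ratVec_eq_zero hbw), hyb, mul_zero, zero_smul, add_zero] at h
    have e : sympT hA (y + ((1 : F) * l) • ratVec F₀ b) 1 * sympT hA (y + ((-1 : F) * l) • ratVec F₀ b) 1 =
        sympT hA y (1 + 1) * sympT hA (ratVec F₀ b) (l ^ 2 + l ^ 2) := by
      refine BilinIsom.ext' fun x => ?_
      simp only [BilinIsom.mul_apply', sympT_apply, map_add, map_smul, LinearMap.add_apply, LinearMap.smul_apply,
        hA y, hA (ratVec F₀ b), hyb, hA.isRefl _ _ hyb, smul_eq_mul, mul_zero, add_zero]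
      module
    have h1 := H.mul_mem (hmove 1 F₀.one_mem) (hmove (-1) (F₀.neg_mem F₀.one_mem))
    rw [e, sympT_add] at h1
    have h2' := hnon _ _ hb ((H.mul_mem_cancel_left (H.mul_mem hy hy)).mp h1)
    have := F₀.mul_mem h2' hhalf
    rwa [show (l ^ 2 + l ^ 2) * (2 : F)⁻¹ = l ^ 2 by field_simp; ring] at this
  obtain ⟨a', ha'n, haa', hya'⟩ : ∃ a', a' ∉ Submodule.span F₀ {a} ∧ sympBilin 2 F₀ a a' = 0 ∧
      sympBilin 2 F y (ratVec F₀ a') = 0 := by
    obtain ⟨w, v, hw, hv, hwv⟩ := SpFour.exists_pair ha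
    set p := sympBilin 2 F y (ratVec F₀ w) with hp
    set q := sympBilin 2 F y (ratVec F₀ v) with hq
    rcases eq_or_ne p 0 with h0 | h0
    · exact ⟨w, SpFour.notMem_of_pair hv (by rw [hwv]; exact one_ne_zero), hw, h0⟩
    have hp2 := hsq a w ha hya hw
    have hq2 := hsq a v ha hya hv
    have hs2 := hsq a (w + v) ha hya (by rw [map_add, hw, hv, add_zero])
    rw [ratVec_add, map_add, ← hp, ← hq] at hs2
    have hpq : p * q ∈ F₀ := by
      have := F₀.mul_mem (F₀.sub_mem (F₀.sub_mem hs2 hp2) hq2) hhalf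
      rwa [show ((p + q) ^ 2 - p ^ 2 - q ^ 2) * (2 : F)⁻¹ = p * q by field_simp; ring] at this
    refine ⟨(⟨p * q, hpq⟩ : F₀) • w - (⟨p ^ 2, hp2⟩ : F₀) • v, SpFour.notMem_of_pair hw ?_, ?_, ?_⟩
    · rw [map_sub, map_smul, map_smul, LinearMap.sub_apply, LinearMap.smul_apply, LinearMap.smul_apply, hA₀ w,
        smul_zero, zero_sub, ← hA₀.neg_eq, hwv, smul_neg, neg_neg, smul_eq_mul, mul_one]
      exact fun h => h0 (pow_eq_zero_iff (n := 2) two_ne_zero |>.mp (congrArg Subtype.val h))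
    · rw [map_sub, map_smul, map_smul, hw, hv, smul_zero, smul_zero, sub_zero]
    · rw [ratVec_sub, ratVec_smul, ratVec_smul, map_sub, map_smul, map_smul, ← hp, ← hq, smul_eq_mul, smul_eq_mul]
      ring
  have ha'0 : a' ≠ 0 := fun h => ha'n (h ▸ Submodule.zero_mem _)
  obtain ⟨w, hwa, hwb⟩ := exists_dual ha'n
  obtain ⟨w', hwb', hwa'⟩ := exists_dual (notMem_span_symm ha ha'n)
  obtain ⟨α, hα⟩ : ∃ α, α = sympBilin 2 F y (ratVec F₀ w') := ⟨_, rfl⟩
  obtain ⟨β, hβ⟩ : ∃ β, β = sympBilin 2 F y (ratVec F₀ w) := ⟨_, rfl⟩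
  have hyy : y = α • ratVec F₀ a + β • ratVec F₀ a' := by
    rw [← sub_eq_zero]
    refine (sympBilin_nondegenerate 2 F).1 _ fun x => ?_
    refine LinearMap.congr_fun (ext_on_ratVec (F₀ := F₀)
      (f := sympBilin 2 F (y - (α • ratVec F₀ a + β • ratVec F₀ a'))) (g := 0) fun u => ?_) x
    obtain ⟨u', hu'⟩ : ∃ u', u' = u - sympBilin 2 F₀ a u • w' - sympBilin 2 F₀ a' u • w := ⟨_, rfl⟩
    obtain ⟨i, j, hij⟩ := mem_pair_of_orth ha ha'n haa' (u := u')
      (by simp [hu', hwa, hwa']) (by simp [hu', hwb, hwb'])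
    have hu : u = i • a + j • a' + sympBilin 2 F₀ a u • w' + sympBilin 2 F₀ a' u • w := by
      rw [← hij, hu']; abel
    have haa := sympBilin_ratVec_eq_zero (F := F) haa'
    rw [hu]
    simp only [ratVec_add, ratVec_smul, map_sub, map_add, map_smul, LinearMap.sub_apply, LinearMap.add_apply,
      LinearMap.smul_apply, LinearMap.zero_apply, sympBilin_ratVec, hya, hya', haa', hA₀.isRefl _ _ haa',
      hA (ratVec F₀ a), hA (ratVec F₀ a'), hA₀ a, hA₀ a', hwa, hwb, hwa', hwb', hα, hβ, smul_eq_mul,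
      ZeroMemClass.coe_zero, OneMemClass.coe_one]
    ring
  have hα2 : α ^ 2 ∈ F₀ := hα ▸ hsq a' w' ha'0 hya' hwb'
  have hβ2 : β ^ 2 ∈ F₀ := hβ ▸ hsq a w ha hya hwa
  rcases eq_or_ne α 0 with h0 | h0
  · exact ⟨β, a', by rw [hyy, h0, zero_smul, zero_add]⟩
  have haa0 : a + a' ≠ 0 := fun h => ha'n (by
    rw [eq_neg_of_add_eq_zero_right h]; exact Submodule.neg_mem _ (Submodule.mem_span_singleton_self a))
  have hd2 := hsq (a + a') (w' - w) haa0 (by rw [ratVec_add, map_add, hya, hya', add_zero])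
    (by simp [map_sub, map_add, hwa, hwb, hwa', hwb'])
  rw [ratVec_sub, map_sub, ← hα, ← hβ] at hd2
  have hαβ : α * β ∈ F₀ := by
    have := F₀.mul_mem (F₀.sub_mem (F₀.add_mem hα2 hβ2) hd2) hhalf
    rwa [show (α ^ 2 + β ^ 2 - (α - β) ^ 2) * (2 : F)⁻¹ = α * β by field_simp; ring] at this
  refine ⟨α, a + (⟨α * β / α ^ 2, F₀.div_mem hαβ hα2⟩ : F₀) • a', ?_⟩
  rw [ratVec_add, ratVec_smul, smul_add, smul_smul, hyy]
  congr 2
  field_simp

theorem image_orth_of_fix [Finite F] (h2 : (2 : F) ≠ 0)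
    (hM : ∀ g : BilinIsom (sympBilin 2 F), RatScaled F₀ g.1.toLinearMap → g ∈ H)
    (hnon : ∀ (c : F) e, e ≠ 0 → sympT (sympBilin_isAlt 2 F) (ratVec F₀ e) c ∈ H → c ∈ F₀)
    {g : BilinIsom (sympBilin 2 F)} (hg : g ∈ H) {e e' : ι4 → F₀} (he : e ≠ 0) (he' : e' ≠ 0) {μ : F}
    (hge : g.1 (ratVec F₀ e) = μ • ratVec F₀ e') {v : ι4 → F₀} (hev : sympBilin 2 F₀ e v = 0) :
    ∃ p, g.1 (ratVec F₀ v) = μ • ratVec F₀ p := by
  have hA := sympBilin_isAlt 2 F
  have hA₀ := sympBilin_isAlt 2 F₀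
  have hμ : μ ≠ 0 := fun h => ratVec_ne_zero he (g.1.map_eq_zero_iff.mp (by rw [hge, h, zero_smul]))
  by_cases hve : v ∈ Submodule.span F₀ {e}
  · obtain ⟨j, rfl⟩ := Submodule.mem_span_singleton.mp hve
    exact ⟨j • e', by rw [ratVec_smul, map_smul, hge, ratVec_smul, smul_comm]⟩
  have key : ∀ u : ι4 → F₀, sympBilin 2 F₀ e u = 0 → ∃ (ρ : F) (y₀ : ι4 → F₀),
      g.1 (ratVec F₀ u) = ρ • ratVec F₀ y₀ := fun u hu => by
    have hs := H.mul_mem (H.mul_mem hg (sympT_rat_mem hM F₀.one_mem u)) (H.inv_mem hg)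
    rw [sympT_conj] at hs
    refine scaled_of_orth h2 hM hnon hs he' ?_
    have h0 := BilinIsom.map_form g (ratVec F₀ u) (ratVec F₀ e)
    rw [hge, map_smul, sympBilin_ratVec_eq_zero (hA₀.isRefl _ _ hu), smul_eq_mul, mul_eq_zero] at h0
    exact h0.resolve_left hμ
  obtain ⟨ρ, y₀, hy⟩ := key v hev
  obtain ⟨ρ', y₁, hy1⟩ := key (v + e) (by rw [map_add, hev, hA₀ e, add_zero])
  rw [ratVec_add, map_add, hy, hge] at hy1
  obtain ⟨f, hf⟩ := exists_hyperbolic_partner (sympBilin_nondegenerate 2 F₀) he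
  have hyn : y₀ ∉ Submodule.span F₀ {e'} := fun h => by
    obtain ⟨j, rfl⟩ := Submodule.mem_span_singleton.mp h
    have h1 : g.1 (ratVec F₀ v) = g.1 ((ρ * j / μ) • ratVec F₀ e) := by
      rw [hy, ratVec_smul, map_smul, hge, smul_smul, smul_smul, div_mul_cancel₀ _ hμ]
    have h2 := g.1.injective h1
    have h3 : (ρ * j / μ) = ((sympBilin 2 F₀ v f : F₀) : F) := by
      have := congrArg (fun x => sympBilin 2 F x (ratVec F₀ f)) h2
      simp only [map_smul, LinearMap.smul_apply, sympBilin_ratVec, hf, smul_eq_mul, OneMemClass.coe_one,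
        mul_one] at this
      exact this.symm
    rw [h3, ← ratVec_smul] at h2
    exact hve (Submodule.mem_span_singleton.mpr ⟨_, (ratVec_injective h2).symm⟩)
  obtain ⟨x, hx, hx'⟩ := exists_dual hyn
  obtain ⟨x', hx₂, hx₂'⟩ := exists_dual (notMem_span_symm he' hyn)
  have e1 := congrArg (fun z => sympBilin 2 F z (ratVec F₀ x')) hy1
  have e2 := congrArg (fun z => sympBilin 2 F z (ratVec F₀ x)) hy1
  simp only [map_add, map_smul, LinearMap.add_apply, LinearMap.smul_apply, sympBilin_ratVec, hx, hx', hx₂, hx₂',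
    smul_eq_mul, ZeroMemClass.coe_zero, OneMemClass.coe_one, mul_zero, mul_one, zero_add, add_zero] at e1 e2
  have hs : ((sympBilin 2 F₀ y₁ x' : F₀) : F) ≠ 0 := fun h => hμ (by rw [e1, h, mul_zero])
  refine ⟨(sympBilin 2 F₀ y₁ x / sympBilin 2 F₀ y₁ x') • y₀, ?_⟩
  rw [hy, ratVec_smul, smul_smul]
  congr 1
  push_cast
  rw [e1, e2]
  field_simp

theorem ratScaled_of_point [Finite F] (h2 : (2 : F) ≠ 0)
    (hM : ∀ g : BilinIsom (sympBilin 2 F), RatScaled F₀ g.1.toLinearMap → g ∈ H)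
    (hnon : ∀ (c : F) e, e ≠ 0 → sympT (sympBilin_isAlt 2 F) (ratVec F₀ e) c ∈ H → c ∈ F₀)
    {g : BilinIsom (sympBilin 2 F)} (hg : g ∈ H) {e e' : ι4 → F₀} (he : e ≠ 0) (he' : e' ≠ 0) {μ : F}
    (hge : g.1 (ratVec F₀ e) = μ • ratVec F₀ e') : RatScaled F₀ g.1.toLinearMap := by
  have hμ : μ ≠ 0 := fun h => ratVec_ne_zero he (g.1.map_eq_zero_iff.mp (by rw [hge, h, zero_smul]))
  obtain ⟨v, hv, hve⟩ := exists_orth_notMem (sympBilin_nondegenerate 2 F₀) (Submodule.span F₀ {e})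
    (by rw [finrank_span_singleton he, finrank_sympSpace]; omega)
  have hev : sympBilin 2 F₀ e v = 0 := hv e (Submodule.mem_span_singleton_self e)
  obtain ⟨x, hx, hxe⟩ := exists_nonorth_of_notMem (sympBilin_isAlt 2 F₀) (sympBilin_nondegenerate 2 F₀)
    (Submodule.span F₀ {v}) (notMem_span_symm he hve)
  obtain ⟨p, hp⟩ := image_orth_of_fix h2 hM hnon hg he he' hge hev
  have hv0 : v ≠ 0 := fun h => hve (h ▸ Submodule.zero_mem _)
  have hp0 : p ≠ 0 := fun h => ratVec_ne_zero hv0 (g.1.map_eq_zero_iff.mp (by rw [hp, h, ratVec_zero, smul_zero]))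
  refine ⟨μ, hμ, fun u => ?_⟩
  set j := sympBilin 2 F₀ e u / sympBilin 2 F₀ e x
  obtain ⟨p₁, hp₁⟩ := image_orth_of_fix h2 hM hnon hg he he' hge (v := u - j • x)
    (by rw [map_sub, map_smul, smul_eq_mul, div_mul_cancel₀ _ hxe, sub_self])
  obtain ⟨p₂, hp₂⟩ := image_orth_of_fix h2 hM hnon hg hv0 hp0 hp (v := x)
    (hx v (Submodule.mem_span_singleton_self v))
  refine ⟨p₁ + j • p₂, ?_⟩
  rw [LinearEquiv.coe_coe, ratVec_add, ratVec_smul, smul_add, ← hp₁, smul_comm, ← hp₂, ← map_smul, ← map_add]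
  congr 1
  rw [ratVec_sub, ratVec_smul, sub_add_cancel]

theorem exists_rat_orth_of_two_ne (h2 : (2 : F) ≠ 0) [Finite F]
    (hM : ∀ g : BilinIsom (sympBilin 2 F), RatScaled F₀ g.1.toLinearMap → g ∈ H)
    (hnon : ∀ (c : F) e, e ≠ 0 → sympT (sympBilin_isAlt 2 F) (ratVec F₀ e) c ∈ H → c ∈ F₀)
    {y : ι4 → F} (hy : sympT (sympBilin_isAlt 2 F) y 1 ∈ H) :
    ∃ a : ι4 → F₀, a ≠ 0 ∧ sympBilin 2 F y (ratVec F₀ a) = 0 := by
  have hA := sympBilin_isAlt 2 F
  have hA₀ := sympBilin_isAlt 2 F₀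
  
  set e : ι4 → F₀ := Pi.single (Sum.inl 0) 1
  have he : e ≠ 0 := fun h => by simpa [e] using congrFun h (Sum.inl 0)
  obtain ⟨f, hef⟩ := exists_hyperbolic_partner (sympBilin_nondegenerate 2 F₀) he
  set E := ratVec F₀ e with hE
  set G := ratVec F₀ f with hG
  have hEG : sympBilin 2 F E G = 1 := by rw [hE, hG, sympBilin_ratVec, hef]; rfl
  have hGE : sympBilin 2 F G E = -1 := by rw [← hA.neg_eq, hEG]
  by_cases hκ : sympBilin 2 F y E = 0
  · exact ⟨e, he, hκ⟩
  set yR := sympBilin 2 F y G • E + (-sympBilin 2 F y E) • G with hyR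
  set y' := y - yR with hy'
  have hRE : sympBilin 2 F yR E = sympBilin 2 F y E := by simp [hyR, hA E, hGE]
  have hRG : sympBilin 2 F yR G = sympBilin 2 F y G := by simp [hyR, hA G, hEG]
  have h'E : sympBilin 2 F y' E = 0 := by rw [hy', map_sub, LinearMap.sub_apply, hRE, sub_self]
  have h'G : sympBilin 2 F y' G = 0 := by rw [hy', map_sub, LinearMap.sub_apply, hRG, sub_self]
  have hE' : sympBilin 2 F E y' = 0 := hA.isRefl _ _ h'E
  have hG' : sympBilin 2 F G y' = 0 := hA.isRefl _ _ h'G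
  have hR' : sympBilin 2 F yR y' = 0 := by simp [hyR, hE', hG']
  have hyy : y = yR + y' := by rw [hy', add_sub_cancel]
  -- the involution of the hyperbolic line
  set w := sympT hA E (1 : F) * sympT hA G 1 * sympT hA E 1 with hw
  have hwH : w ∈ H := H.mul_mem (H.mul_mem (sympT_rat_mem hM F₀.one_mem _) (sympT_rat_mem hM F₀.one_mem _))
    (sympT_rat_mem hM F₀.one_mem _)
  have hwE : w.1 E = G := by simp [hw, BilinIsom.mul_apply', sympT_apply, hA E, hA G, hEG, hGE]
  have hwG : w.1 G = -E := by simp [hw, BilinIsom.mul_apply', sympT_apply, hA E, hA G, hEG, hGE]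
  have hw' : w.1 y' = y' := by simp [hw, BilinIsom.mul_apply', sympT_apply, h'E, h'G]
  have hiy : (w * w).1 y = -yR + y' := by
    have hwR : w.1 (w.1 yR) = -yR := by
      simp only [hyR, map_add, map_smul, hwE, hwG, map_neg]
      module
    rw [hyy, BilinIsom.mul_apply', map_add, map_add, hw', hw', hwR]
  have hn : sympS hA yR y' (-2) ∈ H := by
    have h1 := H.mul_mem (H.mul_mem (H.mul_mem (H.mul_mem hwH hwH) hy) (H.inv_mem (H.mul_mem hwH hwH)))
      (H.inv_mem hy)
    rw [sympT_conj, hiy] at h1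
    convert h1 using 1
    rw [eq_mul_inv_iff_mul_eq, hyy]
    refine BilinIsom.ext' fun x => ?_
    have hR'' : sympBilin 2 F y' yR = 0 := hA.isRefl _ _ hR'
    simp only [BilinIsom.mul_apply', sympS_apply hA hR', sympT_apply, map_add, map_neg, map_smul,
      LinearMap.add_apply, LinearMap.neg_apply, LinearMap.smul_apply, hA yR, hA y', hR', hR'', smul_eq_mul, mul_zero,
      add_zero, neg_zero, one_mul]
    module
  have hR'2 : sympBilin 2 F (yR + sympBilin 2 F y E • E) y' = 0 := by simp [hR', hE']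
  have hh : sympS hA (yR + sympBilin 2 F y E • E) y' (-2) ∈ H := by
    have h1 := H.mul_mem (H.mul_mem (sympT_rat_mem hM F₀.one_mem e) hn)
      (H.inv_mem (sympT_rat_mem hM F₀.one_mem e))
    rwa [sympS_conj, sympT_apply, sympT_apply, one_mul, one_mul, ← hE, hRE, h'E, zero_smul, add_zero] at h1
  set M₁ := sympS hA (yR + sympBilin 2 F y E • E) y' (-2) * (sympS hA yR y' (-2))⁻¹ with hM₁
  have hM₁H : M₁ ∈ H := H.mul_mem hh (H.inv_mem hn)
  have hinv : ∀ x, ((sympS hA yR y' (-2))⁻¹).1 x = (sympS hA yR y' 2).1 x := fun x => by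
    congr 2
    refine inv_eq_of_mul_eq_one_right ?_
    rw [← sympS_add hA hR', neg_add_cancel]
    exact BilinIsom.ext' fun z => by rw [sympS_apply hA hR']; simp [BilinIsom.one_apply']
  have hfix : M₁.1 (ratVec F₀ e) = ratVec F₀ e := by
    rw [← hE]
    simp only [hM₁, BilinIsom.mul_apply', hinv, sympS_apply hA hR', sympS_apply hA hR'2, map_add, map_smul,
      LinearMap.add_apply, LinearMap.smul_apply, hE', hR', hA.isRefl _ _ hR', hA y', hA E, h'E, smul_eq_mul, mul_zero,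
      add_zero, zero_smul, zero_mul, ← hE]
    module
  clear_value M₁
  have hex := (ratScaled_of_point h2 hM hnon hM₁H he he (μ := 1) (by rw [one_smul]; exact hfix)).exact_of_fix
    (u₀ := e) (r₀ := e) he hfix
  obtain ⟨r, hr⟩ := hex f
  rw [LinearEquiv.coe_coe, ← hG] at hr
  have hMG : M₁.1 G = G + (2 * sympBilin 2 F y E) • y' := by
    simp only [hM₁, BilinIsom.mul_apply', hinv, sympS_apply hA hR', sympS_apply hA hR'2, map_add, map_smul,
      LinearMap.add_apply, LinearMap.smul_apply, hE', hG', hR', hA.isRefl _ _ hR', hA y', hA E, hGE, h'E, h'G, smul_eq_mul,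
      mul_zero, zero_mul, add_zero, zero_smul, zero_add]
    module
  have hq : (2 * sympBilin 2 F y E) • y' = ratVec F₀ (r - f) := by
    rw [ratVec_sub, ← hr, hMG, ← hG, add_sub_cancel_left]
  obtain ⟨a, ha0, hae, haf, haq⟩ := exists_orth_three (F₀ := F₀) (m := 2) le_rfl e f (r - f)
  refine ⟨a, ha0, ?_⟩
  have hy'a : sympBilin 2 F y' (ratVec F₀ a) = 0 := by
    have h1 : sympBilin 2 F ((2 * sympBilin 2 F y E) • y') (ratVec F₀ a) = 0 := by
      rw [hq]; exact sympBilin_ratVec_eq_zero haq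
    rw [map_smul, LinearMap.smul_apply, smul_eq_mul, mul_eq_zero] at h1
    exact h1.resolve_left (mul_ne_zero h2 hκ)
  rw [hyy, map_add, LinearMap.add_apply, hy'a, add_zero, hyR, map_add, LinearMap.add_apply, map_smul, map_smul,
    LinearMap.smul_apply, LinearMap.smul_apply, hE, hG, sympBilin_ratVec_eq_zero hae, sympBilin_ratVec_eq_zero haf,
    smul_zero, smul_zero, add_zero]


theorem isCoatom_subfield [Finite F] (h2 : (2 : F) ≠ 0) {r : ℕ} (hr : r.Prime)
    (hcard : Nat.card F = Nat.card F₀ ^ r) {M : Subgroup (BilinIsom (sympBilin 2 F))}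
    (hM : ∀ g : BilinIsom (sympBilin 2 F), g ∈ M ↔ RatScaled F₀ g.1.toLinearMap)
    (hne : ∃ t : F, t ∉ F₀) : IsCoatom M := by
  classical
  have hA := sympBilin_isAlt 2 F
  set v := (Pi.single (Sum.inl 0) 1 : ι4 → F₀) with hv
  have hv0 : v ≠ 0 := fun h => by simpa [hv] using congrFun h (Sum.inl 0)
  refine ⟨fun htop => ?_, fun H hlt => ?_⟩
  · obtain ⟨t, ht⟩ := hne
    have hs := (hM _).mp (htop ▸ Subgroup.mem_top (sympT hA (ratVec F₀ v) t))
    obtain ⟨u, hu⟩ := exists_hyperbolic_partner (sympBilin_nondegenerate 2 F₀) hv0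
    have hex := hs.exact_of_fix (u₀ := v) (r₀ := v) hv0 (by
      rw [LinearEquiv.coe_coe, sympT_apply, hA, mul_zero, zero_smul, add_zero])
    obtain ⟨r', hr'⟩ := hex u
    rw [LinearEquiv.coe_coe, sympT_apply, sympBilin_ratVec, ← (sympBilin_isAlt 2 F₀).neg_eq, hu] at hr'
    have h := congrFun hr' (Sum.inl 0)
    simp [ratVec, v] at h
    exact ht (by
      rw [show t = ((u (Sum.inl 0) - r' (Sum.inl 0) : F₀) : F) by push_cast; linear_combination -h]
      exact SetLike.coe_mem _)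
  have hH : ∀ g : BilinIsom (sympBilin 2 F), RatScaled F₀ g.1.toLinearMap → g ∈ H :=
    fun g hg => hlt.le ((hM g).mpr hg)
  by_cases hnon : ∀ (c : F) e, e ≠ 0 → sympT hA (ratVec F₀ e) c ∈ H → c ∈ F₀
  swap
  · push Not at hnon
    obtain ⟨c, e, he, hmem, hc⟩ := hnon
    exact top_of_nonrational hr hcard h2 hH hc he hmem
  exfalso
  obtain ⟨g, hg, hgM⟩ := SetLike.exists_of_lt hlt
  apply hgM
  rw [hM]
  have hy : sympT hA (g.1 (ratVec F₀ v)) 1 ∈ H := by
    have := H.mul_mem (H.mul_mem hg (sympT_rat_mem hH F₀.one_mem v)) (H.inv_mem hg)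
    rwa [sympT_conj] at this
  obtain ⟨a, ha, ha'⟩ := exists_rat_orth_of_two_ne h2 hH hnon hy
  obtain ⟨ρ, y₀, hρ⟩ := scaled_of_orth h2 hH hnon hy ha ha'
  refine ratScaled_of_point h2 hH hnon hg hv0 (fun h0 => ?_) hρ
  rw [h0, ratVec_zero, smul_zero] at hρ
  exact ratVec_ne_zero hv0 (g.1.map_eq_zero_iff.mp hρ)

theorem isMaximalIn_subfield {F : Type u} [Field F] [Fintype F] {F₀ : Subfield F} (h2 : (2 : F) ≠ 0)
    {r : ℕ} (hr : r.Prime) (hcard : Fintype.card F = Nat.card F₀ ^ r)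
    (P : Matrix.GeneralLinearGroup (Fin 2 ⊕ Fin 2) F) (ζ : F) (hζ : ζ ≠ 0)
    (hP : Cfsg.Geo.IsFormRationalStructure (Cfsg.sympForm 2 F) F₀ ζ P) :
    Cfsg.Geo.IsMaximalIn (Cfsg.spGL 2 F) (Cfsg.Geo.subfieldSubgroup F₀ P ⊓ Cfsg.spGL 2 F) :=
  isMaximalIn_subfield_sp_of (by omega) hr
    (fun hg => by
      have hncard : Nat.card F = Nat.card F₀ ^ r := by rw [Nat.card_eq_fintype_card]; exact hcard
      exact isCoatom_subfield h2 hr hncard hg (exists_notMem_subfield hr hncard)) hcard P ζ hζ hP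

end Cfsg.Lib.Classical.SympFour
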