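import Cfsg.Agent.Classical.Subfield.Symp
import Cfsg.Agent.Classical.Subfield.SympMain

set_option autoImplicit false
set_option linter.unusedVariables false
set_option linter.unusedSimpArgs false
set_option linter.unusedSectionVars false
set_option linter.style.haveILetI false

/-! The subfield subgroup of `Sp_2m(q)` is maximal for `m ≥ 3`. -/

namespace Cfsg.Lib.Classical

universe u v

open Matrix

section

variable {F : Type u} [Field F] {V : Type v} [AddCommGroup V] [Module F V] {B : LinearMap.BilinForm F V}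

theorem sympT_inj_two (h2 : (2 : F) = 0) (hA : B.IsAlt) (hB : B.Nondegenerate) {p q : V}
    (h : sympT hA p (1 : F) = sympT hA q 1) : p = q := by
  rw [← sub_eq_zero]
  refine hB.2 _ fun x => ?_
  have h1 := congrArg (fun g : BilinIsom B => B x ((g : V ≃ₗ[F] V) x)) h
  simp only [sympT_apply, one_mul, map_add, map_smul, hA x, smul_eq_mul, zero_add] at h1
  have h3 : (B x p - B x q) ^ 2 = 0 := by linear_combination h1 + (B x q * B x q - B x p * B x q) * h2
  rw [map_sub]
  exact pow_eq_zero_iff (n := 2) two_ne_zero |>.mp h3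

theorem sympT_pair_sum (h2 : (2 : F) = 0) (hA : B.IsAlt) (hB : B.Nondegenerate) {p q p' q' : V} (hpq : B p q = 0)
    (hpq' : B p' q' = 0) (h : sympT hA p (1 : F) * sympT hA q 1 = sympT hA p' 1 * sympT hA q' 1) :
    p + q = p' + q' := by
  rw [← sub_eq_zero]
  refine hB.2 _ fun x => ?_
  have h1 := congrArg (fun g : BilinIsom B => B x ((g : V ≃ₗ[F] V) x)) h
  have hqp : B q p = 0 := hA.isRefl _ _ hpq
  have hqp' : B q' p' = 0 := hA.isRefl _ _ hpq'
  simp only [BilinIsom.mul_apply', sympT_apply, one_mul, map_add, map_smul, LinearMap.add_apply,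
    LinearMap.smul_apply, hA x, hqp, hqp', smul_eq_mul, mul_zero, zero_add, add_zero] at h1
  set P := B x p
  set Q := B x q
  set P' := B x p'
  set Q' := B x q'
  have h3 : (P + Q - (P' + Q')) ^ 2 = 0 := by
    linear_combination h1 + (P' ^ 2 + Q' ^ 2 + P * Q + P' * Q' - (P + Q) * (P' + Q')) * h2
  rw [map_sub, map_add, map_add]
  exact pow_eq_zero_iff (n := 2) two_ne_zero |>.mp h3

end

/-- Two involutions are conjugate in the dihedral group or centralise a common involution. -/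
theorem dihedral_conj_or_commute {G : Type*} [Group G] [Finite G] {s t : G} (hs : s * s = 1) (ht : t * t = 1) :
    (∃ c ∈ Subgroup.closure ({s, t} : Set G), c * t * c⁻¹ = s) ∨
      ∃ z ∈ Subgroup.closure ({s, t} : Set G), z ≠ 1 ∧ z * z = 1 ∧ s * z * s⁻¹ = z ∧ t * z * t⁻¹ = z := by
  set S := Subgroup.closure ({s, t} : Set G)
  set d := s * t with hd
  have hdS : d ∈ S := S.mul_mem (Subgroup.subset_closure (by simp)) (Subgroup.subset_closure (by simp))
  have hsi : s⁻¹ = s := inv_eq_of_mul_eq_one_right hs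
  have hti : t⁻¹ = t := inv_eq_of_mul_eq_one_right ht
  have hpow : ∀ (r : G), r * d * r⁻¹ = d⁻¹ → ∀ j : ℕ, r * d ^ j * r⁻¹ = (d ^ j)⁻¹ := fun r hr j => by
    rw [← conj_pow, hr, inv_pow]
  have h1 : s * d * s⁻¹ = d⁻¹ := by
    rw [hd, _root_.mul_inv_rev, hsi, hti, ← mul_assoc, hs, one_mul]
  have h2 : t * d * t⁻¹ = d⁻¹ := by
    rw [hd, _root_.mul_inv_rev, hsi, hti, mul_assoc, mul_assoc, ht, mul_one]
  have hpos : 0 < orderOf d := (isOfFinOrder_of_finite d).orderOf_pos
  rcases Nat.even_or_odd (orderOf d) with ⟨j, hj⟩ | ⟨j, hj⟩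
  · have hinv : (d ^ j)⁻¹ = d ^ j := inv_eq_of_mul_eq_one_right (by rw [← pow_add, ← hj, pow_orderOf_eq_one])
    exact Or.inr ⟨d ^ j, S.pow_mem hdS j, fun h => by
      have := Nat.le_of_dvd (by omega) (orderOf_dvd_of_pow_eq_one h)
      omega, by rw [← pow_add, ← hj, pow_orderOf_eq_one], by rw [hpow s h1, hinv], by rw [hpow t h2, hinv]⟩
  · refine Or.inl ⟨d ^ (j + 1), S.pow_mem hdS _, ?_⟩
    have e1 : t * (d ^ (j + 1))⁻¹ = d ^ (j + 1) * t := by
      have h := hpow t h2 (j + 1)
      rw [hti] at h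
      calc t * (d ^ (j + 1))⁻¹ = t * (t * d ^ (j + 1) * t) := by rw [h]
        _ = d ^ (j + 1) * t := by rw [← mul_assoc, ← mul_assoc, ht, one_mul]
    rw [mul_assoc, e1, ← mul_assoc, ← pow_add, show j + 1 + (j + 1) = orderOf d + 1 by omega, pow_add,
      pow_orderOf_eq_one, one_mul, pow_one, hd, mul_assoc, ht, mul_one]

variable {F : Type u} [Field F] {m : ℕ} {F₀ : Subfield F} {H : Subgroup (BilinIsom (sympBilin m F))}

local notation "ιm" => (Fin m ⊕ Fin m)

theorem exists_orth_three (hm : 2 ≤ m) (e f q : ιm → F₀) :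
    ∃ a, a ≠ 0 ∧ sympBilin m F₀ e a = 0 ∧ sympBilin m F₀ f a = 0 ∧ sympBilin m F₀ q a = 0 := by
  classical
  set X := Submodule.span F₀ ({e, f, q} : Set (ιm → F₀))
  have h1 := LinearMap.BilinForm.finrank_orthogonal (sympBilin_nondegenerate m F₀) X
  have h3 : Module.finrank F₀ X ≤ 3 := by
    refine (finrank_span_le_card _).trans ?_
    simp only [Set.toFinset_insert, Set.toFinset_singleton]
    exact Finset.card_le_three
  rw [finrank_sympSpace] at h1
  obtain ⟨a, ha, ha0⟩ := Submodule.exists_mem_ne_zero_of_ne_bot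
    (p := (sympBilin m F₀).orthogonal X) (fun h => by rw [h, finrank_bot] at h1; omega)
  exact ⟨a, ha0, ha e (Submodule.subset_span (by simp)), ha f (Submodule.subset_span (by simp)),
    ha q (Submodule.subset_span (by simp))⟩

theorem exists_rat_orth_of_two_ne (h2 : (2 : F) ≠ 0) [Finite F] (hm : 3 ≤ m)
    (hM : ∀ g : BilinIsom (sympBilin m F), RatScaled F₀ g.1.toLinearMap → g ∈ H)
    (hnon : ∀ (c : F) e, e ≠ 0 → sympT (sympBilin_isAlt m F) (ratVec F₀ e) c ∈ H → c ∈ F₀)
    {y : ιm → F} (hy : sympT (sympBilin_isAlt m F) y 1 ∈ H) :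
    ∃ a : ιm → F₀, a ≠ 0 ∧ sympBilin m F y (ratVec F₀ a) = 0 := by
  have hA := sympBilin_isAlt m F
  have hA₀ := sympBilin_isAlt m F₀
  haveI : NeZero m := ⟨by omega⟩
  set e : ιm → F₀ := Pi.single (Sum.inl 0) 1
  have he : e ≠ 0 := fun h => by simpa [e] using congrFun h (Sum.inl 0)
  obtain ⟨f, hef⟩ := exists_hyperbolic_partner (sympBilin_nondegenerate m F₀) he
  set E := ratVec F₀ e with hE
  set G := ratVec F₀ f with hG
  have hEG : sympBilin m F E G = 1 := by rw [hE, hG, sympBilin_ratVec, hef]; rfl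
  have hGE : sympBilin m F G E = -1 := by rw [← hA.neg_eq, hEG]
  by_cases hκ : sympBilin m F y E = 0
  · exact ⟨e, he, hκ⟩
  set yR := sympBilin m F y G • E + (-sympBilin m F y E) • G with hyR
  set y' := y - yR with hy'
  have hRE : sympBilin m F yR E = sympBilin m F y E := by simp [hyR, hA E, hGE]
  have hRG : sympBilin m F yR G = sympBilin m F y G := by simp [hyR, hA G, hEG]
  have h'E : sympBilin m F y' E = 0 := by rw [hy', map_sub, LinearMap.sub_apply, hRE, sub_self]
  have h'G : sympBilin m F y' G = 0 := by rw [hy', map_sub, LinearMap.sub_apply, hRG, sub_self]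
  have hE' : sympBilin m F E y' = 0 := hA.isRefl _ _ h'E
  have hG' : sympBilin m F G y' = 0 := hA.isRefl _ _ h'G
  have hR' : sympBilin m F yR y' = 0 := by simp [hyR, hE', hG']
  have hyy : y = yR + y' := by rw [hy', add_sub_cancel]
  -- the involution of the hyperbolic line
  set w := sympT hA E (1 : F) * sympT hA G 1 * sympT hA E 1 with hw
  have hwH : w ∈ H := H.mul_mem (H.mul_mem (sympT_rat_mem hM F₀.one_mem _) (sympT_rat_mem hM F₀.one_mem _))
    (sympT_rat_mem hM F₀.one_mem _)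
  have hwE : w.1 E = G := by simp [hw, BilinIsom.mul_apply', sympT_apply, hA E, hA G, hEG, hGE]
  have hwG : w.1 G = -E := by simp [hw, BilinIsom.mul_apply', sympT_apply, hA E, hA G, hEG, hGE]
  have hw' : w.1 y' = y' := by simp [hw, BilinIsom.mul_apply', sympT_apply, h'E, h'G]
  have hiy : (w * w).1 y = -yR + y' := by
    have hwR : w.1 (w.1 yR) = -yR := by
      simp only [hyR, map_add, map_smul, hwE, hwG, map_neg]
      module
    rw [hyy, BilinIsom.mul_apply', map_add, map_add, hw', hw', hwR]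
  have hn : sympS hA yR y' (-2) ∈ H := by
    have h1 := H.mul_mem (H.mul_mem (H.mul_mem (H.mul_mem hwH hwH) hy) (H.inv_mem (H.mul_mem hwH hwH)))
      (H.inv_mem hy)
    rw [sympT_conj, hiy] at h1
    convert h1 using 1
    rw [eq_mul_inv_iff_mul_eq, hyy]
    refine BilinIsom.ext' fun x => ?_
    have hR'' : sympBilin m F y' yR = 0 := hA.isRefl _ _ hR'
    simp only [BilinIsom.mul_apply', sympS_apply hA hR', sympT_apply, map_add, map_neg, map_smul,
      LinearMap.add_apply, LinearMap.neg_apply, LinearMap.smul_apply, hA yR, hA y', hR', hR'', smul_eq_mul, mul_zero,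
      add_zero, neg_zero, one_mul]
    module
  have hR'2 : sympBilin m F (yR + sympBilin m F y E • E) y' = 0 := by simp [hR', hE']
  have hh : sympS hA (yR + sympBilin m F y E • E) y' (-2) ∈ H := by
    have h1 := H.mul_mem (H.mul_mem (sympT_rat_mem hM F₀.one_mem e) hn)
      (H.inv_mem (sympT_rat_mem hM F₀.one_mem e))
    rwa [sympS_conj, sympT_apply, sympT_apply, one_mul, one_mul, ← hE, hRE, h'E, zero_smul, add_zero] at h1
  set M₁ := sympS hA (yR + sympBilin m F y E • E) y' (-2) * (sympS hA yR y' (-2))⁻¹ with hM₁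
  have hM₁H : M₁ ∈ H := H.mul_mem hh (H.inv_mem hn)
  have hinv : ∀ x, ((sympS hA yR y' (-2))⁻¹).1 x = (sympS hA yR y' 2).1 x := fun x => by
    congr 2
    refine inv_eq_of_mul_eq_one_right ?_
    rw [← sympS_add hA hR', neg_add_cancel]
    exact BilinIsom.ext' fun z => by rw [sympS_apply hA hR']; simp [BilinIsom.one_apply']
  have hfix : M₁.1 (ratVec F₀ e) = ratVec F₀ e := by
    rw [← hE]
    simp only [hM₁, BilinIsom.mul_apply', hinv, sympS_apply hA hR', sympS_apply hA hR'2, map_add, map_smul,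
      LinearMap.add_apply, LinearMap.smul_apply, hE', hR', hA.isRefl _ _ hR', hA y', hA E, h'E, smul_eq_mul, mul_zero,
      add_zero, zero_smul, zero_mul, ← hE]
    module
  clear_value M₁
  have hex := (ratScaled_of_point hm hM hnon hM₁H he he (μ := 1) (by rw [one_smul]; exact hfix)).exact_of_fix
    (u₀ := e) (r₀ := e) he hfix
  obtain ⟨r, hr⟩ := hex f
  rw [LinearEquiv.coe_coe, ← hG] at hr
  have hMG : M₁.1 G = G + (2 * sympBilin m F y E) • y' := by
    simp only [hM₁, BilinIsom.mul_apply', hinv, sympS_apply hA hR', sympS_apply hA hR'2, map_add, map_smul,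
      LinearMap.add_apply, LinearMap.smul_apply, hE', hG', hR', hA.isRefl _ _ hR', hA y', hA E, hGE, h'E, h'G, smul_eq_mul,
      mul_zero, zero_mul, add_zero, zero_smul, zero_add]
    module
  have hq : (2 * sympBilin m F y E) • y' = ratVec F₀ (r - f) := by
    rw [ratVec_sub, ← hr, hMG, ← hG, add_sub_cancel_left]
  obtain ⟨a, ha0, hae, haf, haq⟩ := exists_orth_three (F₀ := F₀) (by omega) e f (r - f)
  refine ⟨a, ha0, ?_⟩
  have hy'a : sympBilin m F y' (ratVec F₀ a) = 0 := by
    have h1 : sympBilin m F ((2 * sympBilin m F y E) • y') (ratVec F₀ a) = 0 := by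
      rw [hq]; exact sympBilin_ratVec_eq_zero haq
    rw [map_smul, LinearMap.smul_apply, smul_eq_mul, mul_eq_zero] at h1
    exact h1.resolve_left (mul_ne_zero h2 hκ)
  rw [hyy, map_add, LinearMap.add_apply, hy'a, add_zero, hyR, map_add, LinearMap.add_apply, map_smul, map_smul,
    LinearMap.smul_apply, LinearMap.smul_apply, hE, hG, sympBilin_ratVec_eq_zero hae, sympBilin_ratVec_eq_zero haf,
    smul_zero, smul_zero, add_zero]

theorem exists_rat_orth_of_two (h2 : (2 : F) = 0) [Finite F] (hm : 3 ≤ m)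
    (hM : ∀ g : BilinIsom (sympBilin m F), RatScaled F₀ g.1.toLinearMap → g ∈ H)
    (hnon : ∀ (c : F) e, e ≠ 0 → sympT (sympBilin_isAlt m F) (ratVec F₀ e) c ∈ H → c ∈ F₀)
    {y : ιm → F} (hy : sympT (sympBilin_isAlt m F) y 1 ∈ H) :
    ∃ a : ιm → F₀, a ≠ 0 ∧ sympBilin m F y (ratVec F₀ a) = 0 := by
  have hA := sympBilin_isAlt m F
  have hA₀ := sympBilin_isAlt m F₀
  have hB := sympBilin_nondegenerate m F
  have hB₀ := sympBilin_nondegenerate m F₀
  haveI : NeZero m := ⟨by omega⟩
  haveI : Finite (BilinIsom (sympBilin m F)) := Finite.of_injective (fun g => (g.1 : (ιm → F) → (ιm → F)))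
    fun g h hgh => BilinIsom.ext' fun x => congrFun hgh x
  set e : ιm → F₀ := Pi.single (Sum.inl 0) 1
  have he : e ≠ 0 := fun h => by simpa [e] using congrFun h (Sum.inl 0)
  obtain ⟨b, hb, hbe⟩ := exists_orth_notMem hB₀ (Submodule.span F₀ {e})
    (by rw [finrank_span_singleton he, finrank_sympSpace]; omega)
  have heb : sympBilin m F₀ e b = 0 := hb e (Submodule.mem_span_singleton_self e)
  set a₁ := ratVec F₀ e with ha₁
  set b₁ := ratVec F₀ b with hb₁
  have hab : sympBilin m F a₁ b₁ = 0 := sympBilin_ratVec_eq_zero heb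
  have hinvol : ∀ p : ιm → F, sympT hA p (1 : F) * sympT hA p 1 = 1 := fun p => by
    rw [← sympT_add, one_add_one_eq_two, h2, sympT_zero]
  set t := sympT hA y (1 : F) with ht
  set u := sympT hA a₁ (1 : F) * sympT hA b₁ 1 with hu
  have huH : u ∈ H := H.mul_mem (sympT_rat_mem hM F₀.one_mem _) (sympT_rat_mem hM F₀.one_mem _)
  have huu : u * u = 1 := by
    rw [hu, ← mul_assoc, mul_assoc (sympT hA a₁ 1), ← (sympT_commute hA hab 1 1).eq, ← mul_assoc, hinvol, one_mul,
      hinvol]
  have hle : Subgroup.closure ({u, t} : Set _) ≤ H := (Subgroup.closure_le H).mpr (by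
    rintro _ (rfl | rfl)
    exacts [huH, hy])
  rcases dihedral_conj_or_commute huu (hinvol y) with ⟨c, -, hc⟩ | ⟨z, hzS, hz1, hzz, hzu, hzt⟩
  · exfalso
    rw [sympT_conj] at hc
    obtain ⟨x, hx⟩ := exists_hyperbolic_partner hB₀ he
    obtain ⟨x', hx', hbx'⟩ := exists_nonorth_of_notMem hA₀ hB₀ (Submodule.span F₀ {e}) (x := b) hbe
    have hmem : ∀ v, u.1 v - v ∈ Submodule.span F {c.1 y} := fun v => by
      rw [← hc, sympT_apply, add_sub_cancel_left]
      exact Submodule.smul_mem _ _ (Submodule.mem_span_singleton_self _)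
    have h1 := hmem (ratVec F₀ x')
    have h0 : sympBilin m F (ratVec F₀ x') a₁ = 0 :=
      sympBilin_ratVec_eq_zero (hA₀.isRefl _ _ (hx' e (Submodule.mem_span_singleton_self e)))
    simp only [hu, BilinIsom.mul_apply', sympT_apply, one_mul, map_add, map_smul, LinearMap.add_apply,
      LinearMap.smul_apply, hA.isRefl _ _ hab, smul_eq_mul, mul_zero, h0, add_zero, zero_smul,
      add_sub_cancel_left] at h1
    rw [Submodule.smul_mem_iff] at h1
    swap
    · rw [hb₁, sympBilin_ratVec]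
      exact fun h => hbx' (hA₀.isRefl _ _ (Subtype.ext h))
    have h3 := hmem (ratVec F₀ x)
    simp only [hu, BilinIsom.mul_apply', sympT_apply, one_mul, map_add, map_smul, LinearMap.add_apply,
      LinearMap.smul_apply, hA.isRefl _ _ hab, smul_eq_mul, mul_zero, zero_smul, add_zero] at h3
    rw [add_assoc, add_sub_cancel_left] at h3
    have h4 := (Submodule.add_mem_iff_left _ (Submodule.smul_mem _ _ h1)).mp h3
    rw [Submodule.smul_mem_iff] at h4
    swap
    · rw [ha₁, sympBilin_ratVec, ← hA₀.neg_eq, hx]; simp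
    obtain ⟨k, hk⟩ := Submodule.mem_span_singleton.mp h4
    obtain ⟨l, hl⟩ := Submodule.mem_span_singleton.mp h1
    have hk0 : k ≠ 0 := fun h => ratVec_ne_zero he (by rw [← ha₁, ← hk, h, zero_smul])
    have hba : b₁ = (l / k) • a₁ := by rw [← hk, ← hl, smul_smul, div_mul_cancel₀ _ hk0]
    refine hbx' (Subtype.ext ?_)
    have : sympBilin m F b₁ (ratVec F₀ x') = 0 := by
      rw [hba, map_smul, LinearMap.smul_apply, hA.isRefl _ _ h0, smul_zero]
    rw [hb₁, sympBilin_ratVec] at this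
    exact this
  · have hzH : z ∈ H := hle hzS
    have hzi : z⁻¹ = z := inv_eq_of_mul_eq_one_right hzz
    have hcomm : ∀ r, r * z * r⁻¹ = z → z * r * z⁻¹ = r := fun r hr => by
      rw [mul_inv_eq_iff_eq_mul] at hr ⊢
      exact hr.symm
    have hzy : z.1 y = y := by
      have h1 := hcomm t hzt
      rw [ht, sympT_conj] at h1
      exact sympT_inj_two h2 hA hB h1
    have hzab : z.1 (a₁ + b₁) = ratVec F₀ (e + b) := by
      have h1 := hcomm u hzu
      rw [hu, show z * (sympT hA a₁ (1 : F) * sympT hA b₁ 1) * z⁻¹ =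
        z * sympT hA a₁ 1 * z⁻¹ * (z * sympT hA b₁ 1 * z⁻¹) by group, sympT_conj, sympT_conj] at h1
      rw [map_add, ratVec_add, ← ha₁, ← hb₁]
      exact sympT_pair_sum h2 hA hB (by rw [BilinIsom.map_form, hab]) hab h1
    have heb0 : e + b ≠ 0 := fun h => hbe (by
      rw [eq_neg_of_add_eq_zero_right h]
      exact Submodule.neg_mem _ (Submodule.mem_span_singleton_self e))
    rw [ha₁, hb₁, ← ratVec_add] at hzab
    have hex := (ratScaled_of_point hm hM hnon hzH heb0 heb0 (μ := 1) (by rw [one_smul]; exact hzab)).exact_of_fix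
      (u₀ := e + b) heb0 hzab
    obtain ⟨x, hx⟩ : ∃ x : ιm → F₀, z.1 (ratVec F₀ x) ≠ ratVec F₀ x := by
      by_contra hc
      push Not at hc
      exact hz1 (Subtype.ext (LinearEquiv.toLinearMap_injective (ext_on_ratVec (F₀ := F₀) fun v => hc v)))
    obtain ⟨r, hr⟩ := hex x
    rw [LinearEquiv.coe_coe] at hr
    refine ⟨r - x, fun h => hx (by rw [hr, sub_eq_zero.mp h]), ?_⟩
    rw [ratVec_sub, ← hr, map_sub]
    nth_rewrite 1 [← hzy]
    rw [BilinIsom.map_form, sub_self]

theorem isCoatom_subfield_symp_small [Finite F] {r : ℕ} (hr : r.Prime) (hcard : Nat.card F = Nat.card F₀ ^ r)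
    (hm : 3 ≤ m) {M : Subgroup (BilinIsom (sympBilin m F))}
    (hM : ∀ g : BilinIsom (sympBilin m F), g ∈ M ↔ RatScaled F₀ g.1.toLinearMap)
    (hne : ∃ t : F, t ∉ F₀) : IsCoatom M := by
  classical
  have hA := sympBilin_isAlt m F
  haveI : NeZero m := ⟨by omega⟩
  haveI : Nonempty ιm := ⟨Sum.inl 0⟩
  set v := (Pi.single (Sum.inl 0) 1 : ιm → F₀) with hv
  have hv0 : v ≠ 0 := fun h => by simpa [hv] using congrFun h (Sum.inl 0)
  refine ⟨fun htop => ?_, fun H hlt => ?_⟩
  · obtain ⟨t, ht⟩ := hne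
    have hs := (hM _).mp (htop ▸ Subgroup.mem_top (sympT hA (ratVec F₀ v) t))
    obtain ⟨u, hu⟩ := exists_hyperbolic_partner (sympBilin_nondegenerate m F₀) hv0
    have hex := hs.exact_of_fix (u₀ := v) (r₀ := v) hv0 (by
      rw [LinearEquiv.coe_coe, sympT_apply, hA, mul_zero, zero_smul, add_zero])
    obtain ⟨r', hr'⟩ := hex u
    rw [LinearEquiv.coe_coe, sympT_apply, sympBilin_ratVec, ← (sympBilin_isAlt m F₀).neg_eq, hu] at hr'
    have h := congrFun hr' (Sum.inl 0)
    simp [ratVec, v] at h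
    exact ht (by
      rw [show t = ((u (Sum.inl 0) - r' (Sum.inl 0) : F₀) : F) by push_cast; linear_combination -h]
      exact SetLike.coe_mem _)
  have hH : ∀ g : BilinIsom (sympBilin m F), RatScaled F₀ g.1.toLinearMap → g ∈ H :=
    fun g hg => hlt.le ((hM g).mpr hg)
  by_cases hnon : ∀ (c : F) e, e ≠ 0 → sympT hA (ratVec F₀ e) c ∈ H → c ∈ F₀
  swap
  · push Not at hnon
    obtain ⟨c, e, he, hmem, hc⟩ := hnon
    exact top_of_nonrational_symp hr hcard hm hH hc he hmem
  exfalso
  obtain ⟨g, hg, hgM⟩ := SetLike.exists_of_lt hlt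
  apply hgM
  rw [hM]
  have hy : sympT hA (g.1 (ratVec F₀ v)) 1 ∈ H := by
    have := H.mul_mem (H.mul_mem hg (sympT_rat_mem hH F₀.one_mem v)) (H.inv_mem hg)
    rwa [sympT_conj] at this
  obtain ⟨a, ha, ha'⟩ : ∃ a : ιm → F₀, a ≠ 0 ∧ sympBilin m F (g.1 (ratVec F₀ v)) (ratVec F₀ a) = 0 := by
    by_cases h2 : (2 : F) = 0
    · exact exists_rat_orth_of_two h2 hm hH hnon hy
    · exact exists_rat_orth_of_two_ne h2 hm hH hnon hy
  exact ratScaled_of_orth_image hm hH hnon hg hv0 ha ha'

theorem isMaximalIn_subfield_sp_small {F : Type u} [Field F] [Fintype F] {F₀ : Subfield F} {m : ℕ} (hm : 3 ≤ m)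
    {r : ℕ} (hr : r.Prime) (hcard : Fintype.card F = Nat.card F₀ ^ r)
    (P : Matrix.GeneralLinearGroup (Fin m ⊕ Fin m) F) (ζ : F) (hζ : ζ ≠ 0)
    (hP : Cfsg.Geo.IsFormRationalStructure (Cfsg.sympForm m F) F₀ ζ P) :
    Cfsg.Geo.IsMaximalIn (Cfsg.spGL m F) (Cfsg.Geo.subfieldSubgroup F₀ P ⊓ Cfsg.spGL m F) :=
  isMaximalIn_subfield_sp_of (by omega) hr
    (fun hg => by
      have hncard : Nat.card F = Nat.card F₀ ^ r := by rw [Nat.card_eq_fintype_card]; exact hcard
      exact isCoatom_subfield_symp_small hr hncard hm hg (exists_notMem_subfield hr hncard)) hcard P ζ hζ hP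

end Cfsg.Lib.Classical
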